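import Mathlib
import Cfsg.Prelude.Def_Characters
import Cfsg.Agent.Lib.Helper75.Clifford
import Cfsg.Agent.Lib.Helper75.CliffordAct
import Cfsg.Agent.Lib.Helper75.CliffordCorr
import Cfsg.Agent.Lib.Helper75.CliffordCorr2
import Cfsg.Agent.Lib.Helper80.CharOps
import Cfsg.Agent.Lib.Helper80.Orthogonality
import Cfsg.Agent.Lib.Helper80.CharKer
import Cfsg.Agent.Lib.Helper15.LinChar
import Cfsg.Agent.Lib.Helper15.LinIrr
import Cfsg.Agent.Lib.Helper82.AbelianSylow

/-!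
# The "going down" theorem for an abelian chief factor (Isaacs 6.18)
-/

set_option autoImplicit false
set_option linter.unusedSectionVars false

namespace Cfsg.Agent.Lib.Helper81

open scoped ComplexConjugate
open scoped commutatorElement

universe u

/-- a character with nonzero degree has an irreducible constituent -/
theorem exists_constituent81 {H : Type u} [Group H] [Fintype H] {α : H → ℂ}
    (hα : Cfsg.IsCharacter H α) (h1 : α 1 ≠ 0) :
    ∃ φ : H → ℂ, Cfsg.IsIrrCharacter H φ ∧ Cfsg.classInner α φ ≠ 0 := by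
  classical
  have : Fintype (Cfsg.IrrCharacter H) := Fintype.ofFinite _
  obtain ⟨m, hm, hsum⟩ := Helper80.character_expansion hα
  by_contra hcon
  push Not at hcon
  apply h1
  have hz : ∀ χ : Cfsg.IrrCharacter H, m χ = 0 := by
    intro χ
    have h := hcon χ.1 χ.2
    rw [hm χ] at h
    exact_mod_cast h
  rw [hsum]
  simp [hz]

section GoingDown

variable {G : Type u} [Group G] [Fintype G] (K L : Subgroup G) [hK : K.Normal] [hL : L.Normal]
  [Fintype K] [Fintype L] (hLK : L ≤ K)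

/-- the restriction to `L` of a `G`-invariant function on `K` is `G`-invariant -/
theorem res_conj_invariant {ϑ : K → ℂ}
    (hinv : ∀ (g : G) (n : K), ϑ ⟨g * n * g⁻¹, hK.conj_mem (n : G) n.2 g⟩ = ϑ n) (g : G) :
    Helper75.conjChar L (fun x : L => ϑ ⟨x, hLK x.2⟩) g = fun x : L => ϑ ⟨x, hLK x.2⟩ := by
  funext n
  have hmem : g⁻¹ * (n : G) * g ∈ L := by
    have := hL.conj_mem (n : G) n.2 g⁻¹
    rwa [inv_inv] at this
  rw [Helper75.conjChar_val L _ g n hmem]
  have h := hinv g⁻¹ ⟨n, hLK n.2⟩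
  rw [← h]
  congr 1
  apply Subtype.ext
  simp

/-- constituents of the restriction to `L` of an irreducible character of `K` are
`K`-conjugate -/
theorem res_constituents_conj {ϑ : K → ℂ} (hϑ : Cfsg.IsIrrCharacter K ϑ) {φ₁ φ₂ : L → ℂ}
    (h₁ : Cfsg.IsIrrCharacter L φ₁) (h₂ : Cfsg.IsIrrCharacter L φ₂)
    (c₁ : Cfsg.classInner (fun x : L => ϑ ⟨x, hLK x.2⟩) φ₁ ≠ 0)
    (c₂ : Cfsg.classInner (fun x : L => ϑ ⟨x, hLK x.2⟩) φ₂ ≠ 0) :
    ∃ k : K, Helper75.conjChar L φ₁ (k : G) = φ₂ := by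
  have : Fintype (L.subgroupOf K) := Fintype.ofFinite _
  have h₁' : Cfsg.IsIrrCharacter (L.subgroupOf K)
      (fun n' : L.subgroupOf K => φ₁ (Subgroup.subgroupOfEquivOfLe hLK n')) :=
    Helper80.isIrrCharacter_comp_mulEquiv (Subgroup.subgroupOfEquivOfLe hLK) h₁
  have h₂' : Cfsg.IsIrrCharacter (L.subgroupOf K)
      (fun n' : L.subgroupOf K => φ₂ (Subgroup.subgroupOfEquivOfLe hLK n')) :=
    Helper80.isIrrCharacter_comp_mulEquiv (Subgroup.subgroupOfEquivOfLe hLK) h₂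
  have c₁' : Cfsg.classInner (fun n' : L.subgroupOf K => ϑ n')
      (fun n' : L.subgroupOf K => φ₁ (Subgroup.subgroupOfEquivOfLe hLK n')) ≠ 0 := by
    rw [Helper75.classInner_subgroupOf L K hLK]
    exact c₁
  have c₂' : Cfsg.classInner (fun n' : L.subgroupOf K => ϑ n')
      (fun n' : L.subgroupOf K => φ₂ (Subgroup.subgroupOfEquivOfLe hLK n')) ≠ 0 := by
    rw [Helper75.classInner_subgroupOf L K hLK]
    exact c₂
  obtain ⟨k, hk⟩ := Helper75.clifford_conj (L.subgroupOf K) hϑ h₁' h₂' c₁' c₂'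
  refine ⟨k, ?_⟩
  rw [Helper75.conjChar_subgroupOf L K hLK] at hk
  funext x
  have h := congrFun hk ((Subgroup.subgroupOfEquivOfLe hLK).symm x)
  simpa using h

/-- `K ⊓ I_G(φ)` is normal in `G` when `K/L` is abelian and `ϑ` is `G`-invariant -/
theorem inf_inertia_normal (hab : ⁅K, K⁆ ≤ L) {ϑ : K → ℂ} (hϑ : Cfsg.IsIrrCharacter K ϑ)
    (hinv : ∀ (g : G) (n : K), ϑ ⟨g * n * g⁻¹, hK.conj_mem (n : G) n.2 g⟩ = ϑ n)
    {φ : L → ℂ} (hφ : Cfsg.IsIrrCharacter L φ)
    (c : Cfsg.classInner (fun x : L => ϑ ⟨x, hLK x.2⟩) φ ≠ 0) :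
    (K ⊓ Helper75.inertia L φ).Normal := by
  constructor
  intro x hx g
  have hres := res_conj_invariant K L hLK hinv g
  have c' : Cfsg.classInner (fun x : L => ϑ ⟨x, hLK x.2⟩) (Helper75.conjChar L φ g) ≠ 0 := by
    have h := Helper75.classInner_conjChar L (fun x : L => ϑ ⟨x, hLK x.2⟩) φ g
    rw [hres] at h
    rw [h]
    exact c
  obtain ⟨k, hk⟩ := res_constituents_conj K L hLK hϑ hφ
    (Helper75.isIrrCharacter_conjChar L hφ g) c c'
  have ht : (k : G)⁻¹ * g ∈ Helper75.inertia L φ := by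
    rw [Helper75.mem_inertia_iff, Helper75.conjChar_mul, ← hk, ← Helper75.conjChar_mul,
      inv_mul_cancel, Helper75.conjChar_one]
  have hLT : L ≤ Helper75.inertia L φ :=
    Helper75.le_inertia L (Helper80.isClassFunction_of_isCharacter
      (Helper80.isCharacter_of_isIrrCharacter hφ))
  set t : G := (k : G)⁻¹ * g with ht_def
  have hg : g = (k : G) * t := by rw [ht_def]; group
  have hyK : t * x * t⁻¹ ∈ K := hK.conj_mem x hx.1 t
  have hyT : t * x * t⁻¹ ∈ Helper75.inertia L φ :=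
    mul_mem (mul_mem ht hx.2) (inv_mem ht)
  have hcomm : ⁅(k : G), t * x * t⁻¹⁆ ∈ L :=
    hab (Subgroup.commutator_mem_commutator k.2 hyK)
  have heq : g * x * g⁻¹ = ⁅(k : G), t * x * t⁻¹⁆ * (t * x * t⁻¹) := by
    rw [hg, commutatorElement_def]; group
  rw [heq]
  exact ⟨mul_mem (hLK hcomm) hyK, mul_mem (hLT hcomm) hyT⟩

/-- linear characters of `K`, trivial on `L`, fixing `ϑ` under multiplication -/
def twistFixers (ϑ : K → ℂ) : Set (K → ℂ) :=
  {β | Cfsg.IsCharacter K β ∧ β 1 = 1 ∧ (∀ x : K, (x : G) ∈ L → β x = 1) ∧ β * ϑ = ϑ}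

/-- the common kernel of the twist fixers, as a subgroup of `G` -/
def twistKer (ϑ : K → ℂ) : Subgroup G where
  carrier := {g | ∃ h : g ∈ K, ∀ β ∈ twistFixers K L ϑ, β ⟨g, h⟩ = 1}
  mul_mem' := by
    rintro a b ⟨ha, ha'⟩ ⟨hb, hb'⟩
    refine ⟨mul_mem ha hb, fun β hβ => ?_⟩
    have h := Helper15.linChar_mul hβ.1 hβ.2.1 ⟨a, ha⟩ ⟨b, hb⟩
    rw [show (⟨a * b, mul_mem ha hb⟩ : K) = ⟨a, ha⟩ * ⟨b, hb⟩ from rfl, h, ha' β hβ, hb' β hβ,
      one_mul]
  one_mem' := ⟨one_mem K, fun β hβ => hβ.2.1⟩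
  inv_mem' := by
    rintro a ⟨ha, ha'⟩
    refine ⟨inv_mem ha, fun β hβ => ?_⟩
    have h := Helper15.linChar_inv hβ.1 hβ.2.1 ⟨a, ha⟩
    rw [show (⟨a⁻¹, inv_mem ha⟩ : K) = (⟨a, ha⟩ : K)⁻¹ from rfl, h, ha' β hβ, inv_one]

theorem twistKer_le (ϑ : K → ℂ) : twistKer K L ϑ ≤ K := fun _ h => h.1

theorem le_twistKer (hLK : L ≤ K) (ϑ : K → ℂ) : L ≤ twistKer K L ϑ :=
  fun _ hg => ⟨hLK hg, fun _ hβ => hβ.2.2.1 _ hg⟩

theorem twistKer_normal {ϑ : K → ℂ}
    (hinv : ∀ (g : G) (n : K), ϑ ⟨g * n * g⁻¹, hK.conj_mem (n : G) n.2 g⟩ = ϑ n) :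
    (twistKer K L ϑ).Normal := by
  constructor
  rintro x ⟨hx, hx'⟩ g
  refine ⟨hK.conj_mem x hx g, fun β hβ => ?_⟩
  have hβ' : Helper75.conjChar K β g⁻¹ ∈ twistFixers K L ϑ := by
    refine ⟨Helper75.isCharacter_conjChar K hβ.1 g⁻¹, ?_, ?_, ?_⟩
    · rw [Helper75.conjChar_apply_one]; exact hβ.2.1
    · intro y hy
      rw [Helper75.conjChar_inv_apply]
      exact hβ.2.2.1 _ (hL.conj_mem y hy g)
    · funext n
      rw [Pi.mul_apply, Helper75.conjChar_inv_apply, ← hinv g n]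
      exact congrFun hβ.2.2.2 _
  have h := hx' _ hβ'
  rw [Helper75.conjChar_inv_apply] at h
  exact h

theorem eq_zero_of_twistKer_eq {ϑ : K → ℂ} (hU : twistKer K L ϑ = L) (k : K)
    (hk : (k : G) ∉ L) : ϑ k = 0 := by
  by_contra h0
  apply hk
  rw [← hU]
  refine ⟨k.2, fun β hβ => ?_⟩
  have h := congrFun hβ.2.2.2 k
  rw [Pi.mul_apply] at h
  have h2 : (β k - 1) * ϑ k = 0 := by rw [sub_mul, h, one_mul, sub_self]
  rcases mul_eq_zero.1 h2 with h3 | h3
  · exact sub_eq_zero.1 h3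
  · exact absurd h3 h0

theorem sum_K_eq_sum_L (F : K → ℂ) (hF : ∀ k : K, (k : G) ∉ L → F k = 0) :
    ∑ k : K, F k = ∑ x : L, F ⟨x, hLK x.2⟩ := by
  symm
  refine Fintype.sum_of_injective (fun x : L => (⟨x, hLK x.2⟩ : K)) ?_ _ _ ?_ (fun _ => rfl)
  · intro a b h
    exact Subtype.ext (congrArg (fun z : K => (z : G)) h)
  · intro k hk
    apply hF
    intro hkL
    exact hk ⟨⟨k, hkL⟩, rfl⟩

theorem card_K_eq (hLK : L ≤ K) : Nat.card K = Nat.card L * L.relIndex K := by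
  have h := Subgroup.card_mul_index (L.subgroupOf K)
  rw [Nat.card_congr (Subgroup.subgroupOfEquivOfLe hLK).toEquiv] at h
  exact h.symm

theorem sum_res_sq {ϑ : K → ℂ} {φ : L → ℂ} (hφ : Cfsg.IsIrrCharacter L φ) (e : ℕ)
    (hres : (fun x : L => ϑ ⟨x, hLK x.2⟩) = (e : ℂ) • φ) :
    ∑ x : L, ϑ ⟨x, hLK x.2⟩ * conj (ϑ ⟨x, hLK x.2⟩) = (Nat.card L : ℂ) * (e : ℂ) ^ 2 := by
  have h1 : Cfsg.classInner (fun x : L => ϑ ⟨x, hLK x.2⟩) (fun x : L => ϑ ⟨x, hLK x.2⟩)
      = (e : ℂ) ^ 2 := by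
    rw [hres, Helper80.classInner_smul_left, Helper80.classInner_smul_right,
      Helper80.classInner_self hφ, Complex.conj_natCast]
    ring
  unfold Cfsg.classInner at h1
  have hL0 : (Nat.card L : ℂ) ≠ 0 := by
    exact_mod_cast (Nat.card_pos (α := L)).ne'
  rw [← h1, ← mul_assoc, mul_inv_cancel₀ hL0, one_mul]

/-- if `ϑ` vanishes off `L` and restricts to `e φ`, then `e ^ 2 = |K : L|` -/
theorem sq_eq_relIndex_of_vanish {ϑ : K → ℂ} (hϑ : Cfsg.IsIrrCharacter K ϑ)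
    (hvan : ∀ k : K, (k : G) ∉ L → ϑ k = 0) {φ : L → ℂ} (hφ : Cfsg.IsIrrCharacter L φ) (e : ℕ)
    (hres : (fun x : L => ϑ ⟨x, hLK x.2⟩) = (e : ℂ) • φ) :
    e ^ 2 = L.relIndex K := by
  have h1 := Helper80.classInner_self hϑ
  unfold Cfsg.classInner at h1
  rw [sum_K_eq_sum_L K L hLK (fun k => ϑ k * conj (ϑ k))
    (fun k hk => by rw [hvan k hk, zero_mul]), sum_res_sq K L hLK hφ e hres] at h1
  have hK0 : (Nat.card K : ℂ) ≠ 0 := by
    exact_mod_cast (Nat.card_pos (α := K)).ne'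
  have h2 : (Nat.card L : ℂ) * (e : ℂ) ^ 2 = (Nat.card K : ℂ) := by
    field_simp at h1
    exact h1
  have h3 : Nat.card L * e ^ 2 = Nat.card K := by exact_mod_cast h2
  rw [card_K_eq K L hLK] at h3
  exact Nat.eq_of_mul_eq_mul_left Nat.card_pos h3

/-- the quotient `K / L` is commutative -/
theorem quot_comm (hab : ⁅K, K⁆ ≤ L) (a b : K ⧸ L.subgroupOf K) : a * b = b * a := by
  induction a using QuotientGroup.induction_on with | H x => ?_
  induction b using QuotientGroup.induction_on with | H y => ?_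
  rw [← QuotientGroup.mk_mul, ← QuotientGroup.mk_mul, QuotientGroup.eq, Subgroup.mem_subgroupOf]
  have h : (((x * y)⁻¹ * (y * x) : K) : G) = ⁅(y : G)⁻¹, (x : G)⁻¹⁆ := by
    rw [commutatorElement_def]; push_cast; group
  rw [h]
  exact hab (Subgroup.commutator_mem_commutator (inv_mem y.2) (inv_mem x.2))

open scoped Classical in
theorem sum_irr_quot (hab : ⁅K, K⁆ ≤ L) [Fintype (K ⧸ L.subgroupOf K)]
    [Fintype (Cfsg.IrrCharacter (K ⧸ L.subgroupOf K))] (k : K) :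
    ∑ χ : Cfsg.IrrCharacter (K ⧸ L.subgroupOf K),
      (χ : K ⧸ L.subgroupOf K → ℂ) (k : K ⧸ L.subgroupOf K)
      = if (k : G) ∈ L then (L.relIndex K : ℂ) else 0 := by
  classical
  have h := Helper80.second_orthogonality_aux ((k : K ⧸ L.subgroupOf K))
    (1 : K ⧸ L.subgroupOf K)
  have h1 : ∀ χ : Cfsg.IrrCharacter (K ⧸ L.subgroupOf K),
      (χ : K ⧸ L.subgroupOf K → ℂ) 1 = 1 :=
    fun χ => Helper82.irr_one_eq_one_of_comm (quot_comm K L hab) χ.2
  simp only [h1, map_one, mul_one] at h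
  rw [h]
  by_cases hk : (k : G) ∈ L
  · have hk1 : (k : K ⧸ L.subgroupOf K) = 1 :=
      (QuotientGroup.eq_one_iff k).2 (Subgroup.mem_subgroupOf.2 hk)
    rw [if_pos hk, hk1, if_pos (IsConj.refl 1)]
    have hc : Subgroup.centralizer ({1} : Set (K ⧸ L.subgroupOf K)) = ⊤ := by
      rw [Subgroup.centralizer_eq_top_iff_subset]
      intro x hx
      rw [Set.mem_singleton_iff] at hx
      rw [hx]
      exact one_mem _
    rw [hc, Subgroup.card_top, ← Subgroup.index_eq_card]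
    rfl
  · have hk1 : (k : K ⧸ L.subgroupOf K) ≠ 1 :=
      fun h => hk (Subgroup.mem_subgroupOf.1 ((QuotientGroup.eq_one_iff k).1 h))
    rw [if_neg hk, if_neg]
    rw [isConj_one_left]
    exact hk1

open scoped Classical in
theorem sum_twist_inner (hab : ⁅K, K⁆ ≤ L) [Fintype (K ⧸ L.subgroupOf K)]
    [Fintype (Cfsg.IrrCharacter (K ⧸ L.subgroupOf K))] (ϑ : K → ℂ) :
    ∑ χ : Cfsg.IrrCharacter (K ⧸ L.subgroupOf K),
      Cfsg.classInner
        ((fun k : K => (χ : K ⧸ L.subgroupOf K → ℂ) (k : K ⧸ L.subgroupOf K)) * ϑ) ϑ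
      = Cfsg.classInner (fun x : L => ϑ ⟨x, hLK x.2⟩) (fun x : L => ϑ ⟨x, hLK x.2⟩) := by
  unfold Cfsg.classInner
  rw [← Finset.mul_sum, Finset.sum_comm]
  have hk : ∀ k : K, ∑ χ : Cfsg.IrrCharacter (K ⧸ L.subgroupOf K),
      ((fun k : K => (χ : K ⧸ L.subgroupOf K → ℂ) (k : K ⧸ L.subgroupOf K)) * ϑ) k * conj (ϑ k)
      = (if (k : G) ∈ L then (L.relIndex K : ℂ) else 0) * (ϑ k * conj (ϑ k)) := by
    intro k
    rw [← sum_irr_quot K L hab k, Finset.sum_mul]
    refine Finset.sum_congr rfl (fun χ _ => ?_)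
    simp only [Pi.mul_apply]
    ring
  rw [Finset.sum_congr rfl (fun k _ => hk k),
    sum_K_eq_sum_L K L hLK _ (fun k hk => by rw [if_neg hk, zero_mul])]
  have hx : ∀ x : L, (if ((⟨x, hLK x.2⟩ : K) : G) ∈ L then (L.relIndex K : ℂ) else 0) *
      (ϑ ⟨x, hLK x.2⟩ * conj (ϑ ⟨x, hLK x.2⟩)) =
      (L.relIndex K : ℂ) * (ϑ ⟨x, hLK x.2⟩ * conj (ϑ ⟨x, hLK x.2⟩)) := by
    intro x
    rw [if_pos x.2]
  rw [Finset.sum_congr rfl (fun x _ => hx x), ← Finset.mul_sum, card_K_eq K L hLK]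
  have hL0 : (Nat.card L : ℂ) ≠ 0 := by
    exact_mod_cast (Nat.card_pos (α := L)).ne'
  have hr0 : (L.relIndex K : ℂ) ≠ 0 := by
    have h := card_K_eq K L hLK
    have h2 : L.relIndex K ≠ 0 := by
      intro h0
      rw [h0, mul_zero] at h
      exact (Nat.card_pos (α := K)).ne' h
    exact_mod_cast h2
  push_cast
  field_simp

/-- the case of an invariant constituent: `ϑ_L` is irreducible or `e φ` with `e² = |K:L|` -/
theorem going_down_invariant (hab : ⁅K, K⁆ ≤ L)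
    (hchief : ∀ M : Subgroup G, M.Normal → L ≤ M → M ≤ K → M = L ∨ M = K)
    {ϑ : K → ℂ} (hϑ : Cfsg.IsIrrCharacter K ϑ)
    (hinv : ∀ (g : G) (n : K), ϑ ⟨g * n * g⁻¹, hK.conj_mem (n : G) n.2 g⟩ = ϑ n)
    {φ : L → ℂ} (hφ : Cfsg.IsIrrCharacter L φ)
    (c : Cfsg.classInner (fun x : L => ϑ ⟨x, hLK x.2⟩) φ ≠ 0)
    (hT : K ≤ Helper75.inertia L φ) :
    Cfsg.IsIrrCharacter L (fun x : L => ϑ ⟨x, hLK x.2⟩) ∨
    ∃ (φ : L → ℂ) (e : ℕ), Cfsg.IsIrrCharacter L φ ∧
      (fun x : L => ϑ ⟨x, hLK x.2⟩) = (e : ℂ) • φ ∧ e ^ 2 = L.relIndex K := by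
  classical
  obtain ⟨e, he⟩ := Helper80.classInner_nat
    (Helper75.isCharacter_res_le L K hLK (Helper80.isCharacter_of_isIrrCharacter hϑ))
    (Helper80.isCharacter_of_isIrrCharacter hφ)
  have hres : (fun x : L => ϑ ⟨x, hLK x.2⟩) = (e : ℂ) • φ := by
    have h := Helper75.res_eq_smul_of_invariant_le L K hLK hϑ hφ c
      (fun t ht => (Helper75.mem_inertia_iff L φ t).1 (hT ht))
    rw [he] at h
    exact h
  have he0 : e ≠ 0 := by
    rintro rfl
    apply c
    rw [he]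
    simp
  rcases hchief (twistKer K L ϑ) (twistKer_normal K L hinv) (le_twistKer K L hLK ϑ)
    (twistKer_le K L ϑ) with hU | hU
  · right
    exact ⟨φ, e, hφ, hres,
      sq_eq_relIndex_of_vanish K L hLK hϑ (eq_zero_of_twistKer_eq K L hU) hφ e hres⟩
  · left
    have : Fintype (K ⧸ L.subgroupOf K) := Fintype.ofFinite _
    have : Fintype (Cfsg.IrrCharacter (K ⧸ L.subgroupOf K)) := Fintype.ofFinite _
    have hsum := sum_twist_inner K L hLK hab ϑ
    have hrr : Cfsg.classInner (fun x : L => ϑ ⟨x, hLK x.2⟩) (fun x : L => ϑ ⟨x, hLK x.2⟩)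
        = (e : ℂ) ^ 2 := by
      rw [hres, Helper80.classInner_smul_left, Helper80.classInner_smul_right,
        Helper80.classInner_self hφ, Complex.conj_natCast]
      ring
    rw [hrr] at hsum
    have hterm : ∀ χ : Cfsg.IrrCharacter (K ⧸ L.subgroupOf K),
        Cfsg.classInner
          ((fun k : K => (χ : K ⧸ L.subgroupOf K → ℂ) (k : K ⧸ L.subgroupOf K)) * ϑ) ϑ
        = if (χ : K ⧸ L.subgroupOf K → ℂ) = fun _ => 1 then 1 else 0 := by
      intro χ
      have hβirr : Cfsg.IsIrrCharacter K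
          (fun k : K => (χ : K ⧸ L.subgroupOf K → ℂ) (k : K ⧸ L.subgroupOf K)) :=
        Helper80.isIrrCharacter_inflate (L.subgroupOf K) χ.2
      have hβ := Helper80.isCharacter_of_isIrrCharacter hβirr
      have hχ1 : (χ : K ⧸ L.subgroupOf K → ℂ) 1 = 1 :=
        Helper82.irr_one_eq_one_of_comm (quot_comm K L hab) χ.2
      have hβ1 : (fun k : K => (χ : K ⧸ L.subgroupOf K → ℂ) (k : K ⧸ L.subgroupOf K)) 1 = 1 := by
        show (χ : K ⧸ L.subgroupOf K → ℂ) ((1 : K) : K ⧸ L.subgroupOf K) = 1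
        rw [QuotientGroup.mk_one]
        exact hχ1
      rw [Helper80.classInner_irr_fun (Helper15.isIrrCharacter_lin_mul hβ hβ1 hϑ) hϑ]
      by_cases hfix : (fun k : K => (χ : K ⧸ L.subgroupOf K → ℂ) (k : K ⧸ L.subgroupOf K)) * ϑ = ϑ
      · rw [if_pos hfix, if_pos]
        have hmem : (fun k : K => (χ : K ⧸ L.subgroupOf K → ℂ) (k : K ⧸ L.subgroupOf K)) ∈
            twistFixers K L ϑ := by
          refine ⟨hβ, hβ1, ?_, hfix⟩
          intro x hx
          show (χ : K ⧸ L.subgroupOf K → ℂ) (x : K ⧸ L.subgroupOf K) = 1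
          rw [(QuotientGroup.eq_one_iff x).2 (Subgroup.mem_subgroupOf.2 hx)]
          exact hχ1
        funext a
        induction a using QuotientGroup.induction_on with | H k => ?_
        have hk : (k : G) ∈ twistKer K L ϑ := by
          rw [hU]
          exact k.2
        obtain ⟨hk', hk''⟩ := hk
        exact hk'' _ hmem
      · rw [if_neg hfix, if_neg]
        intro hχ
        apply hfix
        funext k
        show (χ : K ⧸ L.subgroupOf K → ℂ) (k : K ⧸ L.subgroupOf K) * ϑ k = ϑ k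
        rw [hχ, one_mul]
    rw [Finset.sum_congr rfl (fun χ _ => hterm χ), Finset.sum_boole] at hsum
    have hcard : (Finset.univ.filter (fun χ : Cfsg.IrrCharacter (K ⧸ L.subgroupOf K) =>
        (χ : K ⧸ L.subgroupOf K → ℂ) = fun _ => 1)).card ≤ 1 := by
      apply Finset.card_le_one.2
      intro a ha b hb
      rw [Finset.mem_filter] at ha hb
      exact Subtype.ext (ha.2.trans hb.2.symm)
    have he2 : e ^ 2 ≤ 1 := by
      have h : (Finset.univ.filter (fun χ : Cfsg.IrrCharacter (K ⧸ L.subgroupOf K) =>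
        (χ : K ⧸ L.subgroupOf K → ℂ) = fun _ => 1)).card = e ^ 2 := by exact_mod_cast hsum
      omega
    have he1 : e = 1 := by nlinarith [Nat.pos_of_ne_zero he0]
    rw [hres, he1, Nat.cast_one, one_smul]
    exact hφ

/-- the case where the inertia group of a constituent meets `K` in `L` -/
theorem res_eq_sum_of_inertia {ϑ : K → ℂ} (hϑ : Cfsg.IsIrrCharacter K ϑ) {φ : L → ℂ}
    (hφ : Cfsg.IsIrrCharacter L φ)
    (c : Cfsg.classInner (fun x : L => ϑ ⟨x, hLK x.2⟩) φ ≠ 0)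
    (hT : K ⊓ Helper75.inertia L φ = L) :
    ∃ F : Finset (L → ℂ), (∀ φ ∈ F, Cfsg.IsIrrCharacter L φ) ∧ F.card = L.relIndex K ∧
      (fun x : L => ϑ ⟨x, hLK x.2⟩) = ∑ φ ∈ F, φ := by
  classical
  have : Fintype (L.subgroupOf K) := Fintype.ofFinite _
  have hφ' : Cfsg.IsIrrCharacter (L.subgroupOf K)
      (fun n' : L.subgroupOf K => φ (Subgroup.subgroupOfEquivOfLe hLK n')) :=
    Helper80.isIrrCharacter_comp_mulEquiv (Subgroup.subgroupOfEquivOfLe hLK) hφ
  have c' : Cfsg.classInner (fun n' : L.subgroupOf K => ϑ n')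
      (fun n' : L.subgroupOf K => φ (Subgroup.subgroupOfEquivOfLe hLK n')) ≠ 0 := by
    rw [Helper75.classInner_subgroupOf L K hLK]
    exact c
  have hI : ∀ t : K, t ∈ L.subgroupOf K ↔ Helper75.conjChar (L.subgroupOf K)
      (fun n' : L.subgroupOf K => φ (Subgroup.subgroupOfEquivOfLe hLK n')) t =
      (fun n' : L.subgroupOf K => φ (Subgroup.subgroupOfEquivOfLe hLK n')) := by
    intro t
    rw [Helper75.conjChar_subgroupOf L K hLK, Subgroup.mem_subgroupOf]
    constructor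
    · intro ht
      have h : (t : G) ∈ Helper75.inertia L φ := by
        rw [← hT] at ht
        exact ht.2
      rw [Helper75.mem_inertia_iff] at h
      rw [h]
    · intro h
      have h2 : (t : G) ∈ K ⊓ Helper75.inertia L φ := by
        refine ⟨t.2, (Helper75.mem_inertia_iff L φ t).2 ?_⟩
        funext x
        have h3 := congrFun h ((Subgroup.subgroupOfEquivOfLe hLK).symm x)
        simpa using h3
      rw [hT] at h2
      exact h2
  obtain ⟨ψ, hψ, -, hψe⟩ := Helper75.clifford_correspondence (L.subgroupOf K) (L.subgroupOf K)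
    (le_refl (L.subgroupOf K)) hϑ hφ' hI c'
  have hψ' : (fun n : L.subgroupOf K => ψ ⟨n, (le_refl (L.subgroupOf K)) n.2⟩) = ψ := rfl
  rw [hψ', Helper80.classInner_irr_fun hψ hφ'] at hψe
  have he : Cfsg.classInner (fun n' : L.subgroupOf K => ϑ n')
      (fun n' : L.subgroupOf K => φ (Subgroup.subgroupOfEquivOfLe hLK n')) = 1 := by
    rw [← hψe]
    by_cases h : ψ = fun n' : L.subgroupOf K => φ (Subgroup.subgroupOfEquivOfLe hLK n')
    · rw [if_pos h]
    · exfalso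
      apply c'
      rw [← hψe, if_neg h]
  have : Fintype (Helper75.Constit (L.subgroupOf K) ϑ) := Fintype.ofFinite _
  have hsum := Helper75.res_eq_smul_sum_constit (L.subgroupOf K) hϑ hφ' c'
  rw [he, one_smul] at hsum
  have hcard := Helper75.card_constit_eq_index_inertia (L.subgroupOf K) hϑ hφ' c'
  have hinert : Helper75.inertia (L.subgroupOf K)
      (fun n' : L.subgroupOf K => φ (Subgroup.subgroupOfEquivOfLe hLK n')) = L.subgroupOf K := by
    ext t
    rw [Helper75.mem_inertia_iff]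
    exact (hI t).symm
  rw [hinert] at hcard
  let f : Helper75.Constit (L.subgroupOf K) ϑ → (L → ℂ) :=
    fun θ' x => (θ'.1 : L.subgroupOf K → ℂ) ((Subgroup.subgroupOfEquivOfLe hLK).symm x)
  have hf : Function.Injective f := by
    intro a b hab'
    apply Subtype.ext
    apply Subtype.ext
    funext n
    have h := congrFun hab' (Subgroup.subgroupOfEquivOfLe hLK n)
    simpa [f] using h
  refine ⟨Finset.univ.image f, ?_, ?_, ?_⟩
  · intro φ₁ hφ₁
    obtain ⟨θ', -, rfl⟩ := Finset.mem_image.1 hφ₁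
    exact Helper80.isIrrCharacter_comp_mulEquiv (Subgroup.subgroupOfEquivOfLe hLK).symm θ'.1.2
  · rw [Finset.card_image_of_injective _ hf, Finset.card_univ, ← Nat.card_eq_fintype_card, hcard]
    rfl
  · rw [Finset.sum_image (fun a _ b _ h => hf h)]
    funext x
    have h := congrFun hsum ((Subgroup.subgroupOfEquivOfLe hLK).symm x)
    simp only [Finset.sum_apply] at h ⊢
    rw [← h]
    congr 1

/-- **Going down** (Isaacs 6.18) -/
theorem going_down (hLK' : L < K)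
    (hchief : ∀ M : Subgroup G, M.Normal → L ≤ M → M ≤ K → M = L ∨ M = K) (hab : ⁅K, K⁆ ≤ L)
    (ϑ : K → ℂ) (hϑ : Cfsg.IsIrrCharacter K ϑ)
    (hinv : ∀ (g : G) (n : K), ϑ ⟨g * n * g⁻¹, hK.conj_mem (n : G) n.2 g⟩ = ϑ n) :
    Cfsg.IsIrrCharacter L (fun x : L => ϑ ⟨(x : G), hLK'.le x.2⟩) ∨
    (∃ (φ : L → ℂ) (e : ℕ), Cfsg.IsIrrCharacter L φ ∧
      (fun x : L => ϑ ⟨(x : G), hLK'.le x.2⟩) = (e : ℂ) • φ ∧ e ^ 2 = L.relIndex K) ∨
    (∃ F : Finset (L → ℂ), (∀ φ ∈ F, Cfsg.IsIrrCharacter L φ) ∧ F.card = L.relIndex K ∧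
      (fun x : L => ϑ ⟨(x : G), hLK'.le x.2⟩) = ∑ φ ∈ F, φ) := by
  have hLK := hLK'.le
  have hχ := Helper75.isCharacter_res_le L K hLK (Helper80.isCharacter_of_isIrrCharacter hϑ)
  obtain ⟨φ, hφ, c⟩ := exists_constituent81 hχ (Helper80.char_one_ne_zero hϑ)
  have hnorm := inf_inertia_normal K L hLK hab hϑ hinv hφ c
  have hLT : L ≤ Helper75.inertia L φ :=
    Helper75.le_inertia L (Helper80.isClassFunction_of_isCharacter
      (Helper80.isCharacter_of_isIrrCharacter hφ))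
  rcases hchief _ hnorm (le_inf hLK hLT) inf_le_left with h | h
  · right
    right
    exact res_eq_sum_of_inertia K L hLK hϑ hφ c h
  · have hKT : K ≤ Helper75.inertia L φ := by
      intro x hx
      rw [← h] at hx
      exact hx.2
    rcases going_down_invariant K L hLK hab hchief hϑ hinv hφ c hKT with h1 | h1
    · left
      exact h1
    · right
      left
      exact h1

end GoingDown

end Cfsg.Agent.Lib.Helper81
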