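import Mathlib
import Cfsg.Prelude.Def_Characters
import Cfsg.Agent.Lib.Helper81.GoingDown
import Cfsg.Agent.Lib.Helper3.Monomial

/-!
# Relative M-groups (Isaacs 6.22)
-/

set_option autoImplicit false
set_option linter.unusedSectionVars false

namespace Cfsg.Agent.Lib.Helper81

open scoped ComplexConjugate
open scoped commutatorElement

universe u

/-- in a solvable group, a subgroup contained in its own commutator subgroup is trivial -/
theorem eq_bot_of_le_commutator_self {Q : Type*} [Group Q] [Group.IsSolvable Q] (A : Subgroup Q)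
    (h : A ≤ ⁅A, A⁆) : A = ⊥ := by
  have key : ∀ n, A ≤ derivedSeries Q n := by
    intro n
    induction n with
    | zero => exact le_top
    | succ n ih => exact h.trans (Subgroup.commutator_mono ih ih)
  obtain ⟨n, hn⟩ := Group.IsSolvable.solvable (G := Q)
  rw [eq_bot_iff, ← hn]
  exact key n

/-- an abelian chief factor below `K` above `N` when `G / N` is solvable -/
theorem exists_chief_abelian {G : Type u} [Group G] [Finite G] (N : Subgroup G) [N.Normal]
    (hsolv : Group.IsSolvable (G ⧸ N)) (K : Subgroup G) [K.Normal] (hNK : N < K) :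
    ∃ M : Subgroup G, M.Normal ∧ N ≤ M ∧ M < K ∧
      (∀ M' : Subgroup G, M'.Normal → M ≤ M' → M' ≤ K → M' = M ∨ M' = K) ∧ ⁅K, K⁆ ≤ M := by
  have hD : ⁅K, K⁆ ⊔ N < K := by
    refine lt_of_le_of_ne (sup_le (Subgroup.commutator_le_right K K) hNK.le) ?_
    intro heq
    have h1 : K.map (QuotientGroup.mk' N) ≤
        ⁅K.map (QuotientGroup.mk' N), K.map (QuotientGroup.mk' N)⁆ := by
      rw [← Subgroup.map_commutator]
      conv_lhs => rw [← heq]
      rw [Subgroup.map_sup, QuotientGroup.map_mk'_self]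
      exact sup_le le_rfl bot_le
    have h2 := eq_bot_of_le_commutator_self _ h1
    have h3 : K ≤ N := by
      intro k hk
      have h4 : (QuotientGroup.mk' N) k ∈ K.map (QuotientGroup.mk' N) :=
        Subgroup.mem_map_of_mem _ hk
      rw [h2, Subgroup.mem_bot] at h4
      exact (QuotientGroup.eq_one_iff k).1 h4
    exact absurd (le_antisymm h3 hNK.le) hNK.ne'
  obtain ⟨M, hM, hmax⟩ := (wellFounded_gt (α := Subgroup G)).has_min
    {M : Subgroup G | M.Normal ∧ ⁅K, K⁆ ⊔ N ≤ M ∧ M < K} ⟨_, ⟨inferInstance, le_rfl, hD⟩⟩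
  refine ⟨M, hM.1, le_sup_right.trans hM.2.1, hM.2.2, ?_, le_sup_left.trans hM.2.1⟩
  intro M' hM'n hMM' hM'K
  by_cases h : M' = K
  · exact Or.inr h
  · left
    by_contra hne
    exact hmax M' ⟨hM'n, hM.2.1.trans hMM', lt_of_le_of_ne hM'K h⟩
      (lt_of_le_of_ne hMM' (Ne.symm hne))

theorem solvable_quot_subgroupOf {G : Type u} [Group G] (N : Subgroup G) [N.Normal]
    (hsolv : Group.IsSolvable (G ⧸ N)) (T : Subgroup G) :
    Group.IsSolvable (T ⧸ N.subgroupOf T) := by
  apply Group.isSolvable_of_isSolvable_injective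
    (f := QuotientGroup.map (N.subgroupOf T) N T.subtype
      (show N.subgroupOf T ≤ Subgroup.comap T.subtype N from le_rfl))
  rw [injective_iff_map_eq_one]
  intro x hx
  induction x using QuotientGroup.induction_on with | H t => ?_
  rw [QuotientGroup.map_mk, QuotientGroup.eq_one_iff] at hx
  exact (QuotientGroup.eq_one_iff t).2 (Subgroup.mem_subgroupOf.2 hx)

/-- the "non-square chief factors" hypothesis of Isaacs 6.22 -/
def NonSqChief {G : Type u} [Group G] (N : Subgroup G) : Prop :=
  ∀ (H K L : Subgroup G), N ≤ L → L < K → K ≤ H → (∀ h ∈ H, ∀ k ∈ K, h * k * h⁻¹ ∈ K) →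
    (∀ h ∈ H, ∀ l ∈ L, h * l * h⁻¹ ∈ L) →
    (∀ M : Subgroup G, L ≤ M → M ≤ K → (∀ h ∈ H, ∀ m ∈ M, h * m * h⁻¹ ∈ M) → M = L ∨ M = K) →
    ¬ IsSquare (L.relIndex K)

theorem nonSqChief_subgroupOf {G : Type u} [Group G] (N T : Subgroup G) (hNT : N ≤ T)
    (h : NonSqChief N) : NonSqChief (N.subgroupOf T) := by
  intro H' K' L' hNL hLK hKH hHK hHL hch
  have hinj := T.subtype_injective
  have key := h (H'.map T.subtype) (K'.map T.subtype) (L'.map T.subtype) ?_ ?_ ?_ ?_ ?_ ?_
  · rwa [Subgroup.relIndex_map_map_of_injective _ _ hinj] at key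
  · intro n hn
    exact ⟨⟨n, hNT hn⟩, hNL (Subgroup.mem_subgroupOf.2 hn), rfl⟩
  · exact (Subgroup.map_lt_map_iff_of_injective hinj).2 hLK
  · exact Subgroup.map_mono hKH
  · rintro _ ⟨h', hh', rfl⟩ _ ⟨k', hk', rfl⟩
    exact ⟨h' * k' * h'⁻¹, hHK h' hh' k' hk', by simp⟩
  · rintro _ ⟨h', hh', rfl⟩ _ ⟨l', hl', rfl⟩
    exact ⟨h' * l' * h'⁻¹, hHL h' hh' l' hl', by simp⟩
  · intro M hLM hMK hHM
    have hKT : K'.map T.subtype ≤ T := by
      rintro _ ⟨y, -, rfl⟩
      exact y.2
    have hMT : M ≤ T := hMK.trans hKT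
    have a1 : L' ≤ M.subgroupOf T := by
      intro x hx
      exact Subgroup.mem_subgroupOf.2 (hLM ⟨x, hx, rfl⟩)
    have a2 : M.subgroupOf T ≤ K' := by
      intro x hx
      obtain ⟨y, hy, hyx⟩ := hMK (Subgroup.mem_subgroupOf.1 hx)
      have hyx' : y = x := Subtype.ext hyx
      rwa [← hyx']
    have a3 : ∀ h ∈ H', ∀ m ∈ M.subgroupOf T, h * m * h⁻¹ ∈ M.subgroupOf T := by
      intro h' hh' m hm
      apply Subgroup.mem_subgroupOf.2
      have h2 := hHM h' ⟨h', hh', rfl⟩ m (Subgroup.mem_subgroupOf.1 hm)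
      simpa using h2
    rcases hch (M.subgroupOf T) a1 a2 a3 with h1 | h1
    · left
      have h5 := Subgroup.map_subgroupOf_eq_of_le hMT
      rw [h1] at h5
      exact h5.symm
    · right
      have h5 := Subgroup.map_subgroupOf_eq_of_le hMT
      rw [h1] at h5
      exact h5.symm

/-- **Isaacs 6.22**: relative M-groups -/
theorem relM_aux : ∀ (n : ℕ) (G : Type u) [Group G] [Fintype G] (N : Subgroup G) [N.Normal],
    Nat.card G = n → Group.IsSolvable (G ⧸ N) → NonSqChief N →
    ∀ χ : G → ℂ, Cfsg.IsIrrCharacter G χ →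
    ∃ (H : Subgroup G) (hNH : N ≤ H) (ψ : H → ℂ), Cfsg.IsIrrCharacter H ψ ∧
      Cfsg.indFun H ψ = χ ∧ Cfsg.IsIrrCharacter N (fun n : N => ψ ⟨(n : G), hNH n.2⟩) := by
  intro n
  induction n using Nat.strong_induction_on with
  | _ n ih =>
  intro G _ _ N _ hn hsolv hch χ hχ
  classical
  have hχc := Helper80.isCharacter_of_isIrrCharacter hχ
  have htop : Cfsg.IsIrrCharacter (⊤ : Subgroup G) (fun k : (⊤ : Subgroup G) => χ k) :=
    Helper80.isIrrCharacter_comp_mulEquiv Subgroup.topEquiv hχ
  obtain ⟨K, hK, hmin⟩ := (wellFounded_lt (α := Subgroup G)).has_min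
    {K : Subgroup G | K.Normal ∧ N ≤ K ∧ Cfsg.IsIrrCharacter K (fun k : K => χ k)}
    ⟨⊤, ⟨inferInstance, le_top, htop⟩⟩
  obtain ⟨hKn, hNK, hKirr⟩ := hK
  by_cases hKN : K = N
  · subst hKN
    exact ⟨⊤, le_top, fun k => χ k, htop,
      Helper3.indFun_top_eq (Helper80.isClassFunction_of_isCharacter hχc), hKirr⟩
  · have hlt : N < K := lt_of_le_of_ne hNK (Ne.symm hKN)
    obtain ⟨M, hMn, hNM, hMK, hchief, hab⟩ := exists_chief_abelian N hsolv K hlt
    have : Fintype K := Fintype.ofFinite _
    have : Fintype M := Fintype.ofFinite _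
    have hns : ¬ IsSquare (M.relIndex K) := by
      apply hch ⊤ K M hNM hMK le_top (fun h _ k hk => hKn.conj_mem k hk h)
        (fun h _ l hl => hMn.conj_mem l hl h)
      intro M' hMM' hM'K hM'n
      exact hchief M' ⟨fun m hm g => hM'n g (Subgroup.mem_top g) m hm⟩ hMM' hM'K
    rcases going_down K M hMK hchief hab (fun k : K => χ k) hKirr
      (fun g n => Helper80.char_conj_eq hχc (n : G) g) with h1 | h1 | h1
    · exact absurd hMK (hmin M ⟨hMn, hNM, h1⟩)
    · obtain ⟨φ, e, -, -, he⟩ := h1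
      exact absurd ⟨e, by rw [← he]; ring⟩ hns
    · obtain ⟨F, hF, hcard, hsum⟩ := h1
      rw [← hcard] at hns
      have hFne : F.Nonempty := by
        rw [Finset.nonempty_iff_ne_empty]
        intro h0
        apply hns
        rw [h0, Finset.card_empty]
        exact ⟨0, rfl⟩
      obtain ⟨φ₀, hφ₀F⟩ := hFne
      have hφ₀ := hF φ₀ hφ₀F
      have hinner : ∀ φ₁ ∈ F, Cfsg.classInner (fun x : M => χ x) φ₁ = 1 := by
        intro φ₁ hφ₁
        have hsum' : (fun x : M => χ x) = ∑ φ ∈ F, φ := hsum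
        rw [hsum', Helper80.classInner_sum_left,
          Finset.sum_congr rfl (fun φ hφ => Helper80.classInner_irr_fun (hF φ hφ) (hF φ₁ hφ₁)),
          Finset.sum_ite_eq' F φ₁, if_pos hφ₁]
      have hc : Cfsg.classInner (fun x : M => χ x) φ₀ ≠ 0 := by
        rw [hinner φ₀ hφ₀F]
        exact one_ne_zero
      by_cases hT : Helper75.inertia M φ₀ = ⊤
      · exfalso
        have hres := Helper75.res_eq_smul_of_invariant M hχ hφ₀ hc
          ((Helper75.inertia_eq_top_iff M φ₀).1 hT)
        rw [hinner φ₀ hφ₀F, one_smul] at hres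
        have hall : ∀ φ₁ ∈ F, φ₁ = φ₀ := by
          intro φ₁ hφ₁
          have h2 := hinner φ₁ hφ₁
          rw [hres, Helper80.classInner_irr_fun hφ₀ (hF φ₁ hφ₁)] at h2
          by_contra hne
          rw [if_neg (Ne.symm hne)] at h2
          exact zero_ne_one h2
        apply hns
        have hF1 : F = {φ₀} := by
          ext φ₁
          rw [Finset.mem_singleton]
          exact ⟨hall φ₁, fun h => h ▸ hφ₀F⟩
        rw [hF1, Finset.card_singleton]
        exact ⟨1, rfl⟩
      · have hMT : M ≤ Helper75.inertia M φ₀ :=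
          Helper75.le_inertia M (Helper80.isClassFunction_of_isCharacter
            (Helper80.isCharacter_of_isIrrCharacter hφ₀))
        have hNT : N ≤ Helper75.inertia M φ₀ := hNM.trans hMT
        have : Fintype (Helper75.inertia M φ₀) := Fintype.ofFinite _
        obtain ⟨ψ, hψ, hind, -⟩ := Helper75.clifford_correspondence M (Helper75.inertia M φ₀)
          hMT hχ hφ₀ (fun g => Helper75.mem_inertia_iff M φ₀ g) hc
        have hcardT : Nat.card (Helper75.inertia M φ₀) < n := by
          rw [← hn]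
          refine lt_of_le_of_ne (Subgroup.card_le_card_group _) ?_
          intro h
          exact hT (Subgroup.eq_top_of_card_eq _ h)
        obtain ⟨H', hNH', η, hη, hηind, hηN⟩ := ih _ hcardT (Helper75.inertia M φ₀)
          (N.subgroupOf (Helper75.inertia M φ₀)) rfl
          (solvable_quot_subgroupOf N hsolv _) (nonSqChief_subgroupOf N _ hNT hch) ψ hψ
        have hNH : N ≤ H'.map (Helper75.inertia M φ₀).subtype := by
          intro x hx
          exact ⟨⟨x, hNT hx⟩, hNH' (Subgroup.mem_subgroupOf.2 hx), rfl⟩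
        refine ⟨H'.map (Helper75.inertia M φ₀).subtype, hNH,
          fun x => η ((Subgroup.equivMapOfInjective H' (Helper75.inertia M φ₀).subtype
            (Helper75.inertia M φ₀).subtype_injective).symm x),
          Helper80.isIrrCharacter_comp_mulEquiv _ hη, ?_, ?_⟩
        · rw [← Helper3.indFun_trans' (Helper75.inertia M φ₀) H' η, hηind, hind]
        · have h3 := Helper80.isIrrCharacter_comp_mulEquiv
            (Subgroup.subgroupOfEquivOfLe hNT).symm hηN
          convert h3 using 2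
          rename_i x
          beta_reduce
          congr 1
          apply (MulEquiv.symm_apply_eq _).2
          apply Subtype.ext
          rw [Subgroup.coe_equivMapOfInjective_apply]
          simp

end Cfsg.Agent.Lib.Helper81
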