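import Mathlib
import Cfsg.Prelude.Def_Characters
import Cfsg.Agent.Lib.Helper81.RelM
import Cfsg.Agent.Lib.Helper81.MinNormal

/-!
# Dornhoff's theorem (Isaacs 6.23): relative M-groups over a normal A-subgroup are M-groups
-/

set_option autoImplicit false
set_option linter.unusedSectionVars false

namespace Cfsg.Agent.Lib.Helper81

open scoped ComplexConjugate
open scoped commutatorElement

universe u

/-- all Sylow subgroups are abelian -/
def AGroup (X : Type*) [Group X] : Prop :=
  ∀ (p : ℕ) [Fact p.Prime] (P : Sylow p X), ∀ a ∈ P, ∀ b ∈ P, a * b = b * a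

theorem AGroup.of_injective {X Y : Type*} [Group X] [Group Y] (f : X →* Y)
    (hf : Function.Injective f) (hY : AGroup Y) : AGroup X := by
  intro p _ P a ha b hb
  obtain ⟨Q, hQ⟩ := (P.2.map f).exists_le_sylow
  apply hf
  rw [map_mul, map_mul]
  exact hY p Q (f a) (hQ (Subgroup.mem_map_of_mem f ha)) (f b) (hQ (Subgroup.mem_map_of_mem f hb))

theorem AGroup.of_surjective {X Y : Type*} [Group X] [Finite X] [Group Y] (f : X →* Y)
    (hf : Function.Surjective f) (hX : AGroup X) : AGroup Y := by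
  intro p _ Q a ha b hb
  obtain ⟨P, rfl⟩ := Sylow.mapSurjective_surjective hf p Q
  obtain ⟨a', ha', rfl⟩ := ha
  obtain ⟨b', hb', rfl⟩ := hb
  rw [← map_mul, ← map_mul, hX p P a' ha' b' hb']

open scoped IsMulCommutative in
/-- transfer into an abelian subgroup: a central commutator has `z ^ index = 1` -/
theorem pow_index_eq_one_of_central {Y : Type*} [Group Y] [Finite Y] (P : Subgroup Y)
    (hP : ∀ a ∈ P, ∀ b ∈ P, a * b = b * a) {z : Y} (hz : z ∈ Subgroup.center Y)
    (hzc : z ∈ commutator Y) : z ^ P.index = 1 := by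
  have : IsMulCommutative P := ⟨⟨fun a b => Subtype.ext (hP a a.2 b b.2)⟩⟩
  have key : ∀ (k : ℕ) (g₀ : Y), g₀⁻¹ * z ^ k * g₀ ∈ P → g₀⁻¹ * z ^ k * g₀ = z ^ k := by
    intro k g₀ _
    have h := Subgroup.mem_center_iff.1 (pow_mem hz k) g₀
    rw [mul_assoc, ← h, inv_mul_cancel_left]
  have h1 := MonoidHom.transfer_eq_pow (MonoidHom.id P) z key
  have h2 : MonoidHom.transfer (MonoidHom.id P) z = 1 :=
    Abelianization.commutator_subset_ker (MonoidHom.transfer (MonoidHom.id P)) hzc
  rw [h2] at h1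
  have h3 := congrArg Subtype.val h1
  simpa using h3.symm

/-- **Taunt**: in a group with abelian Sylow subgroups, `Z(Y) ∩ Y' = 1` -/
theorem eq_one_of_center_commutator {Y : Type*} [Group Y] [Finite Y] (hA : AGroup Y) {z : Y}
    (hz : z ∈ Subgroup.center Y) (hzc : z ∈ commutator Y) : z = 1 := by
  by_contra hne
  have hord : orderOf z ≠ 1 := fun h => hne (orderOf_eq_one_iff.1 h)
  obtain ⟨p, hp, hpd⟩ := Nat.exists_prime_and_dvd hord
  have : Fact p.Prime := ⟨hp⟩
  have hwo : orderOf (z ^ (orderOf z / p)) = p :=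
    orderOf_pow_orderOf_div (orderOf_pos z).ne' hpd
  have hwz : z ^ (orderOf z / p) ∈ Subgroup.center Y := pow_mem hz _
  have hwc : z ^ (orderOf z / p) ∈ commutator Y := pow_mem hzc _
  have hpg : IsPGroup p (Subgroup.zpowers (z ^ (orderOf z / p))) := by
    apply IsPGroup.of_card (n := 1)
    rw [Nat.card_zpowers, hwo, pow_one]
  obtain ⟨P, hP⟩ := hpg.exists_le_sylow
  have h1 := pow_index_eq_one_of_central (P : Subgroup Y) (hA p P) hwz hwc
  have h2 : p ∣ (P : Subgroup Y).index := by
    have h3 := orderOf_dvd_of_pow_eq_one h1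
    rwa [hwo] at h3
  exact P.not_dvd_index h2

/-- if `X' / K` is central in `X / K` for an A-group `X`, then `X' ≤ K` -/
theorem commutator_le_of_central_mod {X : Type*} [Group X] [Finite X] (hA : AGroup X)
    (K : Subgroup X) [K.Normal] (hK : ∀ c ∈ commutator X, ∀ x : X, ⁅c, x⁆ ∈ K) :
    commutator X ≤ K := by
  intro c hc
  have hAq : AGroup (X ⧸ K) :=
    AGroup.of_surjective (QuotientGroup.mk' K) (QuotientGroup.mk'_surjective K) hA
  have h1 : (c : X ⧸ K) ∈ Subgroup.center (X ⧸ K) := by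
    rw [Subgroup.mem_center_iff]
    intro y
    induction y using QuotientGroup.induction_on with | H x => ?_
    rw [← QuotientGroup.mk_mul, ← QuotientGroup.mk_mul, QuotientGroup.eq]
    have h := hK c⁻¹ (inv_mem hc) x⁻¹
    rw [commutatorElement_def] at h
    simpa [mul_assoc] using h
  have h2 : (c : X ⧸ K) ∈ commutator (X ⧸ K) := by
    have h3 : (commutator X).map (QuotientGroup.mk' K) ≤ commutator (X ⧸ K) := by
      rw [commutator_def, commutator_def, Subgroup.map_commutator]
      exact Subgroup.commutator_mono le_top le_top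
    exact h3 (Subgroup.mem_map_of_mem _ hc)
  exact (QuotientGroup.eq_one_iff c).1 (eq_one_of_center_commutator hAq h1 h2)

/-- an `E`-invariant linear character of `E' = ⁅E, E⁆` is trivial when `E` is an A-group -/
theorem linear_trivial_of_invariant {G : Type u} [Group G] [Finite G] (E : Subgroup G)
    [hE : E.Normal] (hA : AGroup E) (D : Subgroup G) (hD : D = ⁅E, E⁆) (lam : D → ℂ)
    (hlam : Cfsg.IsCharacter D lam) (h1 : lam 1 = 1)
    (hinv : ∀ x ∈ E, ∀ (d : G) (hd : d ∈ D) (hd' : x * d * x⁻¹ ∈ D),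
      lam ⟨x * d * x⁻¹, hd'⟩ = lam ⟨d, hd⟩) :
    ∀ d : D, lam d = 1 := by
  subst hD
  have hDn : (⁅E, E⁆ : Subgroup G).Normal := inferInstance
  let K : Subgroup E :=
    { carrier := {x | ∃ h : (x : G) ∈ ⁅E, E⁆, lam ⟨x, h⟩ = 1}
      mul_mem' := by
        rintro a b ⟨ha, ha'⟩ ⟨hb, hb'⟩
        refine ⟨mul_mem ha hb, ?_⟩
        have h := Helper15.linChar_mul hlam h1 ⟨a, ha⟩ ⟨b, hb⟩
        rw [show (⟨((a * b : E) : G), mul_mem ha hb⟩ : (⁅E, E⁆ : Subgroup G)) =
          ⟨a, ha⟩ * ⟨b, hb⟩ from rfl, h, ha', hb', one_mul]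
      one_mem' := ⟨one_mem _, h1⟩
      inv_mem' := by
        rintro a ⟨ha, ha'⟩
        refine ⟨inv_mem ha, ?_⟩
        have h := Helper15.linChar_inv hlam h1 ⟨a, ha⟩
        rw [show (⟨((a⁻¹ : E) : G), inv_mem ha⟩ : (⁅E, E⁆ : Subgroup G)) =
          (⟨a, ha⟩ : (⁅E, E⁆ : Subgroup G))⁻¹ from rfl, h, ha', inv_one] }
  have hKn : K.Normal := by
    constructor
    rintro x ⟨hx, hx'⟩ g
    refine ⟨hDn.conj_mem x hx g, ?_⟩
    have h := hinv g g.2 x hx (hDn.conj_mem x hx g)
    rw [hx'] at h
    exact h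
  have hcomm : ∀ c : E, c ∈ commutator E → (c : G) ∈ ⁅E, E⁆ := by
    intro c hc
    rw [← Subgroup.map_subtype_commutator E]
    exact ⟨c, hc, rfl⟩
  have hK : ∀ c ∈ commutator E, ∀ x : E, ⁅c, x⁆ ∈ K := by
    intro c hc x
    have hc' := hcomm c hc
    have hci : ((c : G))⁻¹ ∈ ⁅E, E⁆ := inv_mem hc'
    have hcx : (x : G) * (c : G)⁻¹ * (x : G)⁻¹ ∈ ⁅E, E⁆ := hDn.conj_mem _ hci x
    have hmem : ((⁅c, x⁆ : E) : G) ∈ ⁅E, E⁆ := by
      have h : ((⁅c, x⁆ : E) : G) = (c : G) * ((x : G) * (c : G)⁻¹ * (x : G)⁻¹) := by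
        rw [commutatorElement_def]
        push_cast
        group
      rw [h]
      exact mul_mem hc' hcx
    refine ⟨hmem, ?_⟩
    have heq : (⟨((⁅c, x⁆ : E) : G), hmem⟩ : (⁅E, E⁆ : Subgroup G)) =
        ⟨c, hc'⟩ * ⟨(x : G) * (c : G)⁻¹ * (x : G)⁻¹, hcx⟩ := by
      apply Subtype.ext
      show ((⁅c, x⁆ : E) : G) = (c : G) * ((x : G) * (c : G)⁻¹ * (x : G)⁻¹)
      rw [commutatorElement_def]
      push_cast
      group
    rw [heq, Helper15.linChar_mul hlam h1, hinv x x.2 _ hci hcx,
      ← Helper15.linChar_mul hlam h1]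
    have h2 : (⟨c, hc'⟩ * ⟨(c : G)⁻¹, hci⟩ : (⁅E, E⁆ : Subgroup G)) = 1 := by
      apply Subtype.ext
      simp
    rw [h2, h1]
  have hle := commutator_le_of_central_mod hA K hK
  intro d
  have hd : (d : G) ∈ (commutator E).map E.subtype := by
    rw [Subgroup.map_subtype_commutator E]
    exact d.2
  obtain ⟨c, hc, hcd⟩ := hd
  obtain ⟨h, hl⟩ := hle hc
  have hdc : d = ⟨c, h⟩ := Subtype.ext hcd.symm
  rw [hdc, hl]

/-- the derived series of a subgroup, inside the ambient group -/
def dser {G : Type*} [Group G] (N : Subgroup G) : ℕ → Subgroup G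
  | 0 => N
  | (k + 1) => ⁅dser N k, dser N k⁆

theorem dser_normal {G : Type*} [Group G] (N : Subgroup G) [hN : N.Normal] (k : ℕ) :
    (dser N k).Normal := by
  induction k with
  | zero => exact hN
  | succ k ih =>
    have := ih
    exact Subgroup.commutator_normal (dser N k) (dser N k)

theorem dser_le {G : Type*} [Group G] (N : Subgroup G) (k : ℕ) : dser N k ≤ N := by
  induction k with
  | zero => exact le_rfl
  | succ k ih =>
    refine le_trans ?_ ih
    rw [dser, Subgroup.commutator_le]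
    intro a ha b hb
    rw [commutatorElement_def]
    exact mul_mem (mul_mem (mul_mem ha hb) (inv_mem ha)) (inv_mem hb)

theorem map_derivedSeries_eq {G : Type*} [Group G] (N : Subgroup G) (k : ℕ) :
    (derivedSeries N k).map N.subtype = dser N k := by
  induction k with
  | zero =>
    rw [derivedSeries_zero, ← MonoidHom.range_eq_map, Subgroup.range_subtype]
    rfl
  | succ k ih =>
    rw [derivedSeries_succ, Subgroup.map_commutator, ih]
    rfl

theorem exists_dser_eq_bot {G : Type*} [Group G] (N : Subgroup G) [Group.IsSolvable N] :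
    ∃ k, dser N k = ⊥ := by
  obtain ⟨k, hk⟩ := Group.IsSolvable.solvable (G := N)
  exact ⟨k, by rw [← map_derivedSeries_eq, hk, Subgroup.map_bot]⟩

/-- a nonabelian solvable normal subgroup contains a `G`-normal `E` with `E'` abelian and
nontrivial -/
theorem exists_abelian_commutator {G : Type*} [Group G] (N : Subgroup G) [N.Normal]
    [Group.IsSolvable N] (hna : ¬ ∀ a ∈ N, ∀ b ∈ N, a * b = b * a) :
    ∃ E : Subgroup G, E.Normal ∧ E ≤ N ∧ ⁅E, E⁆ ≠ ⊥ ∧
      ∀ a ∈ ⁅E, E⁆, ∀ b ∈ ⁅E, E⁆, a * b = b * a := by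
  classical
  have hex := exists_dser_eq_bot N
  have hm := Nat.find_spec hex
  have h0 : dser N 0 ≠ ⊥ := by
    intro h
    apply hna
    intro a ha b hb
    have ha' : a ∈ dser N 0 := ha
    have hb' : b ∈ dser N 0 := hb
    rw [h, Subgroup.mem_bot] at ha' hb'
    rw [ha', hb']
  have h1 : dser N 1 ≠ ⊥ := by
    intro h
    apply hna
    intro a ha b hb
    have hab : ⁅a, b⁆ ∈ dser N 1 := Subgroup.commutator_mem_commutator ha hb
    rw [h, Subgroup.mem_bot, commutatorElement_eq_one_iff_mul_comm] at hab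
    exact hab
  obtain ⟨m, hm2⟩ : ∃ m, Nat.find hex = m + 2 := by
    have e0 : Nat.find hex ≠ 0 := fun h => h0 (h ▸ hm)
    have e1 : Nat.find hex ≠ 1 := fun h => h1 (h ▸ hm)
    exact ⟨Nat.find hex - 2, by omega⟩
  refine ⟨dser N m, dser_normal N m, dser_le N m, ?_, ?_⟩
  · exact Nat.find_min hex (by omega : m + 1 < Nat.find hex)
  · intro a ha b hb
    have hab : ⁅a, b⁆ ∈ dser N (m + 2) := Subgroup.commutator_mem_commutator ha hb
    rw [← hm2, hm, Subgroup.mem_bot, commutatorElement_eq_one_iff_mul_comm] at hab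
    exact hab

/-- transport of the inner product along an isomorphism -/
theorem classInner_comp_mulEquiv {A B : Type*} [Group A] [Group B] [Fintype A] [Fintype B]
    (e : A ≃* B) (α β : B → ℂ) :
    Cfsg.classInner (fun a => α (e a)) (fun a => β (e a)) = Cfsg.classInner α β := by
  unfold Cfsg.classInner
  rw [Nat.card_congr e.toEquiv]
  congr 1
  exact Fintype.sum_equiv e.toEquiv _ _ (fun _ => rfl)

/-- two characters with nonzero inner product have a common irreducible constituent -/
theorem exists_common_constituent {H : Type u} [Group H] [Fintype H] {α β : H → ℂ}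
    (hβ : Cfsg.IsCharacter H β) (h : Cfsg.classInner α β ≠ 0) :
    ∃ ξ : H → ℂ, Cfsg.IsIrrCharacter H ξ ∧ Cfsg.classInner α ξ ≠ 0 ∧
      Cfsg.classInner β ξ ≠ 0 := by
  classical
  have : Fintype (Cfsg.IrrCharacter H) := Fintype.ofFinite _
  obtain ⟨m, hm, hsum⟩ := Helper80.character_expansion hβ
  by_contra hcon
  push Not at hcon
  apply h
  rw [hsum, Helper80.classInner_sum_right]
  apply Finset.sum_eq_zero
  intro χ _
  rw [Helper80.classInner_smul_right]
  by_cases h0 : Cfsg.classInner α (χ : H → ℂ) = 0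
  · rw [h0, mul_zero]
  · have h1 := hcon χ.1 χ.2 h0
    rw [hm χ] at h1
    rw [h1]
    simp

/-- an irreducible constituent has degree at most the degree of the character -/
theorem charDegree_le_of_constituent {H : Type u} [Group H] [Fintype H] {φ χ : H → ℂ}
    (hφ : Cfsg.IsCharacter H φ) (hχ : Cfsg.IsIrrCharacter H χ)
    (hne : Cfsg.classInner φ χ ≠ 0) : Cfsg.charDegree χ ≤ Cfsg.charDegree φ := by
  have : Fintype (Cfsg.IrrCharacter H) := Fintype.ofFinite _
  by_contra hlt
  push Not at hlt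
  have h := Helper80.eq_of_constituent_of_degree_le hφ hχ hne hlt.le
  rw [h] at hlt
  exact lt_irrefl _ hlt

/-- monomiality passes up through induction from a subgroup -/
theorem monomial_of_subgroup {G : Type u} [Group G] [Fintype G] (T : Subgroup G) [Fintype T]
    (ψ : T → ℂ)
    (h : ∃ (U' : Subgroup T) (lam' : U' → ℂ), Cfsg.IsCharacter U' lam' ∧ lam' 1 = 1 ∧
      Cfsg.indFun U' lam' = ψ) :
    ∃ (U : Subgroup G) (lam : U → ℂ), Cfsg.IsCharacter U lam ∧ lam 1 = 1 ∧
      Cfsg.indFun U lam = Cfsg.indFun T ψ := by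
  obtain ⟨U', lam', hc, h1, hind⟩ := h
  refine ⟨U'.map T.subtype, fun x => lam'
    ((Subgroup.equivMapOfInjective U' T.subtype T.subtype_injective).symm x), ?_, ?_, ?_⟩
  · exact Helper80.isCharacter_comp
      (Subgroup.equivMapOfInjective U' T.subtype T.subtype_injective).symm.toMonoidHom hc
  · show lam' ((Subgroup.equivMapOfInjective U' T.subtype T.subtype_injective).symm 1) = 1
    rw [map_one, h1]
  · rw [← Helper3.indFun_trans' T U' lam', hind]

/-- the isomorphism between the two incarnations of `N ⊓ T` -/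
def infEquiv {G : Type*} [Group G] (N T : Subgroup G) : T.subgroupOf N ≃* N.subgroupOf T where
  toFun b := ⟨⟨((b : N) : G), b.2⟩, (b : N).2⟩
  invFun a := ⟨⟨((a : T) : G), a.2⟩, (a : T).2⟩
  left_inv _ := rfl
  right_inv _ := rfl
  map_mul' _ _ := rfl

/-- if `χ = ψ^G` with `ψ ∈ Irr(T)` and `χ_N` is irreducible, then `ψ` restricted to `N ∩ T` is
irreducible -/
theorem res_inf_irr {G : Type u} [Group G] [Fintype G] (N T : Subgroup G) [Fintype N]
    [Fintype T] [Fintype (N.subgroupOf T)] [Fintype (T.subgroupOf N)] {χ : G → ℂ}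
    (hχ : Cfsg.IsIrrCharacter G χ) (hN : Cfsg.IsIrrCharacter N (fun x : N => χ x))
    {ψ : T → ℂ} (hψ : Cfsg.IsIrrCharacter T ψ) (hind : Cfsg.indFun T ψ = χ) :
    Cfsg.IsIrrCharacter (N.subgroupOf T) (fun x : N.subgroupOf T => ψ x) := by
  classical
  have : Fintype (Cfsg.IrrCharacter (N.subgroupOf T)) := Fintype.ofFinite _
  have hχc := Helper80.isCharacter_of_isIrrCharacter hχ
  have hψc := Helper80.isCharacter_of_isIrrCharacter hψ
  have hα : Cfsg.IsCharacter T (fun t : T => χ t) := Helper80.isCharacter_restrict T hχc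
  -- `ψ` is a constituent of `χ_T`
  have h1 : Cfsg.classInner ψ (fun t : T => χ t) = 1 := by
    rw [← Helper80.frobenius_reciprocity T ψ χ (Helper80.isClassFunction_of_isCharacter hχc),
      hind, Helper80.classInner_self hχ]
  have h2 : Cfsg.classInner (fun t : T => χ t) ψ ≠ 0 := by
    rw [← Helper80.classInner_conj_symm, h1]
    simp
  obtain ⟨c, hc1, hc⟩ := classInner_restrict_pos (N.subgroupOf T).subtype hα hψc h2
  have hζ : Cfsg.IsCharacter (N.subgroupOf T) (fun x : N.subgroupOf T => ψ x) :=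
    Helper80.isCharacter_restrict (N.subgroupOf T) hψc
  have hne : Cfsg.classInner (fun x : N.subgroupOf T => χ ((x : T) : G))
      (fun x : N.subgroupOf T => ψ x) ≠ 0 := by
    have hc' : Cfsg.classInner (fun x : N.subgroupOf T => χ ((x : T) : G))
        (fun x : N.subgroupOf T => ψ x) = c := hc
    rw [hc']
    exact_mod_cast (by omega : c ≠ 0)
  obtain ⟨ξ, hξ, hξα, hξζ⟩ := exists_common_constituent hζ hne
  -- transport `ξ` to `T.subgroupOf N`
  have hξ' : Cfsg.IsIrrCharacter (T.subgroupOf N) (fun b => ξ (infEquiv N T b)) :=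
    Helper80.isIrrCharacter_comp_mulEquiv (infEquiv N T) hξ
  have h3 : Cfsg.classInner (fun b : T.subgroupOf N => χ ((b : N) : G))
      (fun b => ξ (infEquiv N T b)) ≠ 0 := by
    have h4 := classInner_comp_mulEquiv (infEquiv N T)
      (fun x : N.subgroupOf T => χ ((x : T) : G)) ξ
    have h5 : (fun b : T.subgroupOf N => χ ((b : N) : G)) =
        fun b => (fun x : N.subgroupOf T => χ ((x : T) : G)) (infEquiv N T b) := rfl
    rw [h5, h4]
    exact hξα
  have hθc := Helper80.isCharacter_of_isIrrCharacter hN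
  have h6 : Cfsg.classInner (Cfsg.indFun (T.subgroupOf N) (fun b => ξ (infEquiv N T b)))
      (fun x : N => χ x) ≠ 0 := by
    rw [Helper80.frobenius_reciprocity (T.subgroupOf N) _ _
      (Helper80.isClassFunction_of_isCharacter hθc), ← Helper80.classInner_conj_symm]
    intro h
    apply h3
    have h7 := congrArg (starRingEnd ℂ) h
    rw [Complex.conj_conj, map_zero] at h7
    exact h7
  have hindc : Cfsg.IsCharacter N
      (Cfsg.indFun (T.subgroupOf N) (fun b => ξ (infEquiv N T b))) :=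
    Helper80.isCharacter_indFun (T.subgroupOf N) (Helper80.isCharacter_of_isIrrCharacter hξ')
  have d1 := charDegree_le_of_constituent hindc hN h6
  have d2 := charDegree_le_of_constituent hζ hξ hξζ
  -- degree bookkeeping
  have e1 : Cfsg.charDegree (Cfsg.indFun (T.subgroupOf N) (fun b => ξ (infEquiv N T b))) =
      (T.subgroupOf N).index * Cfsg.charDegree ξ := by
    have h8 := Helper80.indFun_one (T.subgroupOf N) (fun b => ξ (infEquiv N T b))
    rw [Helper80.char_one_eq_charDegree hindc] at h8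
    rw [map_one, Helper80.char_one_eq_charDegree (Helper80.isCharacter_of_isIrrCharacter hξ)]
      at h8
    exact_mod_cast h8
  have e2 : Cfsg.charDegree (fun x : N => χ x) = T.index * Cfsg.charDegree ψ := by
    have h8 := Helper80.indFun_one T ψ
    rw [hind, Helper80.char_one_eq_charDegree hχc, Helper80.char_one_eq_charDegree hψc] at h8
    have h9 : χ ((1 : N) : G) = χ 1 := rfl
    rw [Helper80.char_one_eq_charDegree hθc, Helper80.char_one_eq_charDegree hχc] at h9
    have h10 : Cfsg.charDegree (fun x : N => χ x) = Cfsg.charDegree χ := by exact_mod_cast h9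
    rw [h10]
    exact_mod_cast h8
  have e3 : Cfsg.charDegree (fun x : N.subgroupOf T => ψ x) = Cfsg.charDegree ψ := by
    have h9 : ψ ((1 : N.subgroupOf T) : T) = ψ 1 := rfl
    rw [Helper80.char_one_eq_charDegree hζ, Helper80.char_one_eq_charDegree hψc] at h9
    exact_mod_cast h9
  have e4 : (T.subgroupOf N).index ≤ T.index := by
    have h8 : T.relIndex N ≤ T.relIndex ⊤ :=
      Subgroup.relIndex_le_of_le_right le_top (by
        rw [Subgroup.relIndex_top_right]
        exact Subgroup.index_ne_zero_of_finite)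
    rw [Subgroup.relIndex_top_right] at h8
    exact h8
  have hTpos : 0 < T.index := Nat.pos_of_ne_zero Subgroup.index_ne_zero_of_finite
  rw [e1, e2] at d1
  rw [e3] at d2
  have d3 : T.index * Cfsg.charDegree ψ ≤ T.index * Cfsg.charDegree ξ :=
    d1.trans (Nat.mul_le_mul_right _ e4)
  have d4 : Cfsg.charDegree ψ ≤ Cfsg.charDegree ξ := Nat.le_of_mul_le_mul_left d3 hTpos
  have hfin := Helper80.eq_of_constituent_of_degree_le hζ hξ hξζ (by rw [e3]; exact d4)
  rw [hfin]
  exact hξ

/-- if `D ⊴ G` lies in the kernel of `χ`, monomiality of the deflated character gives that of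
`χ` -/
theorem monomial_of_quotient {G : Type u} [Group G] [Fintype G] (D : Subgroup G) [D.Normal]
    [Fintype (G ⧸ D)] (χ : G → ℂ) (ψ : G ⧸ D → ℂ) (hψ : ∀ g : G, ψ (g : G ⧸ D) = χ g)
    (h : ∃ (U' : Subgroup (G ⧸ D)) (lam' : U' → ℂ), Cfsg.IsCharacter U' lam' ∧ lam' 1 = 1 ∧
      Cfsg.indFun U' lam' = ψ) :
    ∃ (U : Subgroup G) (lam : U → ℂ), Cfsg.IsCharacter U lam ∧ lam 1 = 1 ∧
      Cfsg.indFun U lam = χ := by
  obtain ⟨U', lam', hc, h1, hind⟩ := h
  refine ⟨U'.comap (QuotientGroup.mk' D), fun h => lam' ⟨((h : G) : G ⧸ D), h.2⟩, ?_, ?_, ?_⟩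
  · exact Helper80.isCharacter_comp ((QuotientGroup.mk' D).subgroupComap U') hc
  · exact h1
  · funext g
    rw [Helper3.indFun_comap D U' lam' g, hind, hψ]

/-- the deflated character restricted to the image of `N` is irreducible -/
theorem irr_map_of_irr {G : Type u} [Group G] [Finite G] (D N : Subgroup G) [D.Normal]
    (χ : G → ℂ) (hD : ∀ d ∈ D, χ d = χ 1)
    (hN : Cfsg.IsIrrCharacter N (fun x : N => χ x))
    (ψ : G ⧸ D → ℂ) (hψ : ∀ g : G, ψ (g : G ⧸ D) = χ g) :
    Cfsg.IsIrrCharacter (N.map (QuotientGroup.mk' D))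
      (fun y : N.map (QuotientGroup.mk' D) => ψ y) := by
  have hπ := MonoidHom.subgroupMap_surjective (QuotientGroup.mk' D) N
  have hker : ∀ x ∈ ((QuotientGroup.mk' D).subgroupMap N).ker,
      (fun x : N => χ x) x = (fun x : N => χ x) 1 := by
    intro x hx
    rw [MonoidHom.mem_ker] at hx
    have h1 : (QuotientGroup.mk' D) (x : G) = 1 := congrArg Subtype.val hx
    exact hD _ ((QuotientGroup.eq_one_iff (x : G)).1 h1)
  obtain ⟨ψ', hψ', hψ'χ⟩ := Helper80.exists_isIrrCharacter_deflate
    ((QuotientGroup.mk' D).subgroupMap N).ker hN hker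
  have h2 := Helper80.isIrrCharacter_comp_mulEquiv
    (QuotientGroup.quotientKerEquivOfSurjective _ hπ).symm hψ'
  convert h2 using 1
  funext y
  obtain ⟨x, rfl⟩ := hπ y
  have h3 : (QuotientGroup.quotientKerEquivOfSurjective _ hπ).symm
      (((QuotientGroup.mk' D).subgroupMap N) x) =
      (x : N ⧸ ((QuotientGroup.mk' D).subgroupMap N).ker) := by
    apply (MulEquiv.symm_apply_eq _).2
    rfl
  rw [h3, hψ'χ]
  exact hψ (x : G)

/-- **Dornhoff**, core: an irreducible character restricting irreducibly to a solvable normal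
subgroup with abelian Sylow subgroups is monomial -/
theorem dornhoff_aux : ∀ (n : ℕ) (G : Type u) [Group G] [Fintype G] (N : Subgroup G) [N.Normal],
    Nat.card G = n → Group.IsSolvable N → AGroup N →
    ∀ χ : G → ℂ, Cfsg.IsIrrCharacter G χ → Cfsg.IsIrrCharacter N (fun x : N => χ x) →
    ∃ (U : Subgroup G) (lam : U → ℂ), Cfsg.IsCharacter U lam ∧ lam 1 = 1 ∧
      Cfsg.indFun U lam = χ := by
  intro n
  induction n using Nat.strong_induction_on with
  | _ n ih =>
  intro G _ _ N _ hn hsolv hA χ hχ hN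
  classical
  have hχc := Helper80.isCharacter_of_isIrrCharacter hχ
  by_cases hab : ∀ a ∈ N, ∀ b ∈ N, a * b = b * a
  · have h1 : χ 1 = 1 :=
      Helper82.irr_one_eq_one_of_comm (A := N) (fun a b => Subtype.ext (hab a a.2 b b.2)) hN
    exact ⟨⊤, fun u => χ u, Helper80.isCharacter_restrict ⊤ hχc, h1,
      Helper3.indFun_top_eq (Helper80.isClassFunction_of_isCharacter hχc)⟩
  · obtain ⟨E, hEn, hEN, hDne, hDab⟩ := exists_abelian_commutator N hab
    have hDn : (⁅E, E⁆ : Subgroup G).Normal := inferInstance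
    have : Fintype (⁅E, E⁆ : Subgroup G) := Fintype.ofFinite _
    have hresc := Helper80.isCharacter_restrict (⁅E, E⁆ : Subgroup G) hχc
    obtain ⟨lam, hlam, hc⟩ := exists_constituent81 hresc (Helper80.char_one_ne_zero hχ)
    have hlamc := Helper80.isCharacter_of_isIrrCharacter hlam
    have hlam1 : lam 1 = 1 :=
      Helper82.irr_one_eq_one_of_comm (A := (⁅E, E⁆ : Subgroup G))
        (fun a b => Subtype.ext (hDab a a.2 b b.2)) hlam
    by_cases hT : Helper75.inertia (⁅E, E⁆ : Subgroup G) lam = ⊤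
    · have hinv' := (Helper75.inertia_eq_top_iff (⁅E, E⁆ : Subgroup G) lam).1 hT
      have hinv := (Helper75.forall_conjChar_eq_iff (⁅E, E⁆ : Subgroup G) lam).1 hinv'
      have hres := Helper75.res_eq_smul_of_invariant (⁅E, E⁆ : Subgroup G) hχ hlam hc hinv'
      have hAE : AGroup E :=
        AGroup.of_injective (Subgroup.inclusion hEN) (Subgroup.inclusion_injective hEN) hA
      have htriv := linear_trivial_of_invariant E hAE (⁅E, E⁆) rfl lam hlamc hlam1
        (fun x _ d hd hd' => hinv x ⟨d, hd⟩)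
      have hker : ∀ d ∈ (⁅E, E⁆ : Subgroup G), χ d = χ 1 := by
        intro d hd
        have h2 := congrFun hres ⟨d, hd⟩
        have h3 := congrFun hres 1
        simp only [Pi.smul_apply, smul_eq_mul] at h2 h3
        rw [htriv] at h2 h3
        have h4 : χ d = χ ((1 : (⁅E, E⁆ : Subgroup G)) : G) := h2.trans h3.symm
        exact h4
      have : Fintype (G ⧸ (⁅E, E⁆ : Subgroup G)) := Fintype.ofFinite _
      obtain ⟨ψ, hψ, hψχ⟩ :=
        Helper80.exists_isIrrCharacter_deflate (⁅E, E⁆ : Subgroup G) hχ hker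
      have hcard : Nat.card (G ⧸ (⁅E, E⁆ : Subgroup G)) < n := by
        rw [← hn, ← Subgroup.index_eq_card, ← Subgroup.card_mul_index (⁅E, E⁆ : Subgroup G)]
        have h1 : 1 < Nat.card (⁅E, E⁆ : Subgroup G) := (Subgroup.one_lt_card_iff_ne_bot _).2 hDne
        have h2 : 0 < (⁅E, E⁆ : Subgroup G).index :=
          Nat.pos_of_ne_zero Subgroup.index_ne_zero_of_finite
        nlinarith
      have hNbar : (N.map (QuotientGroup.mk' (⁅E, E⁆ : Subgroup G))).Normal :=
        Subgroup.Normal.map inferInstance _ (QuotientGroup.mk'_surjective _)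
      have hπ := MonoidHom.subgroupMap_surjective (QuotientGroup.mk' (⁅E, E⁆ : Subgroup G)) N
      have hsolv' : Group.IsSolvable (N.map (QuotientGroup.mk' (⁅E, E⁆ : Subgroup G))) :=
        Group.isSolvable_of_surjective hπ
      have hA' : AGroup (N.map (QuotientGroup.mk' (⁅E, E⁆ : Subgroup G))) :=
        AGroup.of_surjective _ hπ hA
      have hirr' := irr_map_of_irr (⁅E, E⁆ : Subgroup G) N χ hker hN ψ hψχ
      exact monomial_of_quotient (⁅E, E⁆ : Subgroup G) χ ψ hψχ
        (ih _ hcard (G ⧸ (⁅E, E⁆ : Subgroup G))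
          (N.map (QuotientGroup.mk' (⁅E, E⁆ : Subgroup G))) rfl hsolv' hA' ψ hψ hirr')
    · have hDT : (⁅E, E⁆ : Subgroup G) ≤ Helper75.inertia (⁅E, E⁆ : Subgroup G) lam :=
        Helper75.le_inertia _ (Helper80.isClassFunction_of_isCharacter hlamc)
      have : Fintype (Helper75.inertia (⁅E, E⁆ : Subgroup G) lam) := Fintype.ofFinite _
      obtain ⟨ψ, hψ, hind, -⟩ := Helper75.clifford_correspondence (⁅E, E⁆ : Subgroup G)
        (Helper75.inertia (⁅E, E⁆ : Subgroup G) lam) hDT hχ hlam
        (fun g => Helper75.mem_inertia_iff _ lam g) hc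
      have hcardT : Nat.card (Helper75.inertia (⁅E, E⁆ : Subgroup G) lam) < n := by
        rw [← hn]
        refine lt_of_le_of_ne (Subgroup.card_le_card_group _) ?_
        intro h
        exact hT (Subgroup.eq_top_of_card_eq _ h)
      have : Fintype N := Fintype.ofFinite _
      have : Fintype (N.subgroupOf (Helper75.inertia (⁅E, E⁆ : Subgroup G) lam)) :=
        Fintype.ofFinite _
      have : Fintype ((Helper75.inertia (⁅E, E⁆ : Subgroup G) lam).subgroupOf N) :=
        Fintype.ofFinite _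
      have hirr := res_inf_irr N (Helper75.inertia (⁅E, E⁆ : Subgroup G) lam) hχ hN hψ hind
      have hf : Function.Injective
          (((Helper75.inertia (⁅E, E⁆ : Subgroup G) lam).subgroupOf N).subtype.comp
            (infEquiv N (Helper75.inertia (⁅E, E⁆ : Subgroup G) lam)).symm.toMonoidHom) := by
        intro a b hab'
        exact (infEquiv N (Helper75.inertia (⁅E, E⁆ : Subgroup G) lam)).symm.injective
          (Subtype.ext hab')
      have hsolvT : Group.IsSolvable
          (N.subgroupOf (Helper75.inertia (⁅E, E⁆ : Subgroup G) lam)) :=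
        Group.isSolvable_of_isSolvable_injective hf
      have hAT : AGroup (N.subgroupOf (Helper75.inertia (⁅E, E⁆ : Subgroup G) lam)) :=
        AGroup.of_injective _ hf hA
      rw [← hind]
      exact monomial_of_subgroup (Helper75.inertia (⁅E, E⁆ : Subgroup G) lam) ψ
        (ih _ hcardT (Helper75.inertia (⁅E, E⁆ : Subgroup G) lam)
          (N.subgroupOf (Helper75.inertia (⁅E, E⁆ : Subgroup G) lam)) rfl hsolvT hAT ψ hψ hirr)

/-- **Dornhoff** (Isaacs 6.23) -/
theorem dornhoff {G : Type u} [Group G] [Fintype G] [Group.IsSolvable G] (N : Subgroup G)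
    [N.Normal] (hab : AGroup N)
    (hrel : ∀ χ : G → ℂ, Cfsg.IsIrrCharacter G χ → ∃ (H : Subgroup G) (hNH : N ≤ H)
      (ψ : H → ℂ), Cfsg.IsIrrCharacter H ψ ∧ Cfsg.indFun H ψ = χ ∧
      Cfsg.IsIrrCharacter N (fun n : N => ψ ⟨(n : G), hNH n.2⟩))
    (χ : G → ℂ) (hχ : Cfsg.IsIrrCharacter G χ) :
    ∃ (U : Subgroup G) (lam : U → ℂ), Cfsg.IsCharacter U lam ∧ lam 1 = 1 ∧
      Cfsg.indFun U lam = χ := by
  obtain ⟨H, hNH, ψ, hψ, hind, hres⟩ := hrel χ hχ
  have : Fintype H := Fintype.ofFinite _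
  have hirr : Cfsg.IsIrrCharacter (N.subgroupOf H) (fun x : N.subgroupOf H => ψ x) :=
    Helper80.isIrrCharacter_comp_mulEquiv (Subgroup.subgroupOfEquivOfLe hNH) hres
  have hsolv : Group.IsSolvable (N.subgroupOf H) := inferInstance
  have hA : AGroup (N.subgroupOf H) :=
    AGroup.of_injective (Subgroup.subgroupOfEquivOfLe hNH).toMonoidHom
      (Subgroup.subgroupOfEquivOfLe hNH).injective hab
  rw [← hind]
  exact monomial_of_subgroup H ψ (dornhoff_aux _ H (N.subgroupOf H) rfl hsolv hA ψ hψ hirr)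

end Cfsg.Agent.Lib.Helper81
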