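import Mathlib
import Cfsg.Prelude.Def_Characters
import Cfsg.Agent.Lib.Helper81.Dornhoff
import Cfsg.Agent.Lib.Helper1.SZInternal
import Cfsg.Agent.Lib.Helper91.Coprime2

/-!
# Coprime actions and invariant characters (Isaacs 13.27, 13.28)

Glauberman's lemma in internal form, and the two theorems on invariant irreducible
constituents below / above a normal subgroup.
-/

set_option autoImplicit false
set_option linter.unusedSectionVars false

namespace Cfsg.Agent.Lib.Helper81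

open scoped ComplexConjugate
open scoped commutatorElement
open scoped Pointwise

universe u

/-- a subgroup whose elements conjugate `G` into itself normalises `G` -/
theorem le_normalizer_of_conj_mem {R : Type*} [Group R] (G S : Subgroup R)
    (h : ∀ s ∈ S, ∀ g ∈ G, s * g * s⁻¹ ∈ G) : S ≤ Subgroup.normalizer (G : Set R) := by
  intro s hs
  rw [Subgroup.mem_normalizer_iff]
  intro g
  refine ⟨fun hg => h s hs g hg, fun hg => ?_⟩
  have h2 := h s⁻¹ (inv_mem hs) _ hg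
  have h3 : s⁻¹ * (s * g * s⁻¹) * s⁻¹⁻¹ = g := by group
  rwa [h3] at h2

/-- **Glauberman's lemma**, internal form: `S` normalises `G`, coprime orders, one of them
solvable, and every element of `S` lies in `G T`; then a `G`-conjugate of `T` contains `S`. -/
theorem glauberman_internal {R : Type u} [Group R] [Finite R] (G S T : Subgroup R)
    (hS : S ≤ Subgroup.normalizer (G : Set R)) (hcop : (Nat.card S).Coprime (Nat.card G))
    (hsolv : Group.IsSolvable S ∨ Group.IsSolvable G)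
    (hT : ∀ s ∈ S, ∃ g ∈ G, g⁻¹ * s ∈ T) : ∃ g ∈ G, ∀ s ∈ S, g⁻¹ * s * g ∈ T := by
  have hcardM := Helper1.card_sup_of_normalizer_coprime G S hS hcop
  have hMnorm : G ⊔ S ≤ Subgroup.normalizer (G : Set R) := sup_le Subgroup.le_normalizer hS
  have hT₁M : T ⊓ (G ⊔ S) ≤ G ⊔ S := inf_le_right
  have hsup : G ⊔ (T ⊓ (G ⊔ S)) = G ⊔ S := by
    apply le_antisymm
    · exact sup_le le_sup_left inf_le_right
    · refine sup_le le_sup_left ?_
      intro s hs
      obtain ⟨g, hg, hgs⟩ := hT s hs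
      have h1 : s = g * (g⁻¹ * s) := by group
      rw [h1]
      refine Subgroup.mul_mem _ (Subgroup.mem_sup_left hg) (Subgroup.mem_sup_right ⟨hgs, ?_⟩)
      exact Subgroup.mul_mem _ (Subgroup.inv_mem _ (Subgroup.mem_sup_left hg))
        (Subgroup.mem_sup_right hs)
  have hT₁norm : T ⊓ (G ⊔ S) ≤ Subgroup.normalizer (G : Set R) := hT₁M.trans hMnorm
  have hprod := Helper91.card_sup_mul_card_inf_of_le_normalizer G (T ⊓ (G ⊔ S)) hT₁norm
  rw [hsup, hcardM] at hprod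
  have hT₀le : G ⊓ (T ⊓ (G ⊔ S)) ≤ T ⊓ (G ⊔ S) := inf_le_right
  have hT₀norm : T ⊓ (G ⊔ S) ≤ Subgroup.normalizer ((G ⊓ (T ⊓ (G ⊔ S)) : Subgroup R) : Set R) := by
    apply le_normalizer_of_conj_mem
    intro t ht x hx
    refine ⟨?_, ?_⟩
    · exact ((Subgroup.mem_normalizer_iff.1 (hT₁norm ht)) x).1 hx.1
    · exact Subgroup.mul_mem _ (Subgroup.mul_mem _ ht hx.2) (Subgroup.inv_mem _ ht)
  have hcard1 := Helper1.card_eq_card_mul_relIndex hT₀le
  have hGpos : 0 < Nat.card G := Nat.card_pos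
  have hT₀pos : 0 < Nat.card (G ⊓ (T ⊓ (G ⊔ S)) : Subgroup R) := Nat.card_pos
  have hrel : (G ⊓ (T ⊓ (G ⊔ S))).relIndex (T ⊓ (G ⊔ S)) = Nat.card S := by
    rw [hcard1] at hprod
    have h2 : Nat.card G * (Nat.card (G ⊓ (T ⊓ (G ⊔ S)) : Subgroup R) * Nat.card S) =
        Nat.card G * (Nat.card (G ⊓ (T ⊓ (G ⊔ S)) : Subgroup R) *
          (G ⊓ (T ⊓ (G ⊔ S))).relIndex (T ⊓ (G ⊔ S))) := by
      rw [← hprod]; ring
    have h3 := Nat.eq_of_mul_eq_mul_left hGpos h2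
    exact (Nat.eq_of_mul_eq_mul_left hT₀pos h3).symm
  have hcop0 : (Nat.card (G ⊓ (T ⊓ (G ⊔ S)) : Subgroup R)).Coprime
      ((G ⊓ (T ⊓ (G ⊔ S))).relIndex (T ⊓ (G ⊔ S))) := by
    rw [hrel]
    exact Nat.Coprime.coprime_dvd_left (Subgroup.card_dvd_of_le inf_le_left) hcop.symm
  obtain ⟨B, hBle, hBcard⟩ := Helper1.sz_exists_internal _ _ hT₀le hT₀norm hcop0
  obtain ⟨n, hn, hconj⟩ := Helper1.sz_conj_internal G S B hS hcop hsolv (hBle.trans hT₁M)
    (hBcard.trans hrel)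
  refine ⟨n, hn, fun s hs => ?_⟩
  have h1 : s ∈ MulAut.conj n • B := by rw [hconj]; exact hs
  rw [Subgroup.mem_pointwise_smul_iff_inv_smul_mem] at h1
  have h2 : (MulAut.conj n)⁻¹ • s = n⁻¹ * s * n := by
    rw [← map_inv, MulAut.smul_def, MulAut.conj_apply, inv_inv]
  rw [h2] at h1
  exact (hBle h1).1

/-- Glauberman's lemma for permutation groups -/
theorem glauberman_perm {Ω : Type u} [Finite Ω] (A S : Subgroup (Equiv.Perm Ω))
    (hS : ∀ s ∈ S, ∀ a ∈ A, s * a * s⁻¹ ∈ A) (hcop : (Nat.card S).Coprime (Nat.card A))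
    (hsolv : Group.IsSolvable S ∨ Group.IsSolvable A) (ω : Ω)
    (hT : ∀ s ∈ S, ∃ a ∈ A, a ω = s ω) : ∃ a ∈ A, ∀ s ∈ S, s (a ω) = a ω := by
  obtain ⟨g, hg, h⟩ := glauberman_internal A S (MulAction.stabilizer (Equiv.Perm Ω) ω)
    (le_normalizer_of_conj_mem A S hS) hcop hsolv (by
      intro s hs
      obtain ⟨a, ha, h⟩ := hT s hs
      refine ⟨a, ha, ?_⟩
      rw [MulAction.mem_stabilizer_iff, Equiv.Perm.smul_def, Equiv.Perm.mul_apply, ← h]
      simp)
  refine ⟨g, hg, fun s hs => ?_⟩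
  have h1 := h s hs
  rw [MulAction.mem_stabilizer_iff, Equiv.Perm.smul_def, Equiv.Perm.mul_apply,
    Equiv.Perm.mul_apply] at h1
  have h2 := congrArg g h1
  simpa using h2

/-- a group of exponent dividing `m` has order coprime to anything coprime to `m` -/
theorem coprime_card_of_pow_eq_one {X : Type*} [Group X] [Finite X] (m n : ℕ)
    (h : ∀ x : X, x ^ m = 1) (hmn : Nat.Coprime n m) : Nat.Coprime n (Nat.card X) := by
  by_contra hcon
  obtain ⟨p, hp, hpn, hpX⟩ := Nat.Prime.not_coprime_iff_dvd.1 hcon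
  have : Fact p.Prime := ⟨hp⟩
  obtain ⟨x, hx⟩ := exists_prime_orderOf_dvd_card' p hpX
  have h1 : p ∣ m := by
    rw [← hx]
    exact orderOf_dvd_of_pow_eq_one (h x)
  exact hp.one_lt.ne' (Nat.eq_one_of_dvd_coprimes hmn hpn h1)

/-- if `D` normalises `N` and `D' ≤ N` then `(N D)' ≤ N` -/
theorem commutator_sup_le {Γ : Type*} [Group Γ] (N D : Subgroup Γ)
    (hD : D ≤ Subgroup.normalizer (N : Set Γ)) (hDD : ⁅D, D⁆ ≤ N) : ⁅N ⊔ D, N ⊔ D⁆ ≤ N := by
  have hNR : N ≤ Subgroup.normalizer (N : Set Γ) := Subgroup.le_normalizer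
  have hMR : N ⊔ D ≤ Subgroup.normalizer (N : Set Γ) := sup_le hNR hD
  have hP : (N.subgroupOf (Subgroup.normalizer (N : Set Γ))).Normal :=
    (Subgroup.normal_subgroupOf_iff_le_normalizer hNR).2 le_rfl
  let π := QuotientGroup.mk' (N.subgroupOf (Subgroup.normalizer (N : Set Γ)))
  have hmapN : (N.subgroupOf (Subgroup.normalizer (N : Set Γ))).map π = ⊥ := by
    rw [eq_bot_iff]
    rintro _ ⟨x, hx, rfl⟩
    rw [Subgroup.mem_bot]
    exact (QuotientGroup.eq_one_iff x).2 hx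
  have hE : ((N ⊔ D).subgroupOf (Subgroup.normalizer (N : Set Γ))).map π =
      (D.subgroupOf (Subgroup.normalizer (N : Set Γ))).map π := by
    rw [Subgroup.subgroupOf_sup hNR hD, Subgroup.map_sup, hmapN, bot_sup_eq]
  have hDR : ⁅D.subgroupOf (Subgroup.normalizer (N : Set Γ)),
      D.subgroupOf (Subgroup.normalizer (N : Set Γ))⁆ ≤
      N.subgroupOf (Subgroup.normalizer (N : Set Γ)) := by
    rw [Subgroup.commutator_le]
    intro a ha b hb
    rw [Subgroup.mem_subgroupOf]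
    have h1 : ((⁅a, b⁆ : Subgroup.normalizer (N : Set Γ)) : Γ) = ⁅(a : Γ), (b : Γ)⁆ := by
      rw [commutatorElement_def, commutatorElement_def]; push_cast; rfl
    rw [h1]
    exact hDD (Subgroup.commutator_mem_commutator (Subgroup.mem_subgroupOf.1 ha)
      (Subgroup.mem_subgroupOf.1 hb))
  have hcomm : ⁅((N ⊔ D).subgroupOf (Subgroup.normalizer (N : Set Γ))).map π,
      ((N ⊔ D).subgroupOf (Subgroup.normalizer (N : Set Γ))).map π⁆ = ⊥ := by
    rw [hE, ← Subgroup.map_commutator, eq_bot_iff, ← hmapN]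
    exact Subgroup.map_mono hDR
  rw [Subgroup.commutator_le]
  intro x hx y hy
  have hx' : (⟨x, hMR hx⟩ : Subgroup.normalizer (N : Set Γ)) ∈
      (N ⊔ D).subgroupOf (Subgroup.normalizer (N : Set Γ)) := Subgroup.mem_subgroupOf.2 hx
  have hy' : (⟨y, hMR hy⟩ : Subgroup.normalizer (N : Set Γ)) ∈
      (N ⊔ D).subgroupOf (Subgroup.normalizer (N : Set Γ)) := Subgroup.mem_subgroupOf.2 hy
  have h1 : ⁅π ⟨x, hMR hx⟩, π ⟨y, hMR hy⟩⁆ ∈ (⊥ : Subgroup _) := by
    rw [← hcomm]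
    exact Subgroup.commutator_mem_commutator (Subgroup.mem_map_of_mem π hx')
      (Subgroup.mem_map_of_mem π hy')
  rw [Subgroup.mem_bot, ← map_commutatorElement] at h1
  have h2 := (QuotientGroup.eq_one_iff _).1 h1
  rw [Subgroup.mem_subgroupOf] at h2
  exact h2

/-- automorphisms of `H` permute the irreducible characters of `H` (left action) -/
noncomputable def autPerm (H : Type u) [Group H] :
    MulAut H →* Equiv.Perm (Cfsg.IrrCharacter H) where
  toFun σ :=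
    { toFun := fun θ => ⟨fun h => θ.1 (σ⁻¹ h), Helper80.isIrrCharacter_comp_mulEquiv σ⁻¹ θ.2⟩
      invFun := fun θ => ⟨fun h => θ.1 (σ h), Helper80.isIrrCharacter_comp_mulEquiv σ θ.2⟩
      left_inv := fun θ => by
        apply Subtype.ext
        funext h
        simp
      right_inv := fun θ => by
        apply Subtype.ext
        funext h
        simp }
  map_one' := by
    apply Equiv.ext
    intro θ
    apply Subtype.ext
    funext h
    simp
  map_mul' := fun σ τ => by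
    apply Equiv.ext
    intro θ
    apply Subtype.ext
    funext h
    simp [mul_inv_rev]

theorem autPerm_apply (H : Type u) [Group H] (σ : MulAut H) (θ : Cfsg.IrrCharacter H) (h : H) :
    ((autPerm H σ θ : Cfsg.IrrCharacter H) : H → ℂ) h = (θ : H → ℂ) (σ⁻¹ h) := rfl

/-- restriction of automorphisms preserving a subgroup -/
def resAut {Γ : Type*} [Group Γ] (G : Subgroup Γ) (A : Subgroup (MulAut Γ))
    (hAG : ∀ a ∈ A, ∀ g ∈ G, a g ∈ G) : A →* MulAut G where
  toFun a :=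
    { toFun := fun g => ⟨a.1 g, hAG a.1 a.2 g g.2⟩
      invFun := fun g => ⟨a.1⁻¹ g, hAG a.1⁻¹ (inv_mem a.2) g g.2⟩
      left_inv := fun g => Subtype.ext (by simp)
      right_inv := fun g => Subtype.ext (by simp)
      map_mul' := fun x y => Subtype.ext (by simp) }
  map_one' := by
    apply MulEquiv.ext
    intro g
    apply Subtype.ext
    simp
  map_mul' := fun a b => by
    apply MulEquiv.ext
    intro g
    apply Subtype.ext
    simp

theorem resAut_apply {Γ : Type*} [Group Γ] (G : Subgroup Γ) (A : Subgroup (MulAut Γ))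
    (hAG : ∀ a ∈ A, ∀ g ∈ G, a g ∈ G) (a : A) (g : G) :
    ((resAut G A hAG a g : G) : Γ) = a.1 (g : Γ) := rfl

theorem resAut_inv_apply {Γ : Type*} [Group Γ] (G : Subgroup Γ) (A : Subgroup (MulAut Γ))
    (hAG : ∀ a ∈ A, ∀ g ∈ G, a g ∈ G) (a : A) (g : G) :
    (((resAut G A hAG a)⁻¹ g : G) : Γ) = a.1⁻¹ (g : Γ) := rfl

/-- two characters with a common irreducible constituent have nonzero inner product -/
theorem classInner_ne_zero_of_common {H : Type u} [Group H] [Fintype H] {α β ξ : H → ℂ}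
    (hα : Cfsg.IsCharacter H α) (hβ : Cfsg.IsCharacter H β) (hξ : Cfsg.IsIrrCharacter H ξ)
    (h1 : Cfsg.classInner α ξ ≠ 0) (h2 : Cfsg.classInner β ξ ≠ 0) :
    Cfsg.classInner α β ≠ 0 := by
  classical
  have : Fintype (Cfsg.IrrCharacter H) := Fintype.ofFinite _
  obtain ⟨m, hm, hsum⟩ := Helper80.character_expansion hα
  obtain ⟨m', hm', hsum'⟩ := Helper80.character_expansion hβ
  have h3 : Cfsg.classInner α β = ((∑ χ : Cfsg.IrrCharacter H, m χ * m' χ : ℕ) : ℂ) := by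
    conv_lhs => rw [hsum, hsum']
    rw [Helper80.classInner_sum_irr]
    push_cast
    refine Finset.sum_congr rfl (fun χ _ => ?_)
    rw [Complex.conj_natCast]
  rw [h3]
  have hm1 : m ⟨ξ, hξ⟩ ≠ 0 := by
    intro h0
    apply h1
    rw [hm ⟨ξ, hξ⟩, h0, Nat.cast_zero]
  have hm2 : m' ⟨ξ, hξ⟩ ≠ 0 := by
    intro h0
    apply h2
    rw [hm' ⟨ξ, hξ⟩, h0, Nat.cast_zero]
  have h4 : m ⟨ξ, hξ⟩ * m' ⟨ξ, hξ⟩ ≤ ∑ χ : Cfsg.IrrCharacter H, m χ * m' χ :=
    Finset.single_le_sum (f := fun χ => m χ * m' χ) (fun _ _ => Nat.zero_le _)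
      (Finset.mem_univ _)
  have h5 : 0 < m ⟨ξ, hξ⟩ * m' ⟨ξ, hξ⟩ :=
    Nat.mul_pos (Nat.pos_of_ne_zero hm1) (Nat.pos_of_ne_zero hm2)
  exact_mod_cast (lt_of_lt_of_le h5 h4).ne'

/-- transitivity of "lying over" -/
theorem constituent_trans {H K : Type u} [Group H] [Fintype H] [Group K] [Fintype K]
    (f : K →* H) {α ψ : H → ℂ} {θ : K → ℂ}
    (hα : Cfsg.IsCharacter H α) (hψ : Cfsg.IsIrrCharacter H ψ) (hθ : Cfsg.IsCharacter K θ)
    (h1 : Cfsg.classInner α ψ ≠ 0) (h2 : Cfsg.classInner (fun k => ψ (f k)) θ ≠ 0) :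
    Cfsg.classInner (fun k => α (f k)) θ ≠ 0 := by
  classical
  have : Fintype (Cfsg.IrrCharacter H) := Fintype.ofFinite _
  obtain ⟨m, hm, hsum⟩ := Helper80.character_expansion hα
  have hc : ∀ χ : Cfsg.IrrCharacter H, ∃ c : ℕ,
      Cfsg.classInner (fun k => (χ : H → ℂ) (f k)) θ = c := fun χ =>
    Helper80.classInner_nat (Helper80.isCharacter_comp f
      (Helper80.isCharacter_of_isIrrCharacter χ.2)) hθ
  choose c hc using hc
  have h3 : Cfsg.classInner (fun k => α (f k)) θ =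
      ((∑ χ : Cfsg.IrrCharacter H, m χ * c χ : ℕ) : ℂ) := by
    have h4 : (fun k => α (f k)) =
        ∑ χ : Cfsg.IrrCharacter H, (m χ : ℂ) • (fun k => (χ : H → ℂ) (f k)) := by
      funext k
      conv_lhs => rw [hsum]
      simp only [Finset.sum_apply, Pi.smul_apply]
    rw [h4, Helper80.classInner_sum_left]
    push_cast
    refine Finset.sum_congr rfl (fun χ _ => ?_)
    rw [Helper80.classInner_smul_left, hc χ]
  rw [h3]
  have hm1 : m ⟨ψ, hψ⟩ ≠ 0 := by
    intro h0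
    apply h1
    rw [hm ⟨ψ, hψ⟩, h0, Nat.cast_zero]
  have hm2 : c ⟨ψ, hψ⟩ ≠ 0 := by
    intro h0
    apply h2
    have := hc ⟨ψ, hψ⟩
    rw [h0, Nat.cast_zero] at this
    exact this
  have h4 : m ⟨ψ, hψ⟩ * c ⟨ψ, hψ⟩ ≤ ∑ χ : Cfsg.IrrCharacter H, m χ * c χ :=
    Finset.single_le_sum (f := fun χ => m χ * c χ) (fun _ _ => Nat.zero_le _)
      (Finset.mem_univ _)
  have h5 : 0 < m ⟨ψ, hψ⟩ * c ⟨ψ, hψ⟩ :=
    Nat.mul_pos (Nat.pos_of_ne_zero hm1) (Nat.pos_of_ne_zero hm2)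
  exact_mod_cast (lt_of_lt_of_le h5 h4).ne'

section Clean

variable {G : Type u} [Group G] [Fintype G] (N : Subgroup G) [hN : N.Normal]

open scoped Classical in
theorem sum_irr_quot' (hab : ∀ x y : G ⧸ N, x * y = y * x) [Fintype (G ⧸ N)]
    [Fintype (Cfsg.IrrCharacter (G ⧸ N))] (g : G) :
    ∑ β : Cfsg.IrrCharacter (G ⧸ N), (β : G ⧸ N → ℂ) (g : G ⧸ N)
      = if g ∈ N then (N.index : ℂ) else 0 := by
  classical
  have h := Helper80.second_orthogonality_aux ((g : G ⧸ N)) (1 : G ⧸ N)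
  have h1 : ∀ β : Cfsg.IrrCharacter (G ⧸ N), (β : G ⧸ N → ℂ) 1 = 1 :=
    fun β => Helper82.irr_one_eq_one_of_comm hab β.2
  simp only [h1, map_one, mul_one] at h
  rw [h]
  by_cases hg : g ∈ N
  · have hg1 : (g : G ⧸ N) = 1 := (QuotientGroup.eq_one_iff g).2 hg
    rw [if_pos hg, hg1, if_pos (IsConj.refl 1)]
    have hc : Subgroup.centralizer ({1} : Set (G ⧸ N)) = ⊤ := by
      rw [Subgroup.centralizer_eq_top_iff_subset]
      intro x hx
      rw [Set.mem_singleton_iff] at hx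
      rw [hx]
      exact one_mem _
    rw [hc, Subgroup.card_top, ← Subgroup.index_eq_card]
  · have hg1 : (g : G ⧸ N) ≠ 1 := fun h => hg ((QuotientGroup.eq_one_iff g).1 h)
    rw [if_neg hg, if_neg]
    rw [isConj_one_left]
    exact hg1

open scoped Classical in
theorem sum_twist_inner' [Fintype N] (hab : ∀ x y : G ⧸ N, x * y = y * x) [Fintype (G ⧸ N)]
    [Fintype (Cfsg.IrrCharacter (G ⧸ N))] (α ψ : G → ℂ) :
    ∑ β : Cfsg.IrrCharacter (G ⧸ N),
      Cfsg.classInner ((fun g : G => (β : G ⧸ N → ℂ) (g : G ⧸ N)) * α) ψ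
      = Cfsg.classInner (fun x : N => α x) (fun x : N => ψ x) := by
  unfold Cfsg.classInner
  rw [← Finset.mul_sum, Finset.sum_comm]
  have hk : ∀ g : G, ∑ β : Cfsg.IrrCharacter (G ⧸ N),
      ((fun g : G => (β : G ⧸ N → ℂ) (g : G ⧸ N)) * α) g * conj (ψ g)
      = if g ∈ N then (N.index : ℂ) * (α g * conj (ψ g)) else 0 := by
    intro g
    have h := sum_irr_quot' N hab g
    by_cases hg : g ∈ N
    · rw [if_pos hg]
      rw [if_pos hg] at h
      rw [← h, Finset.sum_mul]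
      refine Finset.sum_congr rfl (fun β _ => ?_)
      simp only [Pi.mul_apply]
      ring
    · rw [if_neg hg]
      rw [if_neg hg] at h
      have h2 : ∑ β : Cfsg.IrrCharacter (G ⧸ N),
          ((fun g : G => (β : G ⧸ N → ℂ) (g : G ⧸ N)) * α) g * conj (ψ g) =
          (∑ β : Cfsg.IrrCharacter (G ⧸ N), (β : G ⧸ N → ℂ) (g : G ⧸ N)) *
            (α g * conj (ψ g)) := by
        rw [Finset.sum_mul]
        refine Finset.sum_congr rfl (fun β _ => ?_)
        simp only [Pi.mul_apply]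
        ring
      rw [h2, h, zero_mul]
  rw [Finset.sum_congr rfl (fun g _ => hk g), ← Finset.sum_filter]
  rw [Finset.sum_subtype (Finset.univ.filter (fun g : G => g ∈ N)) (p := fun g => g ∈ N)
    (fun x => by simp) (fun g => (N.index : ℂ) * (α g * conj (ψ g)))]
  rw [← Finset.mul_sum, ← Subgroup.card_mul_index N]
  have hN0 : (Nat.card N : ℂ) ≠ 0 := by
    exact_mod_cast (Nat.card_pos (α := N)).ne'
  have hi0 : (N.index : ℂ) ≠ 0 := by
    have h := Subgroup.card_mul_index N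
    have h2 : N.index ≠ 0 := by
      intro h0
      rw [h0, mul_zero] at h
      exact (Nat.card_pos (α := G)).ne' h.symm
    exact_mod_cast h2
  push_cast
  field_simp

/-- if `G / N` is abelian, any two irreducible characters over `θ` differ by a linear
character of `G / N` -/
theorem exists_lin_twist [Fintype N] (hab : ∀ x y : G ⧸ N, x * y = y * x) {χ ψ : G → ℂ}
    (hχ : Cfsg.IsIrrCharacter G χ) (hψ : Cfsg.IsIrrCharacter G ψ) {θ : N → ℂ}
    (hθ : Cfsg.IsIrrCharacter N θ)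
    (h1 : Cfsg.classInner (fun n : N => χ n) θ ≠ 0)
    (h2 : Cfsg.classInner (fun n : N => ψ n) θ ≠ 0) :
    ∃ lam : (G ⧸ N) →* ℂˣ, ψ = fun g : G => ((lam (g : G ⧸ N) : ℂˣ) : ℂ) * χ g := by
  classical
  have : Fintype (G ⧸ N) := Fintype.ofFinite _
  have : Fintype (Cfsg.IrrCharacter (G ⧸ N)) := Fintype.ofFinite _
  have hχc := Helper80.isCharacter_of_isIrrCharacter hχ
  have hψc := Helper80.isCharacter_of_isIrrCharacter hψ
  have h3 : Cfsg.classInner (fun x : N => χ x) (fun x : N => ψ x) ≠ 0 :=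
    classInner_ne_zero_of_common (Helper80.isCharacter_restrict N hχc)
      (Helper80.isCharacter_restrict N hψc) hθ h1 h2
  rw [← sum_twist_inner' N hab χ ψ] at h3
  obtain ⟨β, -, hβ⟩ := Finset.exists_ne_zero_of_sum_ne_zero h3
  have hβ1 : (β : G ⧸ N → ℂ) 1 = 1 := Helper82.irr_one_eq_one_of_comm hab β.2
  have hβc := Helper80.isCharacter_of_isIrrCharacter β.2
  have hinf : Cfsg.IsCharacter G (fun g : G => (β : G ⧸ N → ℂ) (g : G ⧸ N)) :=
    Helper80.isCharacter_comp (QuotientGroup.mk' N) hβc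
  have hirr : Cfsg.IsIrrCharacter G ((fun g : G => (β : G ⧸ N → ℂ) (g : G ⧸ N)) * χ) :=
    Helper15.isIrrCharacter_lin_mul hinf hβ1 hχ
  rw [Helper80.classInner_irr_fun hirr hψ] at hβ
  have heq : (fun g : G => (β : G ⧸ N → ℂ) (g : G ⧸ N)) * χ = ψ := by
    by_contra hne
    rw [if_neg hne] at hβ
    exact hβ rfl
  refine ⟨Helper15.linCharHom hβc hβ1, ?_⟩
  rw [← heq]
  funext g
  rw [Helper15.linCharHom_apply]
  rfl

/-- multiplication by linear characters of `G / N` permutes the irreducible characters -/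
noncomputable def linPerm :
    ((G ⧸ N) →* ℂˣ) →* Equiv.Perm (Cfsg.IrrCharacter G) where
  toFun lam :=
    { toFun := fun χ => ⟨fun g => ((lam (g : G ⧸ N) : ℂˣ) : ℂ) * χ.1 g,
        Helper15.isIrrCharacter_lin_mul
          (Helper15.isCharacter_of_hom (lam.comp (QuotientGroup.mk' N)))
          (by simp) χ.2⟩
      invFun := fun χ => ⟨fun g => ((lam⁻¹ (g : G ⧸ N) : ℂˣ) : ℂ) * χ.1 g,
        Helper15.isIrrCharacter_lin_mul
          (Helper15.isCharacter_of_hom (lam⁻¹.comp (QuotientGroup.mk' N)))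
          (by simp) χ.2⟩
      left_inv := fun χ => by
        apply Subtype.ext
        funext g
        simp
      right_inv := fun χ => by
        apply Subtype.ext
        funext g
        simp }
  map_one' := by
    apply Equiv.ext
    intro χ
    apply Subtype.ext
    funext g
    simp
  map_mul' := fun lam mu => by
    apply Equiv.ext
    intro χ
    apply Subtype.ext
    funext g
    simp [mul_assoc]

theorem linPerm_apply (lam : (G ⧸ N) →* ℂˣ) (χ : Cfsg.IrrCharacter G) (g : G) :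
    ((linPerm N lam χ : Cfsg.IrrCharacter G) : G → ℂ) g =
      ((lam (g : G ⧸ N) : ℂˣ) : ℂ) * (χ : G → ℂ) g := rfl

end Clean

section Clean2

variable {G : Type u} [Group G] [Fintype G] (N : Subgroup G) [hN : N.Normal] [Fintype N]

/-- **Isaacs 13.27**, for a normal subgroup and a group of automorphisms -/
theorem inv_constituent_below (A : Subgroup (MulAut G)) (hAN : ∀ a ∈ A, ∀ n ∈ N, a n ∈ N)
    (hcop : (Nat.card A).Coprime N.index)
    (hsolv : Group.IsSolvable A ∨ Group.IsSolvable (G ⧸ N))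
    {χ : G → ℂ} (hχ : Cfsg.IsIrrCharacter G χ) (hinv : ∀ a ∈ A, ∀ g : G, χ (a g) = χ g) :
    ∃ θ : N → ℂ, Cfsg.IsIrrCharacter N θ ∧ Cfsg.classInner (fun n : N => χ n) θ ≠ 0 ∧
      ∀ a ∈ A, ∀ n : N, ∀ h : a (n : G) ∈ N, θ ⟨a n, h⟩ = θ n := by
  classical
  have hχc := Helper80.isCharacter_of_isIrrCharacter hχ
  have hχcl := Helper80.isClassFunction_of_isCharacter hχc
  have hres1 : (fun n : N => χ n) 1 ≠ 0 := Helper80.char_one_ne_zero hχ
  obtain ⟨θ₀, hθ₀, hne₀⟩ := exists_constituent81 (Helper80.isCharacter_restrict N hχc) hres1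
  let ψG : G →* Equiv.Perm (Cfsg.IrrCharacter N) := (autPerm N).comp MulAut.conjNormal
  let ψA : A →* Equiv.Perm (Cfsg.IrrCharacter N) := (autPerm N).comp (resAut N A hAN)
  have hψG : ∀ (g : G) (θ : Cfsg.IrrCharacter N),
      ((ψG g θ : Cfsg.IrrCharacter N) : N → ℂ) = Helper75.conjChar N θ.1 g := fun g θ => rfl
  have hψA : ∀ (a : A) (θ : Cfsg.IrrCharacter N) (n : N),
      ((ψA a θ : Cfsg.IrrCharacter N) : N → ℂ) n = θ.1 ((resAut N A hAN a)⁻¹ n) :=
    fun a θ n => rfl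
  have hconst : ∀ (a : A) (θ : Cfsg.IrrCharacter N),
      Cfsg.classInner (fun n : N => χ n) ((ψA a θ : Cfsg.IrrCharacter N) : N → ℂ) =
      Cfsg.classInner (fun n : N => χ n) (θ : N → ℂ) := by
    intro a θ
    have h1 := classInner_comp_mulEquiv ((resAut N A hAN a)⁻¹ : N ≃* N) (fun n : N => χ n)
      (θ : N → ℂ)
    rw [← h1]
    congr 1
    funext n
    have h2 := hinv a.1 a.2 (a.1⁻¹ (n : G))
    rw [MulAut.apply_inv_self] at h2
    exact h2
  have hS : ∀ s ∈ ψA.range, ∀ x ∈ ψG.range, s * x * s⁻¹ ∈ ψG.range := by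
    rintro _ ⟨a, rfl⟩ _ ⟨g, rfl⟩
    refine ⟨a.1 g, ?_⟩
    have h1 : (resAut N A hAN a) * MulAut.conjNormal g * (resAut N A hAN a)⁻¹ =
        MulAut.conjNormal (a.1 g) := by
      apply MulEquiv.ext
      intro n
      apply Subtype.ext
      rw [MulAut.mul_apply, MulAut.mul_apply, resAut_apply, MulAut.conjNormal_apply,
        MulAut.conjNormal_apply, resAut_inv_apply]
      simp
    show (autPerm N) (MulAut.conjNormal (a.1 g)) = (autPerm N) (resAut N A hAN a) *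
      (autPerm N) (MulAut.conjNormal g) * ((autPerm N) (resAut N A hAN a))⁻¹
    rw [← h1, map_mul, map_mul, map_inv]
  have hkerN : N ≤ ψG.ker := by
    intro n hn
    rw [MonoidHom.mem_ker]
    apply Equiv.ext
    intro θ
    apply Subtype.ext
    rw [hψG]
    exact Helper75.conjChar_of_mem N (Helper80.isClassFunction_of_isCharacter
      (Helper80.isCharacter_of_isIrrCharacter θ.2)) hn
  have hcardG : Nat.card ψG.range ∣ N.index := by
    rw [← Subgroup.index_ker]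
    exact Subgroup.index_dvd_of_le hkerN
  have hcardA : Nat.card ψA.range ∣ Nat.card A := Subgroup.card_range_dvd ψA
  have hcop' : (Nat.card ψA.range).Coprime (Nat.card ψG.range) :=
    Nat.Coprime.coprime_dvd_left hcardA (Nat.Coprime.coprime_dvd_right hcardG hcop)
  have hsolv' : Group.IsSolvable ψA.range ∨ Group.IsSolvable ψG.range := by
    rcases hsolv with h | h
    · left
      exact Group.isSolvable_of_surjective (f := ψA.rangeRestrict) ψA.rangeRestrict_surjective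
    · right
      let f : G ⧸ N →* ψG.range := QuotientGroup.lift N ψG.rangeRestrict (by
        intro n hn
        rw [MonoidHom.mem_ker]
        apply Subtype.ext
        exact hkerN hn)
      have hf : Function.Surjective f := by
        intro y
        obtain ⟨g, hg⟩ := ψG.rangeRestrict_surjective y
        exact ⟨(g : G ⧸ N), hg⟩
      exact Group.isSolvable_of_surjective hf
  have hT : ∀ s ∈ ψA.range, ∃ x ∈ ψG.range, x ⟨θ₀, hθ₀⟩ = s ⟨θ₀, hθ₀⟩ := by
    rintro _ ⟨a, rfl⟩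
    have h1 : Cfsg.classInner (fun n : N => χ n)
        ((ψA a ⟨θ₀, hθ₀⟩ : Cfsg.IrrCharacter N) : N → ℂ) ≠ 0 := by
      rw [hconst]; exact hne₀
    obtain ⟨g, hg⟩ := Helper75.clifford_conj N hχ hθ₀ (ψA a ⟨θ₀, hθ₀⟩).2 hne₀ h1
    exact ⟨ψG g, ⟨g, rfl⟩, Subtype.ext hg⟩
  obtain ⟨x, ⟨g, rfl⟩, hfix⟩ :=
    glauberman_perm ψG.range ψA.range hS hcop' hsolv' ⟨θ₀, hθ₀⟩ hT
  refine ⟨((ψG g ⟨θ₀, hθ₀⟩ : Cfsg.IrrCharacter N) : N → ℂ), (ψG g ⟨θ₀, hθ₀⟩).2, ?_, ?_⟩
  · rw [hψG, Helper75.classInner_res_conjChar N hχcl]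
    exact hne₀
  · intro a ha n h
    have h1 := hfix (ψA ⟨a⁻¹, inv_mem ha⟩) ⟨_, rfl⟩
    have h2 := congrArg (fun θ : Cfsg.IrrCharacter N => (θ : N → ℂ) n) h1
    have h3 : (resAut N A hAN ⟨a⁻¹, inv_mem ha⟩)⁻¹ n = ⟨a n, h⟩ := by
      apply Subtype.ext
      rw [resAut_inv_apply]
      simp
    have h4 : ((ψA ⟨a⁻¹, inv_mem ha⟩ (ψG g ⟨θ₀, hθ₀⟩) : Cfsg.IrrCharacter N) : N → ℂ) n =
        ((ψG g ⟨θ₀, hθ₀⟩ : Cfsg.IrrCharacter N) : N → ℂ) ⟨a n, h⟩ := by
      rw [hψA, h3]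
    rw [← h4]
    exact h2

/-- **Isaacs 13.28** for an abelian quotient -/
theorem inv_constituent_above_abelian (A : Subgroup (MulAut G))
    (hAN : ∀ a ∈ A, ∀ n ∈ N, a n ∈ N) (hab : ∀ x y : G ⧸ N, x * y = y * x)
    (hcop : (Nat.card A).Coprime N.index)
    {θ : N → ℂ} (hθ : Cfsg.IsIrrCharacter N θ)
    (hinv : ∀ a ∈ A, ∀ n : N, ∀ h : a (n : G) ∈ N, θ ⟨a n, h⟩ = θ n) :
    ∃ χ : G → ℂ, Cfsg.IsIrrCharacter G χ ∧ Cfsg.classInner (fun n : N => χ n) θ ≠ 0 ∧
      ∀ a ∈ A, ∀ g : G, χ (a g) = χ g := by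
  classical
  have hθc := Helper80.isCharacter_of_isIrrCharacter hθ
  have hind1 : Cfsg.indFun N θ 1 ≠ 0 := by
    rw [Helper80.indFun_one]
    have hi : N.index ≠ 0 := Subgroup.index_ne_zero_of_finite
    exact mul_ne_zero (by exact_mod_cast hi) (Helper80.char_one_ne_zero hθ)
  obtain ⟨χ₀, hχ₀, hne⟩ := exists_constituent81 (Helper80.isCharacter_indFun N hθc) hind1
  have hχ₀c := Helper80.isCharacter_of_isIrrCharacter hχ₀
  have hne₀ : Cfsg.classInner (fun n : N => χ₀ n) θ ≠ 0 := by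
    rw [Helper80.frobenius_reciprocity N θ χ₀
      (Helper80.isClassFunction_of_isCharacter hχ₀c)] at hne
    rw [← Helper80.classInner_conj_symm]
    exact (map_ne_zero _).2 hne
  let ψL : ((G ⧸ N) →* ℂˣ) →* Equiv.Perm (Cfsg.IrrCharacter G) := linPerm N
  let ψA : A →* Equiv.Perm (Cfsg.IrrCharacter G) := (autPerm G).comp A.subtype
  have hψA : ∀ (a : A) (χ : Cfsg.IrrCharacter G) (g : G),
      ((ψA a χ : Cfsg.IrrCharacter G) : G → ℂ) g = χ.1 (a.1⁻¹ g) := fun a χ g => rfl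
  have hconst : ∀ (a : A) (χ : Cfsg.IrrCharacter G),
      Cfsg.classInner (fun n : N => ((ψA a χ : Cfsg.IrrCharacter G) : G → ℂ) n) θ =
      Cfsg.classInner (fun n : N => (χ : G → ℂ) n) θ := by
    intro a χ
    have h1 := classInner_comp_mulEquiv ((resAut N A hAN a)⁻¹ : N ≃* N)
      (fun n : N => (χ : G → ℂ) n) θ
    rw [← h1]
    congr 1
    funext n
    have hmem : a.1 (((resAut N A hAN a)⁻¹ n : N) : G) ∈ N := by
      rw [resAut_inv_apply, MulAut.apply_inv_self]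
      exact n.2
    have h2 := hinv a.1 a.2 ((resAut N A hAN a)⁻¹ n) hmem
    have h3 : (⟨a.1 (((resAut N A hAN a)⁻¹ n : N) : G), hmem⟩ : N) = n := by
      apply Subtype.ext
      show a.1 (((resAut N A hAN a)⁻¹ n : N) : G) = n
      rw [resAut_inv_apply, MulAut.apply_inv_self]
    rw [h3] at h2
    exact h2
  have hS : ∀ s ∈ ψA.range, ∀ x ∈ ψL.range, s * x * s⁻¹ ∈ ψL.range := by
    rintro _ ⟨a, rfl⟩ _ ⟨lam, rfl⟩
    let mu : (G ⧸ N) →* ℂˣ := QuotientGroup.lift N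
      ((lam.comp (QuotientGroup.mk' N)).comp (a.1⁻¹ : MulAut G).toMonoidHom) (by
        intro n hn
        rw [MonoidHom.mem_ker]
        show lam ((a.1⁻¹ n : G) : G ⧸ N) = 1
        rw [(QuotientGroup.eq_one_iff _).2 (hAN a.1⁻¹ (inv_mem a.2) n hn), map_one])
    refine ⟨mu, ?_⟩
    apply Equiv.ext
    intro χ
    apply Subtype.ext
    funext g
    rw [Equiv.Perm.mul_apply, Equiv.Perm.mul_apply, ← map_inv]
    rw [hψA, linPerm_apply, linPerm_apply, hψA]
    have h1 : mu (g : G ⧸ N) = lam ((a.1⁻¹ g : G) : G ⧸ N) := rfl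
    rw [h1]
    congr 2
    simp
  have hexp : ∀ x : ψL.range, x ^ N.index = 1 := by
    rintro ⟨_, lam, rfl⟩
    apply Subtype.ext
    show (ψL lam) ^ N.index = 1
    rw [← map_pow]
    have h1 : lam ^ N.index = 1 := by
      apply MonoidHom.ext
      intro q
      rw [MonoidHom.pow_apply, ← map_pow, MonoidHom.one_apply]
      have h2 : q ^ N.index = 1 := by
        rw [Subgroup.index_eq_card]
        exact pow_card_eq_one'
      rw [h2, map_one]
    rw [h1, map_one]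
  have hcardL : (Nat.card A).Coprime (Nat.card ψL.range) :=
    coprime_card_of_pow_eq_one N.index (Nat.card A) hexp hcop
  have hcardA : Nat.card ψA.range ∣ Nat.card A := Subgroup.card_range_dvd ψA
  have hcop' : (Nat.card ψA.range).Coprime (Nat.card ψL.range) :=
    Nat.Coprime.coprime_dvd_left hcardA hcardL
  have hsolv' : Group.IsSolvable ψA.range ∨ Group.IsSolvable ψL.range :=
    Or.inr (Group.isSolvable_of_surjective (f := ψL.rangeRestrict) ψL.rangeRestrict_surjective)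
  have hT : ∀ s ∈ ψA.range, ∃ x ∈ ψL.range, x ⟨χ₀, hχ₀⟩ = s ⟨χ₀, hχ₀⟩ := by
    rintro _ ⟨a, rfl⟩
    have h1 : Cfsg.classInner
        (fun n : N => ((ψA a ⟨χ₀, hχ₀⟩ : Cfsg.IrrCharacter G) : G → ℂ) n) θ ≠ 0 := by
      rw [hconst]; exact hne₀
    obtain ⟨lam, hlam⟩ := exists_lin_twist N hab hχ₀ (ψA a ⟨χ₀, hχ₀⟩).2 hθ hne₀ h1
    exact ⟨ψL lam, ⟨lam, rfl⟩, Subtype.ext hlam.symm⟩
  obtain ⟨x, ⟨lam, rfl⟩, hfix⟩ :=
    glauberman_perm ψL.range ψA.range hS hcop' hsolv' ⟨χ₀, hχ₀⟩ hT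
  refine ⟨((ψL lam ⟨χ₀, hχ₀⟩ : Cfsg.IrrCharacter G) : G → ℂ), (ψL lam ⟨χ₀, hχ₀⟩).2, ?_, ?_⟩
  · have h1 : (fun n : N => ((ψL lam ⟨χ₀, hχ₀⟩ : Cfsg.IrrCharacter G) : G → ℂ) n) =
        fun n : N => χ₀ n := by
      funext n
      show ((lam ((n : G) : G ⧸ N) : ℂˣ) : ℂ) * χ₀ n = χ₀ n
      rw [(QuotientGroup.eq_one_iff _).2 n.2, map_one, Units.val_one, one_mul]
    rw [h1]; exact hne₀
  · intro a ha g
    have h1 := hfix (ψA ⟨a⁻¹, inv_mem ha⟩) ⟨_, rfl⟩
    have h2 := congrArg (fun χ : Cfsg.IrrCharacter G => (χ : G → ℂ) g) h1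
    have h4 : ((ψA ⟨a⁻¹, inv_mem ha⟩ (ψL lam ⟨χ₀, hχ₀⟩) : Cfsg.IrrCharacter G) : G → ℂ) g =
        ((ψL lam ⟨χ₀, hχ₀⟩ : Cfsg.IrrCharacter G) : G → ℂ) (a g) := by
      rw [hψA]
      simp
    rw [← h4]
    exact h2

end Clean2

theorem map_dser {G H : Type*} [Group G] [Group H] (f : G →* H) (N : Subgroup G) (k : ℕ) :
    (dser N k).map f = dser (N.map f) k := by
  induction k with
  | zero => rfl
  | succ k ih =>
    rw [dser, Subgroup.map_commutator, ih]
    rfl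

theorem dser_mono {G : Type*} [Group G] {N M : Subgroup G} (h : N ≤ M) (k : ℕ) :
    dser N k ≤ dser M k := by
  induction k with
  | zero => exact h
  | succ k ih => exact Subgroup.commutator_mono ih ih

section Rel

variable {Γ : Type u} [Group Γ] [Fintype Γ] (G N : Subgroup Γ) [Fintype G] [Fintype N]

/-- the quotient `G / N` is commutative when `G' ≤ N` -/
theorem quot_comm' (hab : ⁅G, G⁆ ≤ N) [(N.subgroupOf G).Normal] (a b : G ⧸ N.subgroupOf G) :
    a * b = b * a := by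
  induction a using QuotientGroup.induction_on with | H x => ?_
  induction b using QuotientGroup.induction_on with | H y => ?_
  rw [← QuotientGroup.mk_mul, ← QuotientGroup.mk_mul, QuotientGroup.eq, Subgroup.mem_subgroupOf]
  have h : (((x * y)⁻¹ * (y * x) : G) : Γ) = ⁅(y : Γ)⁻¹, (x : Γ)⁻¹⁆ := by
    rw [commutatorElement_def]; push_cast; group
  rw [h]
  exact hab (Subgroup.commutator_mem_commutator (inv_mem y.2) (inv_mem x.2))

/-- **Isaacs 13.27**, relative form: `N ≤ G` subgroups of `Γ`, `A` a group of automorphisms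
of `Γ` preserving both -/
theorem inv_constituent_below_rel (hNG : N ≤ G) [hNn : (N.subgroupOf G).Normal]
    (A : Subgroup (MulAut Γ)) (hAG : ∀ a ∈ A, ∀ g ∈ G, a g ∈ G)
    (hAN : ∀ a ∈ A, ∀ n ∈ N, a n ∈ N)
    (hcop : (Nat.card A).Coprime (N.relIndex G))
    (hsolv : Group.IsSolvable A ∨ Group.IsSolvable (G ⧸ N.subgroupOf G))
    {χ : G → ℂ} (hχ : Cfsg.IsIrrCharacter G χ)
    (hinv : ∀ a ∈ A, ∀ g : G, ∀ h : a (g : Γ) ∈ G, χ ⟨a g, h⟩ = χ g) :
    ∃ θ : N → ℂ, Cfsg.IsIrrCharacter N θ ∧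
      Cfsg.classInner (fun n : N => χ ⟨n, hNG n.2⟩) θ ≠ 0 ∧
      ∀ a ∈ A, ∀ n : N, ∀ h : a (n : Γ) ∈ N, θ ⟨a n, h⟩ = θ n := by
  classical
  have : Fintype (N.subgroupOf G) := Fintype.ofFinite _
  let e : N.subgroupOf G ≃* N := Subgroup.subgroupOfEquivOfLe hNG
  let ρ : A →* MulAut G := resAut G A hAG
  have hA'N : ∀ a' ∈ ρ.range, ∀ n ∈ N.subgroupOf G, a' n ∈ N.subgroupOf G := by
    rintro _ ⟨a, rfl⟩ n hn
    rw [Subgroup.mem_subgroupOf] at hn ⊢
    exact hAN a.1 a.2 _ hn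
  have hcop' : (Nat.card ρ.range).Coprime (N.subgroupOf G).index :=
    Nat.Coprime.coprime_dvd_left (Subgroup.card_range_dvd ρ) hcop
  have hsolv' : Group.IsSolvable ρ.range ∨ Group.IsSolvable (G ⧸ N.subgroupOf G) := by
    rcases hsolv with h | h
    · exact Or.inl (Group.isSolvable_of_surjective (f := ρ.rangeRestrict)
        ρ.rangeRestrict_surjective)
    · exact Or.inr h
  have hinv' : ∀ a' ∈ ρ.range, ∀ g : G, χ (a' g) = χ g := by
    rintro _ ⟨a, rfl⟩ g
    exact hinv a.1 a.2 g _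
  obtain ⟨θ', hθ', hne', hinvθ'⟩ :=
    inv_constituent_below (N.subgroupOf G) ρ.range hA'N hcop' hsolv' hχ hinv'
  refine ⟨fun n => θ' (e.symm n), Helper80.isIrrCharacter_comp_mulEquiv e.symm hθ', ?_, ?_⟩
  · have h1 : Cfsg.classInner (fun n' : N.subgroupOf G => χ n')
        (fun n' : N.subgroupOf G => θ' (e.symm (e n'))) =
        Cfsg.classInner (fun n : N => χ ⟨n, hNG n.2⟩) (fun n => θ' (e.symm n)) :=
      classInner_comp_mulEquiv e (fun n : N => χ ⟨n, hNG n.2⟩) (fun n => θ' (e.symm n))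
    rw [← h1]
    have h2 : (fun n' : N.subgroupOf G => θ' (e.symm (e n'))) = θ' := by
      funext n'
      rw [e.symm_apply_apply]
    rw [h2]
    exact hne'
  · intro a ha n h
    have hmem : (ρ ⟨a, ha⟩) ((e.symm n : N.subgroupOf G) : G) ∈ N.subgroupOf G := by
      rw [Subgroup.mem_subgroupOf]
      exact h
    have h1 := hinvθ' (ρ ⟨a, ha⟩) ⟨_, rfl⟩ (e.symm n) hmem
    have h2 : e.symm ⟨a n, h⟩ = ⟨(ρ ⟨a, ha⟩) ((e.symm n : N.subgroupOf G) : G), hmem⟩ :=
      Subtype.ext (Subtype.ext rfl)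
    show θ' (e.symm ⟨a n, h⟩) = θ' (e.symm n)
    rw [h2]
    exact h1

/-- **Isaacs 13.28** for an abelian quotient, relative form -/
theorem inv_constituent_above_abelian_rel (hNG : N ≤ G) [hNn : (N.subgroupOf G).Normal]
    (A : Subgroup (MulAut Γ)) (hAG : ∀ a ∈ A, ∀ g ∈ G, a g ∈ G)
    (hAN : ∀ a ∈ A, ∀ n ∈ N, a n ∈ N) (hab : ⁅G, G⁆ ≤ N)
    (hcop : (Nat.card A).Coprime (N.relIndex G))
    {θ : N → ℂ} (hθ : Cfsg.IsIrrCharacter N θ)
    (hinv : ∀ a ∈ A, ∀ n : N, ∀ h : a (n : Γ) ∈ N, θ ⟨a n, h⟩ = θ n) :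
    ∃ χ : G → ℂ, Cfsg.IsIrrCharacter G χ ∧
      Cfsg.classInner (fun n : N => χ ⟨n, hNG n.2⟩) θ ≠ 0 ∧
      ∀ a ∈ A, ∀ g : G, ∀ h : a (g : Γ) ∈ G, χ ⟨a g, h⟩ = χ g := by
  classical
  have : Fintype (N.subgroupOf G) := Fintype.ofFinite _
  let e : N.subgroupOf G ≃* N := Subgroup.subgroupOfEquivOfLe hNG
  let ρ : A →* MulAut G := resAut G A hAG
  have hA'N : ∀ a' ∈ ρ.range, ∀ n ∈ N.subgroupOf G, a' n ∈ N.subgroupOf G := by
    rintro _ ⟨a, rfl⟩ n hn
    rw [Subgroup.mem_subgroupOf] at hn ⊢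
    exact hAN a.1 a.2 _ hn
  have hcop' : (Nat.card ρ.range).Coprime (N.subgroupOf G).index :=
    Nat.Coprime.coprime_dvd_left (Subgroup.card_range_dvd ρ) hcop
  have hθ' : Cfsg.IsIrrCharacter (N.subgroupOf G) (fun n' => θ (e n')) :=
    Helper80.isIrrCharacter_comp_mulEquiv e hθ
  have hinv' : ∀ a' ∈ ρ.range, ∀ n' : N.subgroupOf G, ∀ h : a' (n' : G) ∈ N.subgroupOf G,
      (fun n' => θ (e n')) ⟨a' n', h⟩ = (fun n' => θ (e n')) n' := by
    rintro _ ⟨a, rfl⟩ n' h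
    have hmem : a.1 ((e n' : N) : Γ) ∈ N := Subgroup.mem_subgroupOf.1 h
    have h1 := hinv a.1 a.2 (e n') hmem
    have h2 : e ⟨ρ a (n' : G), h⟩ = ⟨a.1 ((e n' : N) : Γ), hmem⟩ := Subtype.ext rfl
    show θ (e ⟨ρ a (n' : G), h⟩) = θ (e n')
    rw [h2]
    exact h1
  obtain ⟨χ, hχ, hne, hinvχ⟩ := inv_constituent_above_abelian (N.subgroupOf G) ρ.range hA'N
    (quot_comm' G N hab) hcop' hθ' hinv'
  refine ⟨χ, hχ, ?_, ?_⟩
  · have h1 : Cfsg.classInner (fun n' : N.subgroupOf G => χ n')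
        (fun n' : N.subgroupOf G => θ (e n')) =
        Cfsg.classInner (fun n : N => χ ⟨n, hNG n.2⟩) θ :=
      classInner_comp_mulEquiv e (fun n : N => χ ⟨n, hNG n.2⟩) θ
    rw [← h1]
    exact hne
  · intro a ha g h
    exact hinvχ (ρ ⟨a, ha⟩) ⟨_, rfl⟩ g

end Rel

section Rel2

variable {Γ : Type u} [Group Γ] [Fintype Γ] (G : Subgroup Γ) [Fintype G]

theorem inv_constituent_above_rel_aux (A : Subgroup (MulAut Γ))
    (hAG : ∀ a ∈ A, ∀ g ∈ G, a g ∈ G) (k : ℕ) :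
    ∀ (N : Subgroup Γ) [Fintype N] (hNG : N ≤ G), G ≤ Subgroup.normalizer (N : Set Γ) →
      (∀ a ∈ A, ∀ n ∈ N, a n ∈ N) → dser G k ≤ N → (Nat.card A).Coprime (N.relIndex G) →
      ∀ θ : N → ℂ, Cfsg.IsIrrCharacter N θ →
      (∀ a ∈ A, ∀ n : N, ∀ h : a (n : Γ) ∈ N, θ ⟨a n, h⟩ = θ n) →
      ∃ χ : G → ℂ, Cfsg.IsIrrCharacter G χ ∧
        Cfsg.classInner (fun n : N => χ ⟨n, hNG n.2⟩) θ ≠ 0 ∧
        ∀ a ∈ A, ∀ g : G, ∀ h : a (g : Γ) ∈ G, χ ⟨a g, h⟩ = χ g := by
  induction k with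
  | zero =>
    intro N _ hNG hnorm hAN hk hcop θ hθ hinv
    have hGN : G = N := le_antisymm hk hNG
    let e : G ≃* N := MulEquiv.subgroupCongr hGN
    refine ⟨fun g => θ (e g), Helper80.isIrrCharacter_comp_mulEquiv e hθ, ?_, ?_⟩
    · have h1 : Cfsg.classInner θ θ = 1 := Helper80.classInner_self hθ
      have h2 : (fun n : N => (fun g => θ (e g)) ⟨n, hNG n.2⟩) = θ := rfl
      rw [h2, h1]
      exact one_ne_zero
    · intro a ha g h
      exact hinv a ha (e g) (hk h)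
  | succ k ih =>
    intro N _ hNG hnorm hAN hk hcop θ hθ hinv
    classical
    have hNM : N ≤ N ⊔ dser G k := le_sup_left
    have hMG : N ⊔ dser G k ≤ G := sup_le hNG (dser_le G k)
    have : Fintype (N ⊔ dser G k : Subgroup Γ) := Fintype.ofFinite _
    have hDnorm : dser G k ≤ Subgroup.normalizer (N : Set Γ) := (dser_le G k).trans hnorm
    have hab : ⁅N ⊔ dser G k, N ⊔ dser G k⁆ ≤ N := commutator_sup_le N (dser G k) hDnorm hk
    have hmapM : ∀ φ : MulAut Γ, (∀ g ∈ G, φ g ∈ G) → (∀ n ∈ N, φ n ∈ N) →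
        ∀ m ∈ N ⊔ dser G k, φ m ∈ N ⊔ dser G k := by
      intro φ hφG hφN m hm
      have h1 : (N ⊔ dser G k).map φ.toMonoidHom ≤ N ⊔ dser G k := by
        rw [Subgroup.map_sup]
        refine sup_le_sup ?_ ?_
        · rintro _ ⟨n, hn, rfl⟩
          exact hφN n hn
        · rw [map_dser]
          refine dser_mono ?_ k
          rintro _ ⟨g, hg, rfl⟩
          exact hφG g hg
      exact h1 (Subgroup.mem_map_of_mem _ hm)
    have hAM : ∀ a ∈ A, ∀ m ∈ N ⊔ dser G k, a m ∈ N ⊔ dser G k :=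
      fun a ha => hmapM a (hAG a ha) (hAN a ha)
    have hGM : G ≤ Subgroup.normalizer ((N ⊔ dser G k : Subgroup Γ) : Set Γ) := by
      apply le_normalizer_of_conj_mem
      intro g hg m hm
      have h1 := hmapM (MulAut.conj g)
        (fun x hx => by
          rw [MulAut.conj_apply]
          exact G.mul_mem (G.mul_mem hg hx) (G.inv_mem hg))
        (fun n hn => by
          rw [MulAut.conj_apply]
          exact ((Subgroup.mem_normalizer_iff.1 (hnorm hg)) n).1 hn) m hm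
      rwa [MulAut.conj_apply] at h1
    have hNMn : (N.subgroupOf (N ⊔ dser G k)).Normal :=
      (Subgroup.normal_subgroupOf_iff_le_normalizer hNM).2 (hMG.trans hnorm)
    have hrel := Subgroup.relIndex_mul_relIndex N (N ⊔ dser G k) G hNM hMG
    have hcop1 : (Nat.card A).Coprime (N.relIndex (N ⊔ dser G k)) :=
      Nat.Coprime.coprime_dvd_right (Dvd.intro _ hrel) hcop
    have hcop2 : (Nat.card A).Coprime ((N ⊔ dser G k).relIndex G) :=
      Nat.Coprime.coprime_dvd_right (Dvd.intro_left _ hrel) hcop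
    obtain ⟨ψ, hψ, hψne, hψinv⟩ :=
      inv_constituent_above_abelian_rel (N ⊔ dser G k) N hNM A hAM hAN hab hcop1 hθ hinv
    obtain ⟨χ, hχ, hχne, hχinv⟩ := ih (N ⊔ dser G k) hMG hGM hAM le_sup_right hcop2 ψ hψ hψinv
    refine ⟨χ, hχ, ?_, hχinv⟩
    exact constituent_trans (Subgroup.inclusion hNM)
      (α := fun m : (N ⊔ dser G k : Subgroup Γ) => χ ⟨m, hMG m.2⟩)
      (Helper80.isCharacter_comp (Subgroup.inclusion hMG)
        (Helper80.isCharacter_of_isIrrCharacter hχ)) hψ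
      (Helper80.isCharacter_of_isIrrCharacter hθ) hχne hψne

/-- **Isaacs 13.28**, relative form, for a solvable quotient -/
theorem inv_constituent_above_rel (N : Subgroup Γ) [Fintype N] (hNG : N ≤ G)
    [hNn : (N.subgroupOf G).Normal]
    (A : Subgroup (MulAut Γ)) (hAG : ∀ a ∈ A, ∀ g ∈ G, a g ∈ G)
    (hAN : ∀ a ∈ A, ∀ n ∈ N, a n ∈ N)
    (hcop : (Nat.card A).Coprime (N.relIndex G))
    (hsolv : Group.IsSolvable (G ⧸ N.subgroupOf G))
    {θ : N → ℂ} (hθ : Cfsg.IsIrrCharacter N θ)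
    (hinv : ∀ a ∈ A, ∀ n : N, ∀ h : a (n : Γ) ∈ N, θ ⟨a n, h⟩ = θ n) :
    ∃ χ : G → ℂ, Cfsg.IsIrrCharacter G χ ∧
      Cfsg.classInner (fun n : N => χ ⟨n, hNG n.2⟩) θ ≠ 0 ∧
      ∀ a ∈ A, ∀ g : G, ∀ h : a (g : Γ) ∈ G, χ ⟨a g, h⟩ = χ g := by
  obtain ⟨k, hk⟩ := Group.IsSolvable.solvable (G := G ⧸ N.subgroupOf G)
  have h1 : (derivedSeries G k).map (QuotientGroup.mk' (N.subgroupOf G)) = ⊥ := by
    rw [_root_.map_derivedSeries_eq (QuotientGroup.mk'_surjective _), hk]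
  have h2 : derivedSeries G k ≤ N.subgroupOf G := by
    intro x hx
    have h3 : (QuotientGroup.mk' (N.subgroupOf G)) x ∈
        (derivedSeries G k).map (QuotientGroup.mk' (N.subgroupOf G)) :=
      Subgroup.mem_map_of_mem _ hx
    rw [h1, Subgroup.mem_bot] at h3
    exact (QuotientGroup.eq_one_iff x).1 h3
  have h3 : dser G k ≤ N := by
    rw [← map_derivedSeries_eq]
    rintro _ ⟨x, hx, rfl⟩
    exact Subgroup.mem_subgroupOf.1 (h2 hx)
  exact inv_constituent_above_rel_aux G A hAG k N hNG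
    ((Subgroup.normal_subgroupOf_iff_le_normalizer hNG).1 hNn) hAN h3 hcop θ hθ hinv

end Rel2

end Cfsg.Agent.Lib.Helper81
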