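import Mathlib
import Cfsg.Prelude.Def_Characters
import Cfsg.Agent.Lib.Helper81.CoprimeChar
import Cfsg.Agent.Lib.Helper75.Glaub7

/-!
# The Glauberman correspondence for `p`-groups, relative form, and solvable groups of operators

Everything happens inside a fixed finite group `Γ` acted on by a group `A` of automorphisms;
`G` ranges over `A`-invariant subgroups.
-/

set_option autoImplicit false
set_option linter.unusedSectionVars false
set_option linter.style.haveILetI false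

namespace Cfsg.Agent.Lib.Helper81

open scoped ComplexConjugate

universe u

section Fix

variable {Γ : Type u} [Group Γ]

/-- the subgroup of fixed points of a group of automorphisms -/
def fixSub (Q : Subgroup (MulAut Γ)) : Subgroup Γ where
  carrier := {x | ∀ q ∈ Q, q x = x}
  mul_mem' := fun {x y} hx hy q hq => by rw [map_mul, hx q hq, hy q hq]
  one_mem' := fun q _ => map_one q
  inv_mem' := fun {x} hx q hq => by rw [map_inv, hx q hq]

theorem mem_fixSub (Q : Subgroup (MulAut Γ)) (x : Γ) : x ∈ fixSub Q ↔ ∀ q ∈ Q, q x = x :=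
  Iff.rfl

/-- invariance of a function on an invariant subgroup under a group of automorphisms -/
def InvR (A : Subgroup (MulAut Γ)) (G : Subgroup Γ) (χ : G → ℂ) : Prop :=
  ∀ a ∈ A, ∀ g : G, ∀ h : a (g : Γ) ∈ G, χ ⟨a g, h⟩ = χ g

/-- **Glauberman correspondence**, relative form: `Q` acts on `G` as a `p`-group, `p ∤ |G|` -/
theorem glaub_rel [Finite Γ] (G : Subgroup Γ) (Q : Subgroup (MulAut Γ))
    (hQG : ∀ q ∈ Q, ∀ g ∈ G, q g ∈ G) (p : ℕ) (hp : p.Prime) (hpG : ¬ p ∣ Nat.card G)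
    (hQp : IsPGroup p (resAut G Q hQG).range) [Fintype (G ⊓ fixSub Q : Subgroup Γ)] :
    Helper75.GlaubCorr p (Subgroup.inclusion (inf_le_left : G ⊓ fixSub Q ≤ G)) (InvR Q G) := by
  classical
  haveI : Fact p.Prime := ⟨hp⟩
  haveI : Finite (G ⋊[(resAut G Q hQG).range.subtype] (resAut G Q hQG).range) :=
    Finite.of_equiv _ SemidirectProduct.equivProd.symm
  let il : G →* G ⋊[(resAut G Q hQG).range.subtype] (resAut G Q hQG).range :=
    SemidirectProduct.inl
  let ir : (resAut G Q hQG).range →* G ⋊[(resAut G Q hQG).range.subtype] (resAut G Q hQG).range :=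
    SemidirectProduct.inr
  have hil : Function.Injective il := SemidirectProduct.inl_injective
  have haut : ∀ (a : (resAut G Q hQG).range) (x : G),
      ir a * il x * (ir a)⁻¹ = il ((a : MulAut G) x) := by
    intro a x
    have h := SemidirectProduct.inl_aut (φ := (resAut G Q hQG).range.subtype) a x
    rw [map_inv] at h
    exact h.symm
  have hnorm : ∀ s ∈ ir.range, ∀ g ∈ il.range, s * g * s⁻¹ ∈ il.range := by
    rintro _ ⟨a, rfl⟩ _ ⟨x, rfl⟩
    exact ⟨(a : MulAut G) x, (haut a x).symm⟩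
  have hcardG : Nat.card il.range = Nat.card G :=
    (Nat.card_congr (Equiv.ofInjective il hil)).symm
  have hS : IsPGroup p ir.range :=
    hQp.of_surjective ir.rangeRestrict ir.rangeRestrict_surjective
  have hcop : (Nat.card il.range).Coprime (Nat.card ir.range) := by
    obtain ⟨n, hn⟩ := IsPGroup.iff_card.1 hS
    rw [hn, hcardG]
    exact Nat.Coprime.pow_right n ((Nat.Prime.coprime_iff_not_dvd hp).2 hpG).symm
  haveI : Fintype (il.range ⊓ Subgroup.centralizer (ir.range : Set _) : Subgroup _) :=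
    Fintype.ofFinite _
  have gl := Helper75.glauberman_pgroup il.range ir.range hnorm hcop p hp hS _ rfl inf_le_left
  -- the isomorphisms
  let eG : il.range ≃* G := (MonoidHom.ofInjective hil).symm
  have heG : ∀ x : G, eG ⟨il x, ⟨x, rfl⟩⟩ = x := by
    intro x
    rw [MulEquiv.symm_apply_eq]
    exact Subtype.ext rfl
  have heGs : ∀ x : G, ((eG.symm x : il.range) : G ⋊[(resAut G Q hQG).range.subtype]
      (resAut G Q hQG).range) = il x := fun x => rfl
  have hfixed : ∀ (c : (G ⊓ fixSub Q : Subgroup Γ)) (a : (resAut G Q hQG).range),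
      (a : MulAut G) ⟨c, c.2.1⟩ = ⟨c, c.2.1⟩ := by
    rintro c ⟨_, q, rfl⟩
    apply Subtype.ext
    exact c.2.2 q.1 q.2
  let f : (G ⊓ fixSub Q : Subgroup Γ) →*
      (il.range ⊓ Subgroup.centralizer (ir.range : Set _) : Subgroup _) :=
    (il.comp (Subgroup.inclusion (inf_le_left : G ⊓ fixSub Q ≤ G))).codRestrict _ (by
      intro c
      refine ⟨⟨_, rfl⟩, Subgroup.mem_centralizer_iff.2 ?_⟩
      rintro _ ⟨a, rfl⟩
      have h1 := haut a ⟨c, c.2.1⟩
      rw [hfixed c a] at h1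
      exact mul_inv_eq_iff_eq_mul.1 h1)
  have hfval : ∀ c : (G ⊓ fixSub Q : Subgroup Γ),
      ((f c : (il.range ⊓ Subgroup.centralizer (ir.range : Set _) : Subgroup _)) :
        G ⋊[(resAut G Q hQG).range.subtype] (resAut G Q hQG).range) = il ⟨c, c.2.1⟩ :=
    fun c => rfl
  have hfinj : Function.Injective f := by
    intro c c' h
    have h1 := congrArg Subtype.val h
    rw [hfval, hfval] at h1
    have h2 := hil h1
    exact Subtype.ext (congrArg (fun z : G => (z : Γ)) h2)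
  have hfsurj : Function.Surjective f := by
    rintro ⟨_, ⟨x, rfl⟩, hc'⟩
    have hc := Subgroup.mem_centralizer_iff.1 hc'
    have hx : (x : Γ) ∈ fixSub Q := by
      intro q hq
      have h1 := hc (ir ⟨resAut G Q hQG ⟨q, hq⟩, ⟨_, rfl⟩⟩) ⟨_, rfl⟩
      have h2 := haut ⟨resAut G Q hQG ⟨q, hq⟩, ⟨_, rfl⟩⟩ x
      rw [h1] at h2
      have h3 : il x = il ((resAut G Q hQG ⟨q, hq⟩) x) := by
        rw [← h2]; group
      have h4 := hil h3
      exact (congrArg Subtype.val h4).symm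
    exact ⟨⟨x, x.2, hx⟩, Subtype.ext rfl⟩
  let eC : (il.range ⊓ Subgroup.centralizer (ir.range : Set _) : Subgroup _) ≃*
      (G ⊓ fixSub Q : Subgroup Γ) := (MulEquiv.ofBijective f ⟨hfinj, hfsurj⟩).symm
  have heC : ∀ c, eC (f c) = c := fun c =>
    (MulEquiv.ofBijective f ⟨hfinj, hfsurj⟩).symm_apply_apply c
  refine Helper75.GlaubCorr.transport eG eC ?_ ?_ ?_ gl
  · intro c'
    obtain ⟨c, rfl⟩ := hfsurj c'
    rw [heC]
    exact heG ⟨c, c.2.1⟩
  · intro χ hχ
    rintro _ ⟨⟨_, q, rfl⟩, rfl⟩ ⟨_, x, rfl⟩ ⟨_, y, rfl⟩ hxy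
    have h1 := haut ⟨resAut G Q hQG q, ⟨q, rfl⟩⟩ x
    have h2 : il y = il ((resAut G Q hQG q) x) := hxy.trans h1
    have h3 := hil h2
    show χ (eG ⟨il y, ⟨y, rfl⟩⟩) = χ (eG ⟨il x, ⟨x, rfl⟩⟩)
    rw [heG, heG, h3]
    exact hχ q.1 q.2 x _
  · intro χ' hχ' q hq g h
    apply hχ' (ir ⟨resAut G Q hQG ⟨q, hq⟩, ⟨_, rfl⟩⟩) ⟨_, rfl⟩ (eG.symm g) (eG.symm ⟨q g, h⟩)
    rw [heGs, heGs, haut]
    rfl

end Fix

/-- a nontrivial finite solvable group has a nontrivial normal `p`-subgroup -/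
theorem exists_normal_pgroup (X : Type*) [Group X] [Finite X] [Group.IsSolvable X]
    [Nontrivial X] :
    ∃ (p : ℕ) (P : Subgroup X), p.Prime ∧ P.Normal ∧ IsPGroup p P ∧ P ≠ ⊥ := by
  classical
  have hex : ∃ n, derivedSeries X n = ⊥ := Group.IsSolvable.solvable
  have h0 : Nat.find hex ≠ 0 := by
    intro h
    have h1 := Nat.find_spec hex
    rw [h, derivedSeries_zero] at h1
    exact top_ne_bot h1
  obtain ⟨n, hn⟩ := Nat.exists_eq_succ_of_ne_zero h0
  have hD : derivedSeries X n ≠ ⊥ := by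
    intro h
    have := Nat.find_min' hex h
    omega
  have hDD : ⁅derivedSeries X n, derivedSeries X n⁆ = ⊥ := by
    have h1 := Nat.find_spec hex
    rw [hn] at h1
    exact h1
  have hcomm : ∀ x ∈ derivedSeries X n, ∀ y ∈ derivedSeries X n, Commute x y := by
    intro x hx y hy
    have h1 := (Subgroup.commutator_eq_bot_iff_le_centralizer).1 hDD hx
    exact (Subgroup.mem_centralizer_iff.1 h1 y hy).symm
  haveI : Nontrivial (derivedSeries X n) := (Subgroup.nontrivial_iff_ne_bot _).2 hD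
  have hcard : Nat.card (derivedSeries X n) ≠ 1 := by
    intro h
    exact hD (Subgroup.card_eq_one.1 h)
  obtain ⟨p, hp, hpd⟩ := Nat.exists_prime_and_dvd hcard
  haveI : Fact p.Prime := ⟨hp⟩
  obtain ⟨x, hx⟩ := exists_prime_orderOf_dvd_card' p hpd
  haveI hDn : (derivedSeries X n).Normal := derivedSeries_normal X n
  let P : Subgroup X :=
    { carrier := {y | y ∈ derivedSeries X n ∧ ∃ k : ℕ, y ^ (p ^ k) = 1}
      mul_mem' := by
        rintro a b ⟨ha, k, hk⟩ ⟨hb, l, hl⟩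
        refine ⟨mul_mem ha hb, k + l, ?_⟩
        rw [(hcomm a ha b hb).mul_pow, pow_add, pow_mul, hk, one_pow, mul_comm (p ^ k),
          pow_mul, hl, one_pow, one_mul]
      one_mem' := ⟨one_mem _, 0, one_pow _⟩
      inv_mem' := by
        rintro a ⟨ha, k, hk⟩
        exact ⟨inv_mem ha, k, by rw [inv_pow, hk, inv_one]⟩ }
  refine ⟨p, P, hp, ⟨?_⟩, ?_, ?_⟩
  · rintro a ⟨ha, k, hk⟩ g
    refine ⟨hDn.conj_mem a ha g, k, ?_⟩
    rw [conj_pow, hk, mul_one, mul_inv_cancel]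
  · rintro ⟨a, ha, k, hk⟩
    exact ⟨k, Subtype.ext hk⟩
  · intro hbot
    have hxP : (x : X) ∈ P := by
      refine ⟨x.2, 1, ?_⟩
      rw [pow_one, ← Subgroup.coe_pow, ← hx, pow_orderOf_eq_one]
      rfl
    rw [hbot, Subgroup.mem_bot] at hxP
    have hx1 : x = 1 := Subtype.ext hxP
    rw [hx1, orderOf_one] at hx
    exact hp.one_lt.ne hx

section Step

variable {Γ : Type u} [Group Γ] [Finite Γ] (A : Subgroup (MulAut Γ))

/-- the fixed points of a subgroup of `A` normal in `A` are `A`-invariant -/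
theorem fixSub_invariant (Q : Subgroup (MulAut Γ)) (hQn : ∀ a ∈ A, ∀ q ∈ Q, a * q * a⁻¹ ∈ Q) :
    ∀ a ∈ A, ∀ x ∈ fixSub Q, a x ∈ fixSub Q := by
  intro a ha x hx q hq
  have h1 := hQn a⁻¹ (inv_mem ha) q hq
  have h2 := hx _ h1
  rw [inv_inv, MulAut.mul_apply, MulAut.mul_apply] at h2
  have h3 := congrArg a h2
  rw [MulAut.apply_inv_self] at h3
  exact h3

/-- restriction to a smaller invariant subgroup keeps the image a `p`-group -/
theorem isPGroup_resAut_of_le (Q : Subgroup (MulAut Γ)) {G N : Subgroup Γ} (hNG : N ≤ G)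
    (hQG : ∀ q ∈ Q, ∀ g ∈ G, q g ∈ G) (hQN : ∀ q ∈ Q, ∀ n ∈ N, q n ∈ N) (p : ℕ)
    (h : IsPGroup p (resAut G Q hQG).range) : IsPGroup p (resAut N Q hQN).range := by
  rintro ⟨_, q, rfl⟩
  obtain ⟨k, hk⟩ := h ⟨resAut G Q hQG q, ⟨q, rfl⟩⟩
  refine ⟨k, Subtype.ext ?_⟩
  have h1 : (resAut G Q hQG q) ^ (p ^ k) = 1 := congrArg Subtype.val hk
  rw [← map_pow] at h1
  show (resAut N Q hQN q) ^ (p ^ k) = 1
  rw [← map_pow]
  apply MulEquiv.ext
  intro n
  apply Subtype.ext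
  have h2 := congrArg (fun f : MulAut G => ((f ⟨n, hNG n.2⟩ : G) : Γ)) h1
  exact h2

/-- the step datum of the induction: a normal subgroup `Q` of `A` acting on `G` as a
nontrivial `p`-group -/
theorem exists_pstep (hsolv : Group.IsSolvable A) (G : Subgroup Γ)
    (hAG : ∀ a ∈ A, ∀ g ∈ G, a g ∈ G) (hcop : (Nat.card A).Coprime (Nat.card G))
    (hne : (resAut G A hAG).range ≠ ⊥) :
    ∃ (p : ℕ) (Q : Subgroup (MulAut Γ)) (hQG : ∀ q ∈ Q, ∀ g ∈ G, q g ∈ G), p.Prime ∧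
      ¬ p ∣ Nat.card G ∧ Q ≤ A ∧ (∀ a ∈ A, ∀ q ∈ Q, a * q * a⁻¹ ∈ Q) ∧
      IsPGroup p (resAut G Q hQG).range ∧ (∃ q ∈ Q, ∃ g ∈ G, q g ≠ g) := by
  classical
  haveI : Group.IsSolvable (resAut G A hAG).range :=
    Group.isSolvable_of_surjective (f := (resAut G A hAG).rangeRestrict)
      (resAut G A hAG).rangeRestrict_surjective
  haveI : Nontrivial (resAut G A hAG).range := (Subgroup.nontrivial_iff_ne_bot _).2 hne
  obtain ⟨p, P, hp, hPn, hPp, hPne⟩ := exists_normal_pgroup (resAut G A hAG).range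
  haveI : Fact p.Prime := ⟨hp⟩
  have hQA : (P.comap (resAut G A hAG).rangeRestrict).map A.subtype ≤ A := by
    rintro _ ⟨a, _, rfl⟩
    exact a.2
  have hQG : ∀ q ∈ (P.comap (resAut G A hAG).rangeRestrict).map A.subtype, ∀ g ∈ G, q g ∈ G :=
    fun q hq => hAG q (hQA hq)
  refine ⟨p, (P.comap (resAut G A hAG).rangeRestrict).map A.subtype, hQG, hp, ?_, hQA, ?_, ?_, ?_⟩
  · -- p ∤ |G|
    obtain ⟨n, hn⟩ := IsPGroup.iff_card.1 hPp
    have hn0 : n ≠ 0 := by
      rintro rfl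
      rw [pow_zero] at hn
      exact hPne (Subgroup.card_eq_one.1 hn)
    have h1 : p ∣ Nat.card P := by
      rw [hn]
      exact dvd_pow_self p hn0
    have h2 : p ∣ Nat.card A :=
      (h1.trans (Subgroup.card_subgroup_dvd_card P)).trans (Subgroup.card_range_dvd _)
    intro h3
    exact hp.one_lt.ne' (Nat.eq_one_of_dvd_coprimes hcop h2 h3)
  · -- normality
    rintro a ha _ ⟨q, hq, rfl⟩
    have hq' : (resAut G A hAG).rangeRestrict q ∈ P := hq
    refine ⟨⟨a, ha⟩ * q * ⟨a, ha⟩⁻¹, ?_, rfl⟩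
    show (resAut G A hAG).rangeRestrict (⟨a, ha⟩ * q * ⟨a, ha⟩⁻¹) ∈ P
    rw [map_mul, map_mul, map_inv]
    exact hPn.conj_mem _ hq' _
  · -- p-group
    rintro ⟨_, ⟨_, q, hq, rfl⟩, rfl⟩
    have hq' : (resAut G A hAG).rangeRestrict q ∈ P := hq
    obtain ⟨k, hk⟩ := hPp ⟨_, hq'⟩
    refine ⟨k, Subtype.ext ?_⟩
    have h1 : ((resAut G A hAG).rangeRestrict q : MulAut G) ^ (p ^ k) = 1 := by
      have := congrArg (fun z : P => ((z : (resAut G A hAG).range) : MulAut G)) hk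
      exact this
    exact h1
  · -- nontrivial action
    obtain ⟨y, hy1⟩ := (Subgroup.ne_bot_iff_exists_ne_one).1 hPne
    obtain ⟨q', hq'⟩ := y.1.2
    have hyq : (resAut G A hAG).rangeRestrict q' = y.1 := Subtype.ext hq'
    refine ⟨q'.1, ⟨q', ?_, rfl⟩, ?_⟩
    · show (resAut G A hAG).rangeRestrict q' ∈ P
      rw [hyq]
      exact y.2
    · by_contra hcon
      push Not at hcon
      apply hy1
      apply Subtype.ext
      apply Subtype.ext
      rw [← hq']
      apply MulEquiv.ext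
      intro g
      apply Subtype.ext
      exact hcon g g.2

/-- the measure of the induction decreases -/
theorem card_range_lt (Q : Subgroup (MulAut Γ)) (hQA : Q ≤ A) (G : Subgroup Γ)
    (hAG : ∀ a ∈ A, ∀ g ∈ G, a g ∈ G)
    (hAC : ∀ a ∈ A, ∀ g ∈ G ⊓ fixSub Q, a g ∈ G ⊓ fixSub Q)
    (hne : ∃ q ∈ Q, ∃ g ∈ G, q g ≠ g) :
    Nat.card (resAut (G ⊓ fixSub Q) A hAC).range < Nat.card (resAut G A hAG).range := by
  rw [← Subgroup.index_ker, ← Subgroup.index_ker]
  have hle : (resAut G A hAG).ker ≤ (resAut (G ⊓ fixSub Q) A hAC).ker := by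
    intro a ha
    rw [MonoidHom.mem_ker] at ha ⊢
    apply MulEquiv.ext
    intro c
    apply Subtype.ext
    have h1 := congrArg (fun f : MulAut G => ((f ⟨c, c.2.1⟩ : G) : Γ)) ha
    exact h1
  obtain ⟨q, hq, g, hg, hqg⟩ := hne
  have hq1 : (⟨q, hQA hq⟩ : A) ∈ (resAut (G ⊓ fixSub Q) A hAC).ker := by
    rw [MonoidHom.mem_ker]
    apply MulEquiv.ext
    intro c
    apply Subtype.ext
    exact c.2.2 q hq
  have hq2 : (⟨q, hQA hq⟩ : A) ∉ (resAut G A hAG).ker := by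
    intro h
    rw [MonoidHom.mem_ker] at h
    have h1 := congrArg (fun f : MulAut G => ((f ⟨g, hg⟩ : G) : Γ)) h
    exact hqg h1
  have hrel := Subgroup.relIndex_mul_index hle
  have hr1 : (resAut G A hAG).ker.relIndex (resAut (G ⊓ fixSub Q) A hAC).ker ≠ 1 := by
    intro h
    exact hq2 (Subgroup.relIndex_eq_one.1 h hq1)
  have hr0 : (resAut G A hAG).ker.relIndex (resAut (G ⊓ fixSub Q) A hAC).ker ≠ 0 := by
    unfold Subgroup.relIndex
    exact Subgroup.index_ne_zero_of_finite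
  have hi0 : (resAut (G ⊓ fixSub Q) A hAC).ker.index ≠ 0 := Subgroup.index_ne_zero_of_finite
  rw [← hrel]
  have h2 : 2 ≤ (resAut G A hAG).ker.relIndex (resAut (G ⊓ fixSub Q) A hAC).ker := by omega
  nlinarith [Nat.pos_of_ne_zero hi0]

end Step

/-- uniqueness of the Glauberman correspondent -/
theorem glaub_unique {p : ℕ} {G : Type u} {C : Type u} [Group G] [Group C] [Fintype C]
    {ι : C →* G} {Inv : (G → ℂ) → Prop} (gl : Helper75.GlaubCorr p ι Inv) {χ : G → ℂ}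
    (hχ : Cfsg.IsIrrCharacter G χ) (hI : Inv χ) {β β' : C → ℂ}
    (hβ : Cfsg.IsIrrCharacter C β) (hβ' : Cfsg.IsIrrCharacter C β') {m m' : ℕ}
    (hm : Cfsg.classInner (fun c => χ (ι c)) β = (m : ℂ)) (hpm : ¬ p ∣ m)
    (hm' : Cfsg.classInner (fun c => χ (ι c)) β' = (m' : ℂ)) (hpm' : ¬ p ∣ m') : β = β' := by
  obtain ⟨β₀, ε, hβ₀, hε, h⟩ := gl.1 χ hχ hI
  have key : ∀ (β₁ : C → ℂ), Cfsg.IsIrrCharacter C β₁ → ∀ k : ℕ,
      Cfsg.classInner (fun c => χ (ι c)) β₁ = (k : ℂ) → ¬ p ∣ k → β₁ = β₀ := by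
    intro β₁ hβ₁ k hk hpk
    by_contra hne
    obtain ⟨k', hk', -, hk2⟩ := h β₁ hβ₁
    have h1 := hk2 hne
    rw [hk] at hk'
    have h2 : k = k' := by exact_mod_cast hk'
    rw [← h2] at h1
    exact hpk (Int.natCast_dvd_natCast.1 h1)
  rw [key β hβ m hm hpm, key β' hβ' m' hm' hpm']

section GlaubInv

variable {Γ : Type u} [Group Γ] [Finite Γ] (A Q : Subgroup (MulAut Γ))
  (G C : Subgroup Γ) [Fintype C] {p : ℕ}

/-- the Glauberman correspondent of an `A`-invariant character is `A`-invariant -/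
theorem glaub_inv_down (hQA : Q ≤ A) (hCG : C ≤ G) (hAC : ∀ a ∈ A, ∀ c ∈ C, a c ∈ C)
    (gl : Helper75.GlaubCorr p (Subgroup.inclusion hCG) (InvR Q G))
    {χ : G → ℂ} (hχ : Cfsg.IsIrrCharacter G χ) (hinv : InvR A G χ)
    {β : C → ℂ} (hβ : Cfsg.IsIrrCharacter C β) {m : ℕ}
    (hm : Cfsg.classInner (fun c => χ (Subgroup.inclusion hCG c)) β = (m : ℂ))
    (hpm : ¬ p ∣ m) : InvR A C β := by
  intro a ha c h
  have h1 : Cfsg.classInner
      (fun c : C => χ (Subgroup.inclusion hCG (resAut C A hAC ⟨a, ha⟩ c)))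
      (fun c : C => β (resAut C A hAC ⟨a, ha⟩ c)) =
      Cfsg.classInner (fun c => χ (Subgroup.inclusion hCG c)) β :=
    classInner_comp_mulEquiv (resAut C A hAC ⟨a, ha⟩ : C ≃* C)
      (fun c => χ (Subgroup.inclusion hCG c)) β
  have h2 : (fun c : C => χ (Subgroup.inclusion hCG (resAut C A hAC ⟨a, ha⟩ c))) =
      fun c => χ (Subgroup.inclusion hCG c) := by
    funext c
    exact hinv a ha (Subgroup.inclusion hCG c) _
  rw [h2, hm] at h1
  have h3 := glaub_unique gl hχ (fun q hq => hinv q (hQA hq)) hβ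
    (Helper80.isIrrCharacter_comp_mulEquiv (resAut C A hAC ⟨a, ha⟩ : C ≃* C) hβ) hm hpm h1 hpm
  exact (congrFun h3 c).symm

/-- a `Q`-invariant character with `A`-invariant Glauberman correspondent is `A`-invariant -/
theorem glaub_inv_up (hQA : Q ≤ A) (hCG : C ≤ G) (hAG : ∀ a ∈ A, ∀ g ∈ G, a g ∈ G)
    (hAC : ∀ a ∈ A, ∀ c ∈ C, a c ∈ C)
    (gl : Helper75.GlaubCorr p (Subgroup.inclusion hCG) (InvR Q G))
    (hQn : ∀ a ∈ A, ∀ q ∈ Q, a * q * a⁻¹ ∈ Q) {χ : G → ℂ}
    (hχ : Cfsg.IsIrrCharacter G χ) (hinvQ : InvR Q G χ)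
    {β : C → ℂ} (hβ : Cfsg.IsIrrCharacter C β) (hinvβ : InvR A C β) {m : ℕ}
    (hm : Cfsg.classInner (fun c => χ (Subgroup.inclusion hCG c)) β = (m : ℂ))
    (hpm : ¬ p ∣ m) : InvR A G χ := by
  intro a ha g h
  have hχ' : Cfsg.IsIrrCharacter G (fun g => χ (resAut G A hAG ⟨a, ha⟩ g)) :=
    Helper80.isIrrCharacter_comp_mulEquiv (resAut G A hAG ⟨a, ha⟩ : G ≃* G) hχ
  have hinv' : InvR Q G (fun g => χ (resAut G A hAG ⟨a, ha⟩ g)) := by
    intro q hq x hx
    have h1 := hQn a ha q hq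
    have hmem : (a * q * a⁻¹) ((resAut G A hAG ⟨a, ha⟩ x : G) : Γ) ∈ G :=
      hAG _ (A.mul_mem (A.mul_mem ha (hQA hq)) (A.inv_mem ha)) _ (resAut G A hAG ⟨a, ha⟩ x).2
    have h2 := hinvQ _ h1 (resAut G A hAG ⟨a, ha⟩ x) hmem
    have h3 : resAut G A hAG ⟨a, ha⟩ ⟨q x, hx⟩ =
        ⟨(a * q * a⁻¹) ((resAut G A hAG ⟨a, ha⟩ x : G) : Γ), hmem⟩ := by
      apply Subtype.ext
      show a (q (x : Γ)) = (a * q * a⁻¹) (a (x : Γ))
      rw [MulAut.mul_apply, MulAut.mul_apply, MulAut.inv_apply_self]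
    show χ (resAut G A hAG ⟨a, ha⟩ ⟨q x, hx⟩) = χ (resAut G A hAG ⟨a, ha⟩ x)
    rw [h3]
    exact h2
  have h1 : Cfsg.classInner
      (fun c : C => χ (resAut G A hAG ⟨a, ha⟩ (Subgroup.inclusion hCG c))) β = (m : ℂ) := by
    have h2 : Cfsg.classInner
        (fun c : C => χ (Subgroup.inclusion hCG (resAut C A hAC ⟨a, ha⟩ c)))
        (fun c : C => β (resAut C A hAC ⟨a, ha⟩ c)) =
        Cfsg.classInner (fun c => χ (Subgroup.inclusion hCG c)) β :=
      classInner_comp_mulEquiv (resAut C A hAC ⟨a, ha⟩ : C ≃* C)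
        (fun c => χ (Subgroup.inclusion hCG c)) β
    have h3 : (fun c : C => β (resAut C A hAC ⟨a, ha⟩ c)) = β :=
      funext (fun c => hinvβ a ha c _)
    rw [h3, hm] at h2
    exact h2
  have h2 := gl.2.1 χ (fun g => χ (resAut G A hAG ⟨a, ha⟩ g)) hχ hχ' hinvQ hinv' β hβ m m hm hpm
    h1 hpm
  exact (congrFun h2 g).symm

/-- the Glauberman correspondence restricts to a bijection of `A`-invariant characters -/
theorem glaub_card (hQA : Q ≤ A) (hCG : C ≤ G) (hAG : ∀ a ∈ A, ∀ g ∈ G, a g ∈ G)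
    (hAC : ∀ a ∈ A, ∀ c ∈ C, a c ∈ C)
    (gl : Helper75.GlaubCorr p (Subgroup.inclusion hCG) (InvR Q G))
    (hp : p.Prime) (hQn : ∀ a ∈ A, ∀ q ∈ Q, a * q * a⁻¹ ∈ Q) :
    Nat.card {χ : Cfsg.IrrCharacter G // InvR A G (χ : G → ℂ)} =
      Nat.card {β : Cfsg.IrrCharacter C // InvR A C (β : C → ℂ)} := by
  classical
  have hex : ∀ χ : {χ : Cfsg.IrrCharacter G // InvR A G (χ : G → ℂ)},
      ∃ β : {β : Cfsg.IrrCharacter C // InvR A C (β : C → ℂ)}, ∃ m : ℕ,
        Cfsg.classInner (fun c => (χ.1 : G → ℂ) (Subgroup.inclusion hCG c)) (β.1 : C → ℂ) =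
          (m : ℂ) ∧ ¬ p ∣ m := by
    intro χ
    obtain ⟨β₀, ε, hβ₀, hε, h⟩ := gl.1 χ.1.1 χ.1.2 (fun q hq => χ.2 q (hQA hq))
    obtain ⟨m, hm, hm1, -⟩ := h β₀ hβ₀
    have hpm : ¬ p ∣ m := Helper75.not_dvd_of_modEq_sign hp hε (hm1 rfl)
    exact ⟨⟨⟨β₀, hβ₀⟩, glaub_inv_down A Q G C hQA hCG hAC gl χ.1.2 χ.2 hβ₀ hm hpm⟩, m, hm, hpm⟩
  choose Φ hΦ using hex
  apply Nat.card_congr (Equiv.ofBijective Φ ⟨?_, ?_⟩)
  · intro χ χ' h
    obtain ⟨m, hm, hpm⟩ := hΦ χ
    obtain ⟨m', hm', hpm'⟩ := hΦ χ'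
    rw [← h] at hm'
    have h1 := gl.2.1 χ.1.1 χ'.1.1 χ.1.2 χ'.1.2 (fun q hq => χ.2 q (hQA hq))
      (fun q hq => χ'.2 q (hQA hq)) (Φ χ).1.1 (Φ χ).1.2 m m' hm hpm hm' hpm'
    exact Subtype.ext (Subtype.ext h1)
  · intro β
    obtain ⟨χ, hχ, hI, m, hm, hpm⟩ := gl.2.2 β.1.1 β.1.2
    have hA := glaub_inv_up A Q G C hQA hCG hAG hAC gl hQn hχ hI β.1.2 β.2 hm hpm
    refine ⟨⟨⟨χ, hχ⟩, hA⟩, ?_⟩
    obtain ⟨m', hm', hpm'⟩ := hΦ ⟨⟨χ, hχ⟩, hA⟩
    have h1 := glaub_unique gl hχ hI (Φ ⟨⟨χ, hχ⟩, hA⟩).1.2 β.1.2 hm' hpm' hm hpm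
    exact Subtype.ext (Subtype.ext h1)

end GlaubInv

section Classes

variable {Γ : Type u} [Group Γ] [Finite Γ]

/-- invariance of a conjugacy class of an invariant subgroup -/
def InvClass (A : Subgroup (MulAut Γ)) (G : Subgroup Γ) (K : ConjClasses G) : Prop :=
  ∀ a ∈ A, ∀ g : G, ∀ h : a (g : Γ) ∈ G, ConjClasses.mk g = K → ConjClasses.mk (⟨a g, h⟩ : G) = K

theorem resAut_fix (G : Subgroup Γ) (Q : Subgroup (MulAut Γ)) (hQG : ∀ q ∈ Q, ∀ g ∈ G, q g ∈ G)
    (c : (G ⊓ fixSub Q : Subgroup Γ)) (a : (resAut G Q hQG).range) :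
    (a : MulAut G) (Subgroup.inclusion inf_le_left c) = Subgroup.inclusion inf_le_left c := by
  obtain ⟨_, q, rfl⟩ := a
  apply Subtype.ext
  exact c.2.2 q.1 q.2

theorem mem_fix_of_fixed (G : Subgroup Γ) (Q : Subgroup (MulAut Γ))
    (hQG : ∀ q ∈ Q, ∀ g ∈ G, q g ∈ G) (x : G)
    (hx : ∀ a : (resAut G Q hQG).range, (a : MulAut G) x = x) : (x : Γ) ∈ G ⊓ fixSub Q := by
  refine ⟨x.2, fun q hq => ?_⟩
  have h := hx ⟨resAut G Q hQG ⟨q, hq⟩, ⟨_, rfl⟩⟩
  exact congrArg Subtype.val h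

/-- fixed points conjugate in `G` are conjugate in the fixed-point subgroup -/
theorem isConj_fix (G : Subgroup Γ) (Q : Subgroup (MulAut Γ)) (hQG : ∀ q ∈ Q, ∀ g ∈ G, q g ∈ G)
    (p : ℕ) (hp : p.Prime) (hpG : ¬ p ∣ Nat.card G) (hQp : IsPGroup p (resAut G Q hQG).range)
    (c c' : (G ⊓ fixSub Q : Subgroup Γ))
    (h : IsConj (Subgroup.inclusion (inf_le_left : G ⊓ fixSub Q ≤ G) c)
      (Subgroup.inclusion (inf_le_left : G ⊓ fixSub Q ≤ G) c')) : IsConj c c' := by
  classical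
  haveI : Fact p.Prime := ⟨hp⟩
  obtain ⟨x₀, hx₀⟩ := isConj_iff.1 h
  letI : MulAction (resAut G Q hQG).range
      {x : G // x * Subgroup.inclusion inf_le_left c * x⁻¹ = Subgroup.inclusion inf_le_left c'} :=
    { smul := fun a x => ⟨(a : MulAut G) x.1, by
        have h1 := resAut_fix G Q hQG c a
        have h2 := resAut_fix G Q hQG c' a
        have h3 := congrArg (a : MulAut G) x.2
        rw [map_mul, map_mul, map_inv, h1, h2] at h3
        exact h3⟩
      one_smul := fun x => Subtype.ext rfl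
      mul_smul := fun a b x => Subtype.ext rfl }
  have hcard : Nat.card {x : G // x * Subgroup.inclusion inf_le_left c * x⁻¹ =
      Subgroup.inclusion inf_le_left c'} =
      Nat.card (Subgroup.centralizer ({Subgroup.inclusion inf_le_left c} : Set G)) := by
    apply Nat.card_congr
    exact
      { toFun := fun x => ⟨x₀⁻¹ * x.1, by
          rw [Subgroup.mem_centralizer_singleton_iff]
          have h1 : x.1 * Subgroup.inclusion inf_le_left c * x.1⁻¹ =
              x₀ * Subgroup.inclusion inf_le_left c * x₀⁻¹ := x.2.trans hx₀.symm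
          have h2 : x₀⁻¹ * (x.1 * Subgroup.inclusion inf_le_left c * x.1⁻¹) * x₀ =
              Subgroup.inclusion inf_le_left c := by
            rw [h1]; group
          calc x₀⁻¹ * x.1 * Subgroup.inclusion inf_le_left c
              = x₀⁻¹ * (x.1 * Subgroup.inclusion inf_le_left c * x.1⁻¹) * x₀ * (x₀⁻¹ * x.1) := by
                group
            _ = Subgroup.inclusion inf_le_left c * (x₀⁻¹ * x.1) := by rw [h2]⟩
        invFun := fun z => ⟨x₀ * z.1, by
          have h1 := Subgroup.mem_centralizer_singleton_iff.1 z.2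
          refine Eq.trans ?_ hx₀
          calc x₀ * z.1 * Subgroup.inclusion inf_le_left c * (x₀ * z.1)⁻¹
              = x₀ * (z.1 * Subgroup.inclusion inf_le_left c) * z.1⁻¹ * x₀⁻¹ := by group
            _ = x₀ * Subgroup.inclusion inf_le_left c * x₀⁻¹ := by rw [h1]; group⟩
        left_inv := fun x => Subtype.ext (by simp)
        right_inv := fun z => Subtype.ext (by simp) }
  have hpX : ¬ p ∣ Nat.card {x : G // x * Subgroup.inclusion inf_le_left c * x⁻¹ =
      Subgroup.inclusion inf_le_left c'} := by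
    rw [hcard]
    exact fun h1 => hpG (h1.trans (Subgroup.card_subgroup_dvd_card _))
  obtain ⟨x, hx⟩ := hQp.nonempty_fixed_point_of_prime_not_dvd_card _ hpX
  rw [MulAction.mem_fixedPoints] at hx
  have hxF := mem_fix_of_fixed G Q hQG x.1 (fun a => congrArg Subtype.val (hx a))
  rw [isConj_iff]
  refine ⟨⟨x.1, hxF⟩, ?_⟩
  apply Subtype.ext
  have h1 := congrArg (fun z : G => (z : Γ)) x.2
  exact h1

/-- a `Q`-invariant class of `G` meets the fixed-point subgroup -/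
theorem exists_fix_of_inv_class (G : Subgroup Γ) (Q : Subgroup (MulAut Γ))
    (hQG : ∀ q ∈ Q, ∀ g ∈ G, q g ∈ G) (p : ℕ) (hp : p.Prime) (hpG : ¬ p ∣ Nat.card G)
    (hQp : IsPGroup p (resAut G Q hQG).range) (K : ConjClasses G) (hK : InvClass Q G K) :
    ∃ c : (G ⊓ fixSub Q : Subgroup Γ),
      ConjClasses.mk (Subgroup.inclusion (inf_le_left : G ⊓ fixSub Q ≤ G) c) = K := by
  classical
  haveI : Fact p.Prime := ⟨hp⟩
  obtain ⟨g₀, hg₀⟩ := ConjClasses.exists_rep K
  have hact : ∀ (a : (resAut G Q hQG).range) (g : G), ConjClasses.mk g = K →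
      ConjClasses.mk ((a : MulAut G) g) = K := by
    rintro ⟨_, q, rfl⟩ g hg
    exact hK q.1 q.2 g _ hg
  letI : MulAction (resAut G Q hQG).range {g : G // ConjClasses.mk g = K} :=
    { smul := fun a x => ⟨(a : MulAut G) x.1, hact a x.1 x.2⟩
      one_smul := fun x => Subtype.ext rfl
      mul_smul := fun a b x => Subtype.ext rfl }
  have hcard : Nat.card {g : G // ConjClasses.mk g = K} =
      (MulAction.stabilizer (ConjAct G) g₀).index := by
    rw [MulAction.index_stabilizer, ← Nat.card_coe_set_eq]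
    apply Nat.card_congr
    apply Equiv.subtypeEquivRight
    intro g
    rw [ConjAct.mem_orbit_conjAct, ← hg₀, ConjClasses.mk_eq_mk_iff_isConj]
  have hpX : ¬ p ∣ Nat.card {g : G // ConjClasses.mk g = K} := by
    rw [hcard]
    intro h1
    have h2 : (MulAction.stabilizer (ConjAct G) g₀).index ∣ Nat.card (ConjAct G) :=
      Subgroup.index_dvd_card _
    exact hpG (h1.trans h2)
  obtain ⟨x, hx⟩ := hQp.nonempty_fixed_point_of_prime_not_dvd_card _ hpX
  rw [MulAction.mem_fixedPoints] at hx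
  have hxF := mem_fix_of_fixed G Q hQG x.1 (fun a => congrArg Subtype.val (hx a))
  exact ⟨⟨x.1, hxF⟩, x.2⟩

/-- the invariant classes of `G` correspond to the invariant classes of the fixed points -/
theorem card_inv_classes (A Q : Subgroup (MulAut Γ)) (hQA : Q ≤ A) (G : Subgroup Γ)
    (hAG : ∀ a ∈ A, ∀ g ∈ G, a g ∈ G)
    (hAC : ∀ a ∈ A, ∀ c ∈ G ⊓ fixSub Q, a c ∈ G ⊓ fixSub Q)
    (hQG : ∀ q ∈ Q, ∀ g ∈ G, q g ∈ G) (p : ℕ) (hp : p.Prime) (hpG : ¬ p ∣ Nat.card G)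
    (hQp : IsPGroup p (resAut G Q hQG).range) :
    Nat.card {K : ConjClasses (G ⊓ fixSub Q : Subgroup Γ) // InvClass A (G ⊓ fixSub Q) K} =
      Nat.card {K : ConjClasses G // InvClass A G K} := by
  classical
  have hfix := isConj_fix G Q hQG p hp hpG hQp
  have hwd : ∀ κ : {K : ConjClasses (G ⊓ fixSub Q : Subgroup Γ) // InvClass A (G ⊓ fixSub Q) K},
      InvClass A G (ConjClasses.map (Subgroup.inclusion (inf_le_left : G ⊓ fixSub Q ≤ G)) κ.1) := by
    rintro ⟨κ, hκ⟩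
    obtain ⟨c, rfl⟩ := ConjClasses.exists_rep κ
    intro a ha g h hg
    show ConjClasses.mk (⟨a g, h⟩ : G) = ConjClasses.mk (Subgroup.inclusion inf_le_left c)
    have hg' : IsConj g (Subgroup.inclusion inf_le_left c) :=
      ConjClasses.mk_eq_mk_iff_isConj.1 hg
    have h1 := (resAut G A hAG ⟨a, ha⟩ : G ≃* G).toMonoidHom.map_isConj hg'
    have h2 := hκ a ha c (hAC a ha c c.2) rfl
    have h3 := (Subgroup.inclusion (inf_le_left : G ⊓ fixSub Q ≤ G)).map_isConj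
      (ConjClasses.mk_eq_mk_iff_isConj.1 h2)
    exact ConjClasses.mk_eq_mk_iff_isConj.2 (h1.trans h3)
  apply Nat.card_congr (Equiv.ofBijective (fun κ => ⟨_, hwd κ⟩) ⟨?_, ?_⟩)
  · rintro ⟨κ, hκ⟩ ⟨κ', hκ'⟩ h
    obtain ⟨c, rfl⟩ := ConjClasses.exists_rep κ
    obtain ⟨c', rfl⟩ := ConjClasses.exists_rep κ'
    have h1 : ConjClasses.mk (Subgroup.inclusion (inf_le_left : G ⊓ fixSub Q ≤ G) c) =
        ConjClasses.mk (Subgroup.inclusion (inf_le_left : G ⊓ fixSub Q ≤ G) c') :=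
      congrArg Subtype.val h
    exact Subtype.ext (ConjClasses.mk_eq_mk_iff_isConj.2
      (hfix c c' (ConjClasses.mk_eq_mk_iff_isConj.1 h1)))
  · rintro ⟨K, hK⟩
    obtain ⟨c, hc⟩ := exists_fix_of_inv_class G Q hQG p hp hpG hQp K
      (fun q hq => hK q (hQA hq))
    have hκ : InvClass A (G ⊓ fixSub Q) (ConjClasses.mk c) := by
      intro a ha c₁ h hc₁
      have h1 := (resAut (G ⊓ fixSub Q) A hAC ⟨a, ha⟩ :
        (G ⊓ fixSub Q : Subgroup Γ) ≃* (G ⊓ fixSub Q : Subgroup Γ)).toMonoidHom.map_isConj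
        (ConjClasses.mk_eq_mk_iff_isConj.1 hc₁)
      have h2 := hK a ha (Subgroup.inclusion inf_le_left c) (hAG a ha _ c.2.1) hc
      rw [← hc] at h2
      have h3 := hfix ⟨a (c : Γ), hAC a ha c c.2⟩ c (ConjClasses.mk_eq_mk_iff_isConj.1 h2)
      exact ConjClasses.mk_eq_mk_iff_isConj.2 (h1.trans h3)
    exact ⟨⟨ConjClasses.mk c, hκ⟩, Subtype.ext hc⟩

end Classes

section Count

variable {Γ : Type u} [Group Γ] [Finite Γ]

theorem card_inv_irr_eq_card_inv_classes_aux (A : Subgroup (MulAut Γ))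
    (hsolv : Group.IsSolvable A) :
    ∀ (m : ℕ) (G : Subgroup Γ) (hAG : ∀ a ∈ A, ∀ g ∈ G, a g ∈ G),
      (Nat.card A).Coprime (Nat.card G) → Nat.card (resAut G A hAG).range = m →
      Nat.card {χ : Cfsg.IrrCharacter G // InvR A G (χ : G → ℂ)} =
        Nat.card {K : ConjClasses G // InvClass A G K} := by
  intro m
  induction m using Nat.strong_induction_on with
  | _ m ih =>
    intro G hAG hcop hm
    classical
    by_cases hbot : (resAut G A hAG).range = ⊥
    · have htriv : ∀ a ∈ A, ∀ g : G, ∀ h : a (g : Γ) ∈ G, (⟨a g, h⟩ : G) = g := by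
        intro a ha g h
        have h1 : resAut G A hAG ⟨a, ha⟩ ∈ (resAut G A hAG).range := ⟨_, rfl⟩
        rw [hbot, Subgroup.mem_bot] at h1
        have h2 := congrArg (fun f : MulAut G => f g) h1
        exact h2
      have h1 : ∀ χ : Cfsg.IrrCharacter G, InvR A G (χ : G → ℂ) := by
        intro χ a ha g h
        rw [htriv a ha g h]
      have h2 : ∀ K : ConjClasses G, InvClass A G K := by
        intro K a ha g h hg
        rw [htriv a ha g h]
        exact hg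
      haveI : Fintype G := Fintype.ofFinite _
      haveI : Fintype (Cfsg.IrrCharacter G) := Fintype.ofFinite _
      rw [Nat.card_congr (Equiv.subtypeUnivEquiv h1), Nat.card_congr (Equiv.subtypeUnivEquiv h2)]
      exact Helper80.card_irr_eq_card_conjClasses
    · obtain ⟨p, Q, hQG, hp, hpG, hQA, hQn, hQp, hne⟩ := exists_pstep A hsolv G hAG hcop hbot
      have hAF := fixSub_invariant A Q hQn
      have hAC : ∀ a ∈ A, ∀ c ∈ G ⊓ fixSub Q, a c ∈ G ⊓ fixSub Q :=
        fun a ha c hc => ⟨hAG a ha c hc.1, hAF a ha c hc.2⟩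
      haveI : Fintype (G ⊓ fixSub Q : Subgroup Γ) := Fintype.ofFinite _
      have gl := glaub_rel G Q hQG p hp hpG hQp
      have h1 := glaub_card A Q G (G ⊓ fixSub Q) hQA inf_le_left hAG hAC gl hp hQn
      have hlt := card_range_lt A Q hQA G hAG hAC hne
      rw [hm] at hlt
      have hcop' : (Nat.card A).Coprime (Nat.card (G ⊓ fixSub Q : Subgroup Γ)) :=
        Nat.Coprime.coprime_dvd_right (Subgroup.card_dvd_of_le inf_le_left) hcop
      have h2 := ih _ hlt (G ⊓ fixSub Q) hAC hcop' rfl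
      have h3 := card_inv_classes A Q hQA G hAG hAC hQG p hp hpG hQp
      rw [h1, h2, h3]

/-- **Isaacs 13.24**: a solvable group of automorphisms of coprime order fixes as many
irreducible characters as conjugacy classes -/
theorem card_inv_irr_eq_card_inv_classes (A : Subgroup (MulAut Γ)) (hsolv : Group.IsSolvable A)
    (G : Subgroup Γ) (hAG : ∀ a ∈ A, ∀ g ∈ G, a g ∈ G)
    (hcop : (Nat.card A).Coprime (Nat.card G)) :
    Nat.card {χ : Cfsg.IrrCharacter G // InvR A G (χ : G → ℂ)} =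
      Nat.card {K : ConjClasses G // InvClass A G K} :=
  card_inv_irr_eq_card_inv_classes_aux A hsolv _ G hAG hcop rfl

end Count

end Cfsg.Agent.Lib.Helper81
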