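import Mathlib
import Cfsg.Prelude.Def_Characters
import Cfsg.Prelude.Def_Blocks
import Cfsg.Agent.Lib.Helper81.GlaubRel
import Cfsg.Agent.Lib.Helper74.OrbitSum

/-!
# Invariant constituents above an invariant character of a normal subgroup, for a solvable
group of operators of coprime order (Isaacs 13.31)
-/

set_option autoImplicit false
set_option linter.unusedSectionVars false
set_option linter.style.haveILetI false

namespace Cfsg.Agent.Lib.Helper81

open scoped ComplexConjugate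

universe u

/-- **Clifford**: the multiplicity of a constituent of `χ_N` divides the degree of `χ` -/
theorem mult_dvd_degree {G : Type u} [Group G] [Fintype G] (N : Subgroup G) [N.Normal]
    [Fintype N] {χ : G → ℂ} (hχ : Cfsg.IsIrrCharacter G χ) {θ : N → ℂ}
    (hθ : Cfsg.IsIrrCharacter N θ) {m : ℕ}
    (hm : Cfsg.classInner (fun n : N => χ n) θ = (m : ℂ)) (hm0 : m ≠ 0) :
    m ∣ Cfsg.charDegree χ := by
  classical
  haveI : Fintype (Cfsg.IrrCharacter N) := Fintype.ofFinite _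
  have hχc := Helper80.isCharacter_of_isIrrCharacter hχ
  have hχcl := Helper80.isClassFunction_of_isCharacter hχc
  have hres := Helper80.isCharacter_restrict N hχc
  obtain ⟨mult, hmult, hexp⟩ := Helper80.character_expansion hres
  have hdeg := Helper80.charDegree_eq_sum hres mult hexp
  have hdeg' : Cfsg.charDegree (fun n : N => χ n) = Cfsg.charDegree χ := rfl
  rw [← hdeg', hdeg]
  apply Finset.dvd_sum
  intro φ _
  by_cases h0 : mult φ = 0
  · rw [h0, zero_mul]
    exact dvd_zero _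
  · have hne : Cfsg.classInner (fun n : N => χ n) (φ : N → ℂ) ≠ 0 := by
      rw [hmult φ]
      exact_mod_cast h0
    have hne' : Cfsg.classInner (fun n : N => χ n) θ ≠ 0 := by
      rw [hm]
      exact_mod_cast hm0
    obtain ⟨g, hg⟩ := Helper75.clifford_conj N hχ hθ φ.2 hne' hne
    have h1 : Cfsg.classInner (fun n : N => χ n) (φ : N → ℂ) = (m : ℂ) := by
      rw [← hg, Helper75.classInner_res_conjChar N hχcl, hm]
    rw [hmult φ] at h1
    have h2 : mult φ = m := by exact_mod_cast h1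
    rw [h2]
    exact dvd_mul_right _ _

section RelBasics

variable {Γ : Type u} [Group Γ] [Fintype Γ] (G N : Subgroup Γ) [Fintype G] [Fintype N]

/-- some irreducible character of `G` lies over a given irreducible character of `N ≤ G` -/
theorem exists_irr_over_rel (hNG : N ≤ G) {θ : N → ℂ} (hθ : Cfsg.IsIrrCharacter N θ) :
    ∃ χ : G → ℂ, Cfsg.IsIrrCharacter G χ ∧
      Cfsg.classInner (fun n : N => χ ⟨n, hNG n.2⟩) θ ≠ 0 := by
  classical
  have : Fintype (N.subgroupOf G) := Fintype.ofFinite _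
  let e : N.subgroupOf G ≃* N := Subgroup.subgroupOfEquivOfLe hNG
  have hθ' : Cfsg.IsIrrCharacter (N.subgroupOf G) (fun n' => θ (e n')) :=
    Helper80.isIrrCharacter_comp_mulEquiv e hθ
  have hθc := Helper80.isCharacter_of_isIrrCharacter hθ'
  have hind1 : Cfsg.indFun (N.subgroupOf G) (fun n' => θ (e n')) 1 ≠ 0 := by
    rw [Helper80.indFun_one]
    have hi : (N.subgroupOf G).index ≠ 0 := Subgroup.index_ne_zero_of_finite
    have h1 : (fun n' : N.subgroupOf G => θ (e n')) 1 ≠ 0 :=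
      Helper80.char_one_ne_zero (χ := fun n' : N.subgroupOf G => θ (e n')) hθ'
    exact mul_ne_zero (by exact_mod_cast hi) h1
  obtain ⟨χ, hχ, hne⟩ := exists_constituent81 (Helper80.isCharacter_indFun (N.subgroupOf G) hθc)
    hind1
  have hχc := Helper80.isCharacter_of_isIrrCharacter hχ
  refine ⟨χ, hχ, ?_⟩
  rw [Helper80.frobenius_reciprocity (N.subgroupOf G) _ χ
    (Helper80.isClassFunction_of_isCharacter hχc)] at hne
  have h1 : Cfsg.classInner (fun n' : N.subgroupOf G => χ n')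
      (fun n' : N.subgroupOf G => θ (e n')) =
      Cfsg.classInner (fun n : N => χ ⟨n, hNG n.2⟩) θ :=
    classInner_comp_mulEquiv e (fun n : N => χ ⟨n, hNG n.2⟩) θ
  rw [← h1, ← Helper80.classInner_conj_symm]
  exact (map_ne_zero _).2 hne

/-- relative form of `mult_dvd_degree` -/
theorem mult_dvd_degree_rel (hNG : N ≤ G) [hNn : (N.subgroupOf G).Normal] {χ : G → ℂ}
    (hχ : Cfsg.IsIrrCharacter G χ) {θ : N → ℂ} (hθ : Cfsg.IsIrrCharacter N θ) {m : ℕ}
    (hm : Cfsg.classInner (fun n : N => χ ⟨n, hNG n.2⟩) θ = (m : ℂ)) (hm0 : m ≠ 0) :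
    m ∣ Cfsg.charDegree χ := by
  classical
  have : Fintype (N.subgroupOf G) := Fintype.ofFinite _
  let e : N.subgroupOf G ≃* N := Subgroup.subgroupOfEquivOfLe hNG
  have hθ' : Cfsg.IsIrrCharacter (N.subgroupOf G) (fun n' => θ (e n')) :=
    Helper80.isIrrCharacter_comp_mulEquiv e hθ
  have h1 : Cfsg.classInner (fun n' : N.subgroupOf G => χ n')
      (fun n' : N.subgroupOf G => θ (e n')) =
      Cfsg.classInner (fun n : N => χ ⟨n, hNG n.2⟩) θ :=
    classInner_comp_mulEquiv e (fun n : N => χ ⟨n, hNG n.2⟩) θ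
  rw [hm] at h1
  exact mult_dvd_degree (N.subgroupOf G) hχ hθ' h1 hm0

end RelBasics

section Congr

variable {Γ : Type u} [Group Γ] [Fintype Γ]

/-- the multiplicity of a character of `D` in `χ_D`, computed through the Glauberman
correspondent `β` of `χ` on `C` -/
theorem mult_congr_above (G C D : Subgroup Γ) [Fintype G] [Fintype C] [Fintype D] (hCG : C ≤ G)
    (hDC : D ≤ C) {p : ℕ} {Inv : (G → ℂ) → Prop}
    (gl : Helper75.GlaubCorr p (Subgroup.inclusion hCG) Inv) {χ : G → ℂ}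
    (hχ : Cfsg.IsIrrCharacter G χ) (hI : Inv χ) {β : C → ℂ} (hβ : Cfsg.IsIrrCharacter C β)
    {m₀ : ℕ} (hm₀ : Cfsg.classInner (fun c => χ (Subgroup.inclusion hCG c)) β = (m₀ : ℂ))
    (hpm₀ : ¬ p ∣ m₀) {θ : D → ℂ} (hθ : Cfsg.IsCharacter D θ) :
    ∃ x c : ℕ, Cfsg.classInner (fun d : D => χ ⟨d, hCG (hDC d.2)⟩) θ = (x : ℂ) ∧
      Cfsg.classInner (fun d : D => β ⟨d, hDC d.2⟩) θ = (c : ℂ) ∧ x ≡ m₀ * c [MOD p] := by
  classical
  haveI : Fintype (Cfsg.IrrCharacter C) := Fintype.ofFinite _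
  have hχc := Helper80.isCharacter_of_isIrrCharacter hχ
  have hresC : Cfsg.IsCharacter C (fun c => χ (Subgroup.inclusion hCG c)) :=
    Helper80.isCharacter_comp (Subgroup.inclusion hCG) hχc
  obtain ⟨b, hb, hexp⟩ := Helper80.character_expansion hresC
  have hc : ∀ γ : Cfsg.IrrCharacter C, ∃ c : ℕ,
      Cfsg.classInner (fun d : D => (γ : C → ℂ) ⟨d, hDC d.2⟩) θ = (c : ℂ) := fun γ =>
    Helper80.classInner_nat (Helper80.isCharacter_comp (Subgroup.inclusion hDC)
      (Helper80.isCharacter_of_isIrrCharacter γ.2)) hθ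
  choose cc hcc using hc
  have hx : Cfsg.classInner (fun d : D => χ ⟨d, hCG (hDC d.2)⟩) θ =
      ((∑ γ : Cfsg.IrrCharacter C, b γ * cc γ : ℕ) : ℂ) := by
    have h4 : (fun d : D => χ ⟨d, hCG (hDC d.2)⟩) =
        ∑ γ : Cfsg.IrrCharacter C, (b γ : ℂ) • (fun d : D => (γ : C → ℂ) ⟨d, hDC d.2⟩) := by
      funext d
      have h5 := congrFun hexp ⟨d, hDC d.2⟩
      simp only [Finset.sum_apply, Pi.smul_apply] at h5 ⊢
      exact h5
    rw [h4, Helper80.classInner_sum_left]
    push_cast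
    refine Finset.sum_congr rfl (fun γ _ => ?_)
    rw [Helper80.classInner_smul_left, hcc γ]
  obtain ⟨β₀, ε, hβ₀, hε, h⟩ := gl.1 χ hχ hI
  have hββ₀ : β = β₀ := by
    by_contra hne
    obtain ⟨k, hk, -, hk2⟩ := h β hβ
    have h1 := hk2 hne
    rw [hm₀] at hk
    have h2 : m₀ = k := by exact_mod_cast hk
    rw [← h2] at h1
    exact hpm₀ (Int.natCast_dvd_natCast.1 h1)
  have hbdvd : ∀ γ : Cfsg.IrrCharacter C, γ ≠ ⟨β, hβ⟩ → p ∣ b γ := by
    intro γ hγ
    have hne : (γ : C → ℂ) ≠ β₀ := by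
      intro h1
      apply hγ
      apply Subtype.ext
      exact h1.trans hββ₀.symm
    obtain ⟨k, hk, -, hk2⟩ := h γ.1 γ.2
    have h1 := hk2 hne
    rw [hb γ] at hk
    have h2 : b γ = k := by exact_mod_cast hk
    rw [← h2] at h1
    exact Int.natCast_dvd_natCast.1 h1
  have hbβ : b ⟨β, hβ⟩ = m₀ := by
    have h1 := hb ⟨β, hβ⟩
    rw [hm₀] at h1
    exact_mod_cast h1.symm
  refine ⟨_, cc ⟨β, hβ⟩, hx, hcc ⟨β, hβ⟩, ?_⟩
  rw [← Finset.add_sum_erase Finset.univ (fun γ => b γ * cc γ) (Finset.mem_univ ⟨β, hβ⟩), hbβ]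
  have hS : p ∣ ∑ γ ∈ Finset.univ.erase (⟨β, hβ⟩ : Cfsg.IrrCharacter C), b γ * cc γ := by
    apply Finset.dvd_sum
    intro γ hγ
    exact Dvd.dvd.mul_right (hbdvd γ (Finset.ne_of_mem_erase hγ)) _
  exact Nat.ModEq.add_left _ ((Nat.modEq_zero_iff_dvd).2 hS)

/-- the multiplicity of the Glauberman correspondent `θ*` in `α_D`, computed through the
multiplicity of `θ` in the `Q`-invariant character `α` of `N` -/
theorem mult_congr_below (N : Subgroup Γ) [Fintype N] (Q : Subgroup (MulAut Γ))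
    (hQN : ∀ q ∈ Q, ∀ n ∈ N, q n ∈ N) (p : ℕ) (hp : p.Prime)
    (hQp : IsPGroup p (resAut N Q hQN).range) [Fintype (N ⊓ fixSub Q : Subgroup Γ)]
    (gl : Helper75.GlaubCorr p (Subgroup.inclusion (inf_le_left : N ⊓ fixSub Q ≤ N)) (InvR Q N))
    {α : N → ℂ} (hα : Cfsg.IsCharacter N α) (hαinv : InvR Q N α) {θ : N → ℂ}
    (hθ : Cfsg.IsIrrCharacter N θ) (hθinv : InvR Q N θ)
    {θs : (N ⊓ fixSub Q : Subgroup Γ) → ℂ} (hθs : Cfsg.IsIrrCharacter _ θs) {m₁ : ℕ}
    (hm₁ : Cfsg.classInner (fun d => θ (Subgroup.inclusion inf_le_left d)) θs = (m₁ : ℂ))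
    (hpm₁ : ¬ p ∣ m₁) :
    ∃ x a : ℕ, Cfsg.classInner (fun d => α (Subgroup.inclusion inf_le_left d)) θs = (x : ℂ) ∧
      Cfsg.classInner α θ = (a : ℂ) ∧ x ≡ a * m₁ [MOD p] := by
  classical
  haveI : Fact p.Prime := ⟨hp⟩
  haveI : Fintype (Cfsg.IrrCharacter N) := Fintype.ofFinite _
  obtain ⟨av, hav, hexp⟩ := Helper80.character_expansion hα
  have hθsc := Helper80.isCharacter_of_isIrrCharacter hθs
  have hd : ∀ φ : Cfsg.IrrCharacter N, ∃ d : ℕ,
      Cfsg.classInner (fun d => (φ : N → ℂ) (Subgroup.inclusion inf_le_left d)) θs = (d : ℂ) :=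
    fun φ => Helper80.classInner_nat (Helper80.isCharacter_comp (Subgroup.inclusion inf_le_left)
      (Helper80.isCharacter_of_isIrrCharacter φ.2)) hθsc
  choose dd hdd using hd
  have hx : Cfsg.classInner (fun d => α (Subgroup.inclusion inf_le_left d)) θs =
      ((∑ φ : Cfsg.IrrCharacter N, av φ * dd φ : ℕ) : ℂ) := by
    have h4 : (fun d : (N ⊓ fixSub Q : Subgroup Γ) => α (Subgroup.inclusion inf_le_left d)) =
        ∑ φ : Cfsg.IrrCharacter N, (av φ : ℂ) •
          (fun d : (N ⊓ fixSub Q : Subgroup Γ) =>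
            (φ : N → ℂ) (Subgroup.inclusion inf_le_left d)) := by
      funext d
      have h5 := congrFun hexp (Subgroup.inclusion inf_le_left d)
      simp only [Finset.sum_apply, Pi.smul_apply] at h5 ⊢
      exact h5
    rw [h4, Helper80.classInner_sum_left]
    push_cast
    refine Finset.sum_congr rfl (fun φ _ => ?_)
    rw [Helper80.classInner_smul_left, hdd φ]
  letI : MulAction (resAut N Q hQN).range (Cfsg.IrrCharacter N) :=
    MulAction.compHom _ ((autPerm N).comp (resAut N Q hQN).range.subtype)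
  have hsmul : ∀ (a : (resAut N Q hQN).range) (φ : Cfsg.IrrCharacter N) (n : N),
      ((a • φ : Cfsg.IrrCharacter N) : N → ℂ) n = (φ : N → ℂ) ((a : MulAut N)⁻¹ n) :=
    fun _ _ _ => rfl
  have hαP : ∀ (a : (resAut N Q hQN).range) (n : N), α ((a : MulAut N) n) = α n := by
    rintro ⟨_, q, rfl⟩ n
    exact hαinv q.1 q.2 n _
  have hθP : ∀ (a : (resAut N Q hQN).range) (n : N), θ ((a : MulAut N) n) = θ n := by
    rintro ⟨_, q, rfl⟩ n
    exact hθinv q.1 q.2 n _
  have hf : ∀ (a : (resAut N Q hQN).range) (φ : Cfsg.IrrCharacter N),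
      av (a • φ) * dd (a • φ) = av φ * dd φ := by
    intro a φ
    have h1 : av (a • φ) = av φ := by
      have h2 := hav (a • φ)
      have h3 : Cfsg.classInner (fun n : N => α (((a⁻¹ : (resAut N Q hQN).range) : MulAut N) n))
          (fun n : N => (φ : N → ℂ) (((a⁻¹ : (resAut N Q hQN).range) : MulAut N) n)) =
          Cfsg.classInner α (φ : N → ℂ) :=
        classInner_comp_mulEquiv (((a⁻¹ : (resAut N Q hQN).range) : MulAut N) : N ≃* N) α
          (φ : N → ℂ)
      have h4 : (fun n : N => α (((a⁻¹ : (resAut N Q hQN).range) : MulAut N) n)) = α :=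
        funext (fun n => hαP a⁻¹ n)
      have h5 : (fun n : N => (φ : N → ℂ) (((a⁻¹ : (resAut N Q hQN).range) : MulAut N) n)) =
          ((a • φ : Cfsg.IrrCharacter N) : N → ℂ) := by
        funext n
        rw [hsmul]
        rfl
      rw [h4, h5, h2, hav φ] at h3
      exact_mod_cast h3
    have h2 : dd (a • φ) = dd φ := by
      have h3 := hdd (a • φ)
      have h4 : (fun d : (N ⊓ fixSub Q : Subgroup Γ) =>
          ((a • φ : Cfsg.IrrCharacter N) : N → ℂ) (Subgroup.inclusion inf_le_left d)) =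
          fun d => (φ : N → ℂ) (Subgroup.inclusion inf_le_left d) := by
        funext d
        rw [hsmul]
        have h5 := resAut_fix N Q hQN d a⁻¹
        rw [show ((a : MulAut N)⁻¹ : MulAut N) = ((a⁻¹ : (resAut N Q hQN).range) : MulAut N)
          from rfl, h5]
      rw [h4, hdd φ] at h3
      exact_mod_cast h3.symm
    rw [h1, h2]
  have hmod := Helper74.sum_modEq_sum_fixed p hQp (fun φ => av φ * dd φ) hf
    (Finset.univ.filter (fun φ : Cfsg.IrrCharacter N =>
      ∀ a : (resAut N Q hQN).range, a • φ = φ)) (fun φ => by simp)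
  have hθmem : (⟨θ, hθ⟩ : Cfsg.IrrCharacter N) ∈ Finset.univ.filter
      (fun φ : Cfsg.IrrCharacter N => ∀ a : (resAut N Q hQN).range, a • φ = φ) := by
    rw [Finset.mem_filter]
    refine ⟨Finset.mem_univ _, fun a => ?_⟩
    apply Subtype.ext
    funext n
    rw [hsmul]
    exact hθP a⁻¹ n
  have hdvd : ∀ φ ∈ (Finset.univ.filter (fun φ : Cfsg.IrrCharacter N =>
      ∀ a : (resAut N Q hQN).range, a • φ = φ)).erase ⟨θ, hθ⟩, p ∣ av φ * dd φ := by
    intro φ hφ
    have hne := Finset.ne_of_mem_erase hφ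
    have hfix := (Finset.mem_filter.1 (Finset.mem_of_mem_erase hφ)).2
    apply Dvd.dvd.mul_left
    by_contra hnd
    have hφinv : InvR Q N (φ : N → ℂ) := by
      intro q hq n h
      have h1 := congrArg (fun ψ : Cfsg.IrrCharacter N => (ψ : N → ℂ) ⟨q n, h⟩)
        (hfix ⟨resAut N Q hQN ⟨q, hq⟩, ⟨_, rfl⟩⟩)
      have h2 : (resAut N Q hQN ⟨q, hq⟩)⁻¹ ⟨q n, h⟩ = n := by
        apply Subtype.ext
        rw [resAut_inv_apply]
        exact MulAut.inv_apply_self _ _ _
      simp only [hsmul] at h1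
      rw [h2] at h1
      exact h1.symm
    have h3 := gl.2.1 (φ : N → ℂ) θ φ.2 hθ hφinv hθinv θs hθs (dd φ) m₁ (hdd φ) hnd hm₁ hpm₁
    exact hne (Subtype.ext h3)
  have hddθ : dd ⟨θ, hθ⟩ = m₁ := by
    have h1 := hdd ⟨θ, hθ⟩
    rw [hm₁] at h1
    exact_mod_cast h1.symm
  refine ⟨_, av ⟨θ, hθ⟩, hx, hav ⟨θ, hθ⟩, ?_⟩
  refine hmod.trans ?_
  rw [← Finset.add_sum_erase _ (fun φ => av φ * dd φ) hθmem, hddθ]
  exact Nat.ModEq.add_left _ ((Nat.modEq_zero_iff_dvd).2 (Finset.dvd_sum hdvd))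

end Congr

section Main

variable {Γ : Type u} [Group Γ] [Fintype Γ]

theorem inv_constituent_above_solv_aux (A : Subgroup (MulAut Γ)) (hsolv : Group.IsSolvable A) :
    ∀ (m : ℕ) (G N : Subgroup Γ) [Fintype G] [Fintype N] (hNG : N ≤ G),
      G ≤ Subgroup.normalizer (N : Set Γ) → ∀ (hAG : ∀ a ∈ A, ∀ g ∈ G, a g ∈ G),
      (∀ a ∈ A, ∀ n ∈ N, a n ∈ N) → (Nat.card A).Coprime (Nat.card G) →
      Nat.card (resAut G A hAG).range = m →
      ∀ θ : N → ℂ, Cfsg.IsIrrCharacter N θ → InvR A N θ →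
      ∃ χ : G → ℂ, Cfsg.IsIrrCharacter G χ ∧
        Cfsg.classInner (fun n : N => χ ⟨n, hNG n.2⟩) θ ≠ 0 ∧ InvR A G χ := by
  intro m
  induction m using Nat.strong_induction_on with
  | _ m ih =>
    intro G N _ _ hNG hnorm hAG hAN hcop hm θ hθ hθinv
    classical
    by_cases hbot : (resAut G A hAG).range = ⊥
    · obtain ⟨χ, hχ, hne⟩ := exists_irr_over_rel G N hNG hθ
      refine ⟨χ, hχ, hne, ?_⟩
      intro a ha g h
      have h1 : resAut G A hAG ⟨a, ha⟩ ∈ (resAut G A hAG).range := ⟨_, rfl⟩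
      rw [hbot, Subgroup.mem_bot] at h1
      have h2 : (⟨a g, h⟩ : G) = g := congrArg (fun f : MulAut G => f g) h1
      rw [h2]
    · obtain ⟨p, Q, hQG, hp, hpG, hQA, hQn, hQp, hne⟩ := exists_pstep A hsolv G hAG hcop hbot
      have hAF := fixSub_invariant A Q hQn
      have hAC : ∀ a ∈ A, ∀ c ∈ G ⊓ fixSub Q, a c ∈ G ⊓ fixSub Q :=
        fun a ha c hc => ⟨hAG a ha c hc.1, hAF a ha c hc.2⟩
      have hAD : ∀ a ∈ A, ∀ c ∈ N ⊓ fixSub Q, a c ∈ N ⊓ fixSub Q :=
        fun a ha c hc => ⟨hAN a ha c hc.1, hAF a ha c hc.2⟩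
      have hQN : ∀ q ∈ Q, ∀ n ∈ N, q n ∈ N := fun q hq => hAN q (hQA hq)
      haveI : Fintype (G ⊓ fixSub Q : Subgroup Γ) := Fintype.ofFinite _
      haveI : Fintype (N ⊓ fixSub Q : Subgroup Γ) := Fintype.ofFinite _
      have hpN : ¬ p ∣ Nat.card N := fun h => hpG (h.trans (Subgroup.card_dvd_of_le hNG))
      have hQpN := isPGroup_resAut_of_le Q hNG hQG hQN p hQp
      have glG := glaub_rel G Q hQG p hp hpG hQp
      have glN := glaub_rel N Q hQN p hp hpN hQpN
      have hDC : N ⊓ fixSub Q ≤ G ⊓ fixSub Q := inf_le_inf_right _ hNG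
      have hCnorm : G ⊓ fixSub Q ≤
          Subgroup.normalizer ((N ⊓ fixSub Q : Subgroup Γ) : Set Γ) := by
        apply le_normalizer_of_conj_mem
        intro c hc d hd
        exact ⟨((Subgroup.mem_normalizer_iff.1 (hnorm hc.1)) d).1 hd.1,
          (fixSub Q).mul_mem ((fixSub Q).mul_mem hc.2 hd.2) ((fixSub Q).inv_mem hc.2)⟩
      have hlt := card_range_lt A Q hQA G hAG hAC hne
      rw [hm] at hlt
      have hcop' : (Nat.card A).Coprime (Nat.card (G ⊓ fixSub Q : Subgroup Γ)) :=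
        Nat.Coprime.coprime_dvd_right (Subgroup.card_dvd_of_le inf_le_left) hcop
      -- the Glauberman correspondent of `θ`
      have hθQ : InvR Q N θ := fun q hq => hθinv q (hQA hq)
      obtain ⟨θs, ε, hθs, hε, hθs'⟩ := glN.1 θ hθ hθQ
      obtain ⟨m₁, hm₁, hm₁', -⟩ := hθs' θs hθs
      have hpm₁ : ¬ p ∣ m₁ := Helper75.not_dvd_of_modEq_sign hp hε (hm₁' rfl)
      have hθsinv : InvR A (N ⊓ fixSub Q) θs :=
        glaub_inv_down A Q N (N ⊓ fixSub Q) hQA inf_le_left hAD glN hθ hθinv hθs hm₁ hpm₁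
      -- induction
      obtain ⟨β, hβ, hβne, hβinv⟩ := ih _ hlt (G ⊓ fixSub Q) (N ⊓ fixSub Q) hDC hCnorm hAC hAD
        hcop' rfl θs hθs hθsinv
      -- the character of `G` corresponding to `β`
      obtain ⟨χ, hχ, hχQ, m₀, hm₀, hpm₀⟩ := glG.2.2 β hβ
      have hχinv : InvR A G χ :=
        glaub_inv_up A Q G (G ⊓ fixSub Q) hQA inf_le_left hAG hAC glG hQn hχ hχQ hβ hβinv hm₀ hpm₀
      refine ⟨χ, hχ, ?_, hχinv⟩
      obtain ⟨x, c, hx, hc, hxc⟩ := mult_congr_above G (G ⊓ fixSub Q) (N ⊓ fixSub Q) inf_le_left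
        hDC glG hχ hχQ hβ hm₀ hpm₀ (Helper80.isCharacter_of_isIrrCharacter hθs)
      have hχN : Cfsg.IsCharacter N (fun n : N => χ ⟨n, hNG n.2⟩) :=
        Helper80.isCharacter_comp (Subgroup.inclusion hNG)
          (Helper80.isCharacter_of_isIrrCharacter hχ)
      have hχNinv : InvR Q N (fun n : N => χ ⟨n, hNG n.2⟩) :=
        fun q hq n h => hχQ q hq ⟨n, hNG n.2⟩ _
      obtain ⟨x', a, hx', ha, hxa⟩ := mult_congr_below N Q hQN p hp hQpN glN hχN hχNinv hθ hθQ
        hθs hm₁ hpm₁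
      have hxx : x = x' := by
        have h1 : (x : ℂ) = (x' : ℂ) := by
          rw [← hx, ← hx']
          rfl
        exact_mod_cast h1
      have hc0 : c ≠ 0 := by
        intro h0
        apply hβne
        rw [hc, h0, Nat.cast_zero]
      haveI : ((N ⊓ fixSub Q).subgroupOf (G ⊓ fixSub Q)).Normal :=
        (Subgroup.normal_subgroupOf_iff_le_normalizer hDC).2 hCnorm
      have hcdvd := mult_dvd_degree_rel (G ⊓ fixSub Q) (N ⊓ fixSub Q) hDC hβ hθs hc hc0
      have hpc : ¬ p ∣ c := fun h =>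
        hpG (((h.trans hcdvd).trans (Helper80.charDegree_dvd_card hβ)).trans
          (Subgroup.card_dvd_of_le inf_le_left))
      rw [ha]
      intro h0
      have ha0 : a = 0 := by exact_mod_cast h0
      rw [ha0, zero_mul, ← hxx] at hxa
      have h2 : m₀ * c ≡ 0 [MOD p] := hxc.symm.trans hxa
      have h3 : p ∣ m₀ * c := (Nat.modEq_zero_iff_dvd).1 h2
      rcases (Nat.Prime.dvd_mul hp).1 h3 with h | h
      · exact hpm₀ h
      · exact hpc h

/-- **Isaacs 13.31**: for a solvable group of operators of coprime order, an invariant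
irreducible character of an invariant normal subgroup lies under an invariant irreducible
character -/
theorem inv_constituent_above_solv (A : Subgroup (MulAut Γ)) (hsolv : Group.IsSolvable A)
    (G N : Subgroup Γ) [Fintype G] [Fintype N] (hNG : N ≤ G)
    (hnorm : G ≤ Subgroup.normalizer (N : Set Γ)) (hAG : ∀ a ∈ A, ∀ g ∈ G, a g ∈ G)
    (hAN : ∀ a ∈ A, ∀ n ∈ N, a n ∈ N) (hcop : (Nat.card A).Coprime (Nat.card G))
    {θ : N → ℂ} (hθ : Cfsg.IsIrrCharacter N θ) (hθinv : InvR A N θ) :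
    ∃ χ : G → ℂ, Cfsg.IsIrrCharacter G χ ∧
      Cfsg.classInner (fun n : N => χ ⟨n, hNG n.2⟩) θ ≠ 0 ∧ InvR A G χ :=
  inv_constituent_above_solv_aux A hsolv _ G N hNG hnorm hAG hAN hcop rfl θ hθ hθinv

end Main

end Cfsg.Agent.Lib.Helper81
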