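import Mathlib
import Cfsg.Prelude.Def_Blocks
import Cfsg.Agent.Lib.Helper80.CharOps
import Cfsg.Agent.Lib.Helper75.Clifford
import Cfsg.Agent.Lib.Helper74.FrobSchur
import Cfsg.Agent.Lib.Helper74.BrauerPerm
import Cfsg.Agent.Lib.Helper74.CharSums
import Cfsg.Agent.S4866

set_option autoImplicit false

/-!
Real characters and normal subgroups of odd index (used for S4873).
-/

namespace Cfsg.Agent.Lib.Helper81

open scoped ComplexConjugate

section Elem

variable {G : Type*} [Group G] (N : Subgroup G) [hN : N.Normal]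

theorem mem_of_sq_mem (hodd : Odd N.index) {u : G} (hu : u * u ∈ N) : u ∈ N := by
  obtain ⟨r, hr⟩ := hodd
  have h1 : u ^ N.index ∈ N := N.pow_index_mem u
  have h2 : (u * u) ^ r ∈ N := N.pow_mem hu r
  have h3 : u = u ^ N.index * ((u * u) ^ r)⁻¹ := by
    rw [hr, ← pow_two, ← pow_mul, pow_succ]
    group
  rw [h3]
  exact N.mul_mem h1 (N.inv_mem h2)

/-- If `y` inverts `g`, so does an element of `N` (odd index). -/
theorem exists_mem_inverting (hodd : Odd N.index) {g y : G} (h : y * g * y⁻¹ = g⁻¹) :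
    ∃ n ∈ N, n * g * n⁻¹ = g⁻¹ := by
  obtain ⟨r, hr⟩ := hodd
  have hmem : y ^ N.index ∈ N := N.pow_index_mem y
  have hc2 : Commute (y ^ 2) g := by
    have : y ^ 2 * g * (y ^ 2)⁻¹ = g := by
      calc y ^ 2 * g * (y ^ 2)⁻¹ = y * (y * g * y⁻¹) * y⁻¹ := by
            simp only [pow_two, mul_inv_rev, mul_assoc]
        _ = y * g⁻¹ * y⁻¹ := by rw [h]
        _ = (y * g * y⁻¹)⁻¹ := by group
        _ = g := by rw [h, inv_inv]
    exact mul_inv_eq_iff_eq_mul.1 this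
  have hc : Commute ((y ^ 2) ^ r) g := hc2.pow_left r
  have hpow : y ^ N.index = y * (y ^ 2) ^ r := by
    rw [hr, pow_succ', pow_mul]
  refine ⟨y ^ N.index, hmem, ?_⟩
  rw [hpow]
  calc y * (y ^ 2) ^ r * g * (y * (y ^ 2) ^ r)⁻¹
      = y * ((y ^ 2) ^ r * g) * ((y ^ 2) ^ r)⁻¹ * y⁻¹ := by group
    _ = y * (g * (y ^ 2) ^ r) * ((y ^ 2) ^ r)⁻¹ * y⁻¹ := by rw [hc.eq]
    _ = y * g * y⁻¹ := by group
    _ = g⁻¹ := h

/-- An element inverted by conjugation lies in `N` (odd index). -/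
theorem mem_of_real (hodd : Odd N.index) {g y : G} (h : y * g * y⁻¹ = g⁻¹) : g ∈ N := by
  obtain ⟨n, hn, hng⟩ := exists_mem_inverting N hodd h
  apply mem_of_sq_mem N hodd
  have h1 : g * g = n * (g⁻¹ * n⁻¹ * g) := by
    have h2 : n * g⁻¹ * n⁻¹ = g := by
      have : n * g⁻¹ * n⁻¹ = (n * g * n⁻¹)⁻¹ := by group
      rw [this, hng, inv_inv]
    calc g * g = (n * g⁻¹ * n⁻¹) * g := by rw [h2]
      _ = n * (g⁻¹ * n⁻¹ * g) := by group
  rw [h1]
  apply N.mul_mem hn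
  have := hN.conj_mem n⁻¹ (N.inv_mem hn) g⁻¹
  rwa [inv_inv] at this

end Elem

section FS

theorem sum_mul_inner_swap {ι M : Type*} [Fintype ι] [Fintype M] (a : ι → ℂ) (F : ι → M → ℂ)
    (w : M → ℂ) (c : ℂ) :
    ∑ i, a i * (c * ∑ n, F i n * w n) = c * ∑ n, (∑ i, a i * F i n) * w n := by
  simp only [Finset.mul_sum, Finset.sum_mul]
  rw [Finset.sum_comm]
  refine Finset.sum_congr rfl (fun n _ => Finset.sum_congr rfl (fun i _ => ?_))
  ring

variable {G : Type*} [Group G] [Fintype G]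

theorem fs_cases (χ : Cfsg.IrrCharacter G) :
    ((Nat.card G : ℂ)⁻¹ * ∑ s : G, (χ : G → ℂ) (s * s) = 0 ∨
      (Nat.card G : ℂ)⁻¹ * ∑ s : G, (χ : G → ℂ) (s * s) = 1 ∨
      (Nat.card G : ℂ)⁻¹ * ∑ s : G, (χ : G → ℂ) (s * s) = -1) ∧
    ((Nat.card G : ℂ)⁻¹ * ∑ s : G, (χ : G → ℂ) (s * s) = 0 ↔
      ∃ s : G, ((χ : G → ℂ) s).im ≠ 0) := by
  obtain ⟨n, ρ, hirr, hρ⟩ := χ.2
  have := Cfsg.Agent.Lib.Helper74.fs_indicator ρ
  rw [hρ] at this
  exact this

variable (N : Subgroup G) [hN : N.Normal] [Fintype N] [Fintype (Cfsg.IrrCharacter G)]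
  [Fintype (Cfsg.IrrCharacter N)]

/-- Frobenius–Schur indicators and restriction to a normal subgroup of odd index. -/
theorem sum_fs_mul_restrict (hodd : Odd N.index) (φ : Cfsg.IrrCharacter N) :
    ∑ χ : Cfsg.IrrCharacter G, ((Nat.card G : ℂ)⁻¹ * ∑ s : G, (χ : G → ℂ) (s * s)) *
        Cfsg.classInner (fun n : N => (χ : G → ℂ) n) (φ : N → ℂ) =
      (Nat.card N : ℂ)⁻¹ * ∑ s : N, (φ : N → ℂ) (s * s) := by
  classical
  have hkey : ∀ n : N, ∑ χ : Cfsg.IrrCharacter G,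
      ((Nat.card G : ℂ)⁻¹ * ∑ s : G, (χ : G → ℂ) (s * s)) * (χ : G → ℂ) n =
      ∑ θ : Cfsg.IrrCharacter N,
        ((Nat.card N : ℂ)⁻¹ * ∑ s : N, (θ : N → ℂ) (s * s)) * (θ : N → ℂ) n := by
    intro n
    rw [← Cfsg.Agent.Lib.Helper74.sqrtCount_eq, ← Cfsg.Agent.Lib.Helper74.sqrtCount_eq]
    have h1 : ∑ u : G, (if u * u = (n : G) then (1 : ℂ) else 0) =
        ∑ u ∈ Finset.univ.filter (· ∈ N), (if u * u = (n : G) then (1 : ℂ) else 0) := by
      symm
      apply Finset.sum_subset (Finset.subset_univ _)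
      intro u _ hu
      rw [if_neg]
      intro h
      apply hu
      rw [Finset.mem_filter]
      refine ⟨Finset.mem_univ _, mem_of_sq_mem N hodd ?_⟩
      rw [h]
      exact n.2
    rw [h1, Finset.sum_subtype (p := fun x => x ∈ N) (F := ‹Fintype ↥N›)
      (Finset.univ.filter (· ∈ N)) (by simp) (fun u => if u * u = (n : G) then (1 : ℂ) else 0)]
    refine Finset.sum_congr rfl (fun m _ => ?_)
    have : (m : G) * (m : G) = (n : G) ↔ m * m = n := by
      rw [← Subgroup.coe_mul, Subtype.ext_iff]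
    rw [if_congr this rfl rfl]
  have hL : ∑ χ : Cfsg.IrrCharacter G, ((Nat.card G : ℂ)⁻¹ * ∑ s : G, (χ : G → ℂ) (s * s)) *
        Cfsg.classInner (fun n : N => (χ : G → ℂ) n) (φ : N → ℂ) =
      (Nat.card N : ℂ)⁻¹ * ∑ n : N, (∑ χ : Cfsg.IrrCharacter G,
        ((Nat.card G : ℂ)⁻¹ * ∑ s : G, (χ : G → ℂ) (s * s)) * (χ : G → ℂ) n) *
          conj ((φ : N → ℂ) n) :=
    sum_mul_inner_swap
      (fun χ : Cfsg.IrrCharacter G => (Nat.card G : ℂ)⁻¹ * ∑ s : G, (χ : G → ℂ) (s * s))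
      (fun χ (n : N) => (χ : G → ℂ) n) (fun n => conj ((φ : N → ℂ) n)) _
  have hR : ∑ θ : Cfsg.IrrCharacter N, ((Nat.card N : ℂ)⁻¹ * ∑ s : N, (θ : N → ℂ) (s * s)) *
        Cfsg.classInner (θ : N → ℂ) (φ : N → ℂ) =
      (Nat.card N : ℂ)⁻¹ * ∑ n : N, (∑ θ : Cfsg.IrrCharacter N,
        ((Nat.card N : ℂ)⁻¹ * ∑ s : N, (θ : N → ℂ) (s * s)) * (θ : N → ℂ) n) *
          conj ((φ : N → ℂ) n) :=
    sum_mul_inner_swap
      (fun θ : Cfsg.IrrCharacter N => (Nat.card N : ℂ)⁻¹ * ∑ s : N, (θ : N → ℂ) (s * s))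
      (fun θ (n : N) => (θ : N → ℂ) n) (fun n => conj ((φ : N → ℂ) n)) _
  have hM : ∀ n : N, (∑ χ : Cfsg.IrrCharacter G,
        ((Nat.card G : ℂ)⁻¹ * ∑ s : G, (χ : G → ℂ) (s * s)) * (χ : G → ℂ) n) *
          conj ((φ : N → ℂ) n) =
      (∑ θ : Cfsg.IrrCharacter N,
        ((Nat.card N : ℂ)⁻¹ * ∑ s : N, (θ : N → ℂ) (s * s)) * (θ : N → ℂ) n) *
          conj ((φ : N → ℂ) n) := fun n => by rw [hkey n]
  rw [hL, Finset.sum_congr rfl (fun n _ => hM n), ← hR, Finset.sum_eq_single φ]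
  · rw [Cfsg.Agent.Lib.Helper80.classInner_self φ.2, mul_one]
  · intro θ _ hθ
    rw [Cfsg.Agent.Lib.Helper80.classInner_irr θ φ, if_neg hθ, mul_zero]
  · intro h
    exact absurd (Finset.mem_univ _) h

/-- Every real irreducible character of `N` lies under a real irreducible character of `G`
(odd index). -/
theorem exists_real_over (hodd : Odd N.index) (φ : Cfsg.IrrCharacter N)
    (hφ : ∀ k : N, ((φ : N → ℂ) k).im = 0) :
    ∃ χ : Cfsg.IrrCharacter G, (∀ g : G, ((χ : G → ℂ) g).im = 0) ∧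
      Cfsg.classInner (fun n : N => (χ : G → ℂ) n) (φ : N → ℂ) ≠ 0 := by
  by_contra hcon
  push Not at hcon
  have h1 := sum_fs_mul_restrict N hodd φ
  have h2 : ∑ χ : Cfsg.IrrCharacter G, ((Nat.card G : ℂ)⁻¹ * ∑ s : G, (χ : G → ℂ) (s * s)) *
        Cfsg.classInner (fun n : N => (χ : G → ℂ) n) (φ : N → ℂ) = 0 := by
    refine Finset.sum_eq_zero (fun χ _ => ?_)
    by_cases hχ : ∀ g : G, ((χ : G → ℂ) g).im = 0
    · rw [hcon χ hχ, mul_zero]
    · push Not at hχ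
      rw [((fs_cases χ).2).2 hχ, zero_mul]
  rw [h2] at h1
  have h3 := ((fs_cases φ).2).1 h1.symm
  obtain ⟨s, hs⟩ := h3
  exact hs (hφ s)

end FS

section Count

variable {G : Type*} [Group G] [Finite G] (N : Subgroup G) [hN : N.Normal]

/-- The number of real irreducible characters of `G` is the number of `G`-orbits of real
irreducible characters of a normal subgroup of odd index. -/
theorem card_real_irr_eq (hodd : Odd N.index) :
    Nat.card {χ : Cfsg.IrrCharacter G // ∀ g : G, ((χ : G → ℂ) g).im = 0} =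
    Nat.card (Quot (fun θ η : {θ : Cfsg.IrrCharacter ↥N // (∀ k : ↥N, ((θ : ↥N → ℂ) k).im = 0)} =>
      ∃ g : G, ∀ k k' : ↥N, (k' : G) = g * (k : G) * g⁻¹ →
        (η.1 : ↥N → ℂ) k' = (θ.1 : ↥N → ℂ) k)) := by
  classical
  rw [Cfsg.Agent.S4866.result N hodd]
  have := Fintype.ofFinite G
  let σ : Cfsg.IrrCharacter G → Cfsg.IrrCharacter G := fun χ =>
    ⟨fun g => conj ((χ : G → ℂ) g), Cfsg.Agent.Lib.Helper80.isIrrCharacter_conj χ.2⟩
  have hb := Cfsg.Agent.Lib.Helper74.brauer_perm_count σ (fun g => g⁻¹)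
    (fun χ g => (Cfsg.Agent.Lib.Helper3.isCharacter_inv
      (Cfsg.Agent.Lib.Helper80.isCharacter_of_isIrrCharacter χ.2) g).symm)
    (fun C => ∃ g : G, ConjClasses.mk g = C ∧ IsConj g⁻¹ g)
    (by
      intro g
      constructor
      · rintro ⟨g', hg', hc⟩
        rw [ConjClasses.mk_eq_mk_iff_isConj] at hg'
        have h1 : IsConj g⁻¹ g'⁻¹ := by
          obtain ⟨c, hc'⟩ := isConj_iff.1 hg'
          rw [isConj_iff]
          refine ⟨c⁻¹, ?_⟩
          rw [← hc']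
          group
        exact (h1.trans hc).trans hg'
      · intro h
        exact ⟨g, rfl, h⟩)
  have e1 : Nat.card {χ : Cfsg.IrrCharacter G // ∀ g : G, ((χ : G → ℂ) g).im = 0} =
      Nat.card {χ : Cfsg.IrrCharacter G // σ χ = χ} := by
    apply Nat.card_congr
    apply Equiv.subtypeEquivRight
    intro χ
    constructor
    · intro h
      apply Subtype.ext
      funext g
      exact Complex.conj_eq_iff_im.2 (h g)
    · intro h g
      have := congrFun (congrArg Subtype.val h) g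
      exact Complex.conj_eq_iff_im.1 this
  rw [e1, hb]
  symm
  have hx : ∀ x : {x : ↥N // IsConj x x⁻¹}, IsConj ((x.1 : G))⁻¹ (x.1 : G) := by
    intro x
    obtain ⟨c, hc⟩ := isConj_iff.1 x.2
    apply IsConj.symm
    rw [isConj_iff]
    refine ⟨(c : G), ?_⟩
    have := congrArg Subtype.val hc
    simpa using this
  let f : Quot (fun x y : {x : ↥N // IsConj x x⁻¹} => ∃ g : G, (y.1 : G) = g * x.1 * g⁻¹) →
      {C : ConjClasses G // ∃ g : G, ConjClasses.mk g = C ∧ IsConj g⁻¹ g} :=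
    Quot.lift (fun x => ⟨ConjClasses.mk ((x.1 : N) : G), ⟨(x.1 : G), rfl, hx x⟩⟩)
      (by
        rintro x y ⟨g, hg⟩
        apply Subtype.ext
        exact ConjClasses.mk_eq_mk_iff_isConj.2 (isConj_iff.2 ⟨g, hg.symm⟩))
  apply Nat.card_eq_of_bijective f
  constructor
  · intro a b
    induction a using Quot.ind with | _ x => ?_
    induction b using Quot.ind with | _ y => ?_
    intro h
    apply Quot.sound
    have h1 : ConjClasses.mk ((x.1 : N) : G) = ConjClasses.mk ((y.1 : N) : G) :=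
      congrArg Subtype.val h
    rw [ConjClasses.mk_eq_mk_iff_isConj] at h1
    obtain ⟨g, hg⟩ := isConj_iff.1 h1
    exact ⟨g, hg.symm⟩
  · rintro ⟨C, g, rfl, hg⟩
    obtain ⟨y, hy⟩ := isConj_iff.1 hg
    have hy' : y * g * y⁻¹ = g⁻¹ := by
      have : y * g * y⁻¹ = (y * g⁻¹ * y⁻¹)⁻¹ := by group
      rw [this, hy]
    have hgN : g ∈ N := mem_of_real N hodd hy'
    obtain ⟨n, hn, hng⟩ := exists_mem_inverting N hodd hy'
    have hreal : IsConj (⟨g, hgN⟩ : N) (⟨g, hgN⟩ : N)⁻¹ := by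
      rw [isConj_iff]
      refine ⟨⟨n, hn⟩, ?_⟩
      apply Subtype.ext
      simpa using hng
    exact ⟨Quot.mk _ ⟨⟨g, hgN⟩, hreal⟩, rfl⟩

variable [Fintype G] [Fintype N]

/-- For `N` of odd index, a real irreducible character of `N` lies under exactly one real
irreducible character of `G`. -/
theorem real_over_unique (hodd : Odd N.index) (φ : Cfsg.IrrCharacter N)
    (hφ : ∀ k : N, ((φ : N → ℂ) k).im = 0) (χ χ' : Cfsg.IrrCharacter G)
    (hχ : ∀ g : G, ((χ : G → ℂ) g).im = 0) (hχ' : ∀ g : G, ((χ' : G → ℂ) g).im = 0)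
    (h : Cfsg.classInner (fun n : N => (χ : G → ℂ) n) (φ : N → ℂ) ≠ 0)
    (h' : Cfsg.classInner (fun n : N => (χ' : G → ℂ) n) (φ : N → ℂ) ≠ 0) : χ = χ' := by
  classical
  have : Fintype (Cfsg.IrrCharacter G) := Fintype.ofFinite _
  have : Fintype (Cfsg.IrrCharacter N) := Fintype.ofFinite _
  have hE : ∀ θ : {θ : Cfsg.IrrCharacter ↥N // (∀ k : ↥N, ((θ : ↥N → ℂ) k).im = 0)},
      ∃ χ : Cfsg.IrrCharacter G, (∀ g : G, ((χ : G → ℂ) g).im = 0) ∧
        Cfsg.classInner (fun n : N => (χ : G → ℂ) n) (θ.1 : N → ℂ) ≠ 0 :=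
    fun θ => exists_real_over N hodd θ.1 θ.2
  choose F hF1 hF2 using hE
  -- two constituents of the same irreducible character are related
  have hrel : ∀ (χ₁ : Cfsg.IrrCharacter G)
      (θ η : {θ : Cfsg.IrrCharacter ↥N // (∀ k : ↥N, ((θ : ↥N → ℂ) k).im = 0)}),
      Cfsg.classInner (fun n : N => (χ₁ : G → ℂ) n) (θ.1 : N → ℂ) ≠ 0 →
      Cfsg.classInner (fun n : N => (χ₁ : G → ℂ) n) (η.1 : N → ℂ) ≠ 0 →
      ∃ g : G, ∀ k k' : ↥N, (k' : G) = g * (k : G) * g⁻¹ →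
        (η.1 : ↥N → ℂ) k' = (θ.1 : ↥N → ℂ) k := by
    intro χ₁ θ η h1 h2
    obtain ⟨g, hg⟩ := Cfsg.Agent.Lib.Helper75.clifford_conj N χ₁.2 θ.1.2 η.1.2 h1 h2
    refine ⟨g, fun k k' hk => ?_⟩
    rw [← hg]
    unfold Cfsg.Agent.Lib.Helper75.conjChar
    refine congrArg _ ?_
    apply Subtype.ext
    rw [MulAut.conjNormal_inv_apply, hk]
    group
  let Ψ : Quot (fun θ η : {θ : Cfsg.IrrCharacter ↥N // (∀ k : ↥N, ((θ : ↥N → ℂ) k).im = 0)} =>
      ∃ g : G, ∀ k k' : ↥N, (k' : G) = g * (k : G) * g⁻¹ →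
        (η.1 : ↥N → ℂ) k' = (θ.1 : ↥N → ℂ) k) →
      {χ : Cfsg.IrrCharacter G // ∀ g : G, ((χ : G → ℂ) g).im = 0} :=
    fun y => ⟨F (Quot.out y), hF1 _⟩
  have hΨinj : Function.Injective Ψ := by
    intro y y' hyy
    have h1 : F (Quot.out y) = F (Quot.out y') := congrArg Subtype.val hyy
    have h2 := hF2 (Quot.out y)
    have h3 := hF2 (Quot.out y')
    rw [← h1] at h3
    rw [← Quot.out_eq y, ← Quot.out_eq y']
    exact Quot.sound (hrel _ _ _ h2 h3)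
  have hΨbij : Function.Bijective Ψ :=
    hΨinj.bijective_of_nat_card_le (le_of_eq (card_real_irr_eq N hodd))
  obtain ⟨y, hy⟩ := hΨbij.2 ⟨χ, hχ⟩
  obtain ⟨y', hy'⟩ := hΨbij.2 ⟨χ', hχ'⟩
  have e1 : F (Quot.out y) = χ := congrArg Subtype.val hy
  have e2 : F (Quot.out y') = χ' := congrArg Subtype.val hy'
  have hy1 : y = Quot.mk _ ⟨φ, hφ⟩ := by
    rw [← Quot.out_eq y]
    apply Quot.sound
    have h2 := hF2 (Quot.out y)
    rw [e1] at h2
    exact hrel χ _ ⟨φ, hφ⟩ h2 h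
  have hy2 : y' = Quot.mk _ ⟨φ, hφ⟩ := by
    rw [← Quot.out_eq y']
    apply Quot.sound
    have h2 := hF2 (Quot.out y')
    rw [e2] at h2
    exact hrel χ' _ ⟨φ, hφ⟩ h2 h'
  rw [← e1, ← e2, hy1, hy2]

end Count

end Cfsg.Agent.Lib.Helper81
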