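import Mathlib
import Cfsg.Prelude.Def_Blocks
import Cfsg.Agent.Lib.Helper81.MinNormal
import Cfsg.Agent.Lib.Helper81.FrobSchur

set_option autoImplicit false

/-!
The Frobenius–Schur sum of a character induced from the stabilizer of a real character of a
normal subgroup (used for S4912).
-/

namespace Cfsg.Agent.Lib.Helper81

open scoped ComplexConjugate
open Representation Matrix

section TwoRep

variable {N : Type*} [Group N] [Fintype N]

/-- The matrix `∑ g, A₁ g * B * (A₂ g)ᵀ`. -/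
noncomputable def fsMat2 {k l : ℕ} (σ₁ : Representation ℂ N (Fin k → ℂ))
    (σ₂ : Representation ℂ N (Fin l → ℂ)) (B : Matrix (Fin k) (Fin l) ℂ) :
    Matrix (Fin k) (Fin l) ℂ :=
  ∑ g : N, LinearMap.toMatrix' (σ₁ g) * B * (LinearMap.toMatrix' (σ₂ g))ᵀ

theorem fsMat2_comm {k l : ℕ} (σ₁ : Representation ℂ N (Fin k → ℂ))
    (σ₂ : Representation ℂ N (Fin l → ℂ)) (B : Matrix (Fin k) (Fin l) ℂ) (h : N) :
    fsMat2 σ₁ σ₂ B * (LinearMap.toMatrix' (σ₂ h⁻¹))ᵀ =
      LinearMap.toMatrix' (σ₁ h) * fsMat2 σ₁ σ₂ B := by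
  unfold fsMat2
  rw [Matrix.sum_mul, Matrix.mul_sum]
  rw [← Fintype.sum_equiv (Equiv.mulLeft h)
    (fun g => LinearMap.toMatrix' (σ₁ h) *
      (LinearMap.toMatrix' (σ₁ g) * B * (LinearMap.toMatrix' (σ₂ g))ᵀ))
    (fun g => LinearMap.toMatrix' (σ₁ g) * B * (LinearMap.toMatrix' (σ₂ g))ᵀ *
      (LinearMap.toMatrix' (σ₂ h⁻¹))ᵀ)]
  intro g
  simp only [Equiv.coe_mulLeft]
  have e1 : (LinearMap.toMatrix' (σ₂ (h * g)))ᵀ * (LinearMap.toMatrix' (σ₂ h⁻¹))ᵀ =
      (LinearMap.toMatrix' (σ₂ g))ᵀ := by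
    rw [← Matrix.transpose_mul, ← LinearMap.toMatrix'_mul, ← map_mul, inv_mul_cancel_left]
  have e2 : LinearMap.toMatrix' (σ₁ (h * g)) =
      LinearMap.toMatrix' (σ₁ h) * LinearMap.toMatrix' (σ₁ g) := by
    rw [map_mul, LinearMap.toMatrix'_mul]
  rw [Matrix.mul_assoc (LinearMap.toMatrix' (σ₁ (h * g)) * B), e1, e2]
  simp only [Matrix.mul_assoc]

/-- `fsMat2` as an intertwining map from the contragredient of `σ₂` to `σ₁`. -/
noncomputable def fsInter2 {k l : ℕ} (σ₁ : Representation ℂ N (Fin k → ℂ))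
    (σ₂ : Representation ℂ N (Fin l → ℂ)) (B : Matrix (Fin k) (Fin l) ℂ) :
    IntertwiningMap (contraRep σ₂) σ₁ where
  toLinearMap := Matrix.toLin' (fsMat2 σ₁ σ₂ B)
  isIntertwining' h := by
    have h1 : σ₁ h = Matrix.toLin' (LinearMap.toMatrix' (σ₁ h)) := by
      rw [Matrix.toLin'_toMatrix']
    rw [h1]
    change Matrix.toLin' (fsMat2 σ₁ σ₂ B) ∘ₗ Matrix.toLin' (LinearMap.toMatrix' (σ₂ h⁻¹))ᵀ = _
    rw [← Matrix.toLin'_mul, ← Matrix.toLin'_mul, fsMat2_comm]

theorem fsMat2_eq_zero {k l : ℕ} (σ₁ : Representation ℂ N (Fin k → ℂ))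
    (σ₂ : Representation ℂ N (Fin l → ℂ))
    (h0 : ∑ g : N, σ₁.character g * σ₂.character g = 0) (B : Matrix (Fin k) (Fin l) ℂ) :
    fsMat2 σ₁ σ₂ B = 0 := by
  have h1 : pair σ₁.character (contraRep σ₂).character = 0 := by
    unfold pair
    simp only [contraRep_character, inv_inv]
    rw [h0, mul_zero]
  rw [pair_rep (contraRep σ₂) σ₁] at h1
  have h2 : Module.finrank ℂ (IntertwiningMap (contraRep σ₂) σ₁) = 0 := by exact_mod_cast h1
  have h3 : fsInter2 σ₁ σ₂ B = 0 := by
    by_contra hne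
    have := (Module.finrank_pos_iff_exists_ne_zero (R := ℂ)).2 ⟨fsInter2 σ₁ σ₂ B, hne⟩
    omega
  have h4 := congrArg IntertwiningMap.toLinearMap h3
  change Matrix.toLin' (fsMat2 σ₁ σ₂ B) = 0 at h4
  exact Matrix.toLin'.injective (by rw [h4, map_zero])

theorem mul_single_mul_transpose_apply {k l : ℕ} (A : Matrix (Fin k) (Fin k) ℂ)
    (B : Matrix (Fin l) (Fin l) ℂ) (m : Fin k) (i : Fin l) (j : Fin k) (m' : Fin l) :
    (A * Matrix.single m i (1 : ℂ) * Bᵀ) j m' = A j m * B m' i := by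
  rw [Matrix.mul_apply, Finset.sum_eq_single i]
  · rw [Matrix.mul_apply, Finset.sum_eq_single m]
    · simp
    · intro b _ hb
      rw [Matrix.single_apply, if_neg, mul_zero]
      rintro ⟨h1, _⟩
      exact hb h1.symm
    · intro h
      exact absurd (Finset.mem_univ _) h
  · intro b _ hb
    have : (A * Matrix.single m i (1 : ℂ)) j b = 0 := by
      rw [Matrix.mul_apply]
      refine Finset.sum_eq_zero (fun r _ => ?_)
      rw [Matrix.single_apply, if_neg, mul_zero]
      rintro ⟨_, h2⟩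
      exact hb h2.symm
    rw [this, zero_mul]
  · intro h
    exact absurd (Finset.mem_univ _) h

/-- If the characters of `σ₁` and `σ₂` are orthogonal for the bilinear form `∑ α(g) β(g)`, then
`∑ g, σ₁ g * σ₂ g = 0`. -/
theorem sum_rep_mul_eq_zero {k : ℕ} (σ₁ σ₂ : Representation ℂ N (Fin k → ℂ))
    (h0 : ∑ g : N, σ₁.character g * σ₂.character g = 0) :
    ∑ g : N, σ₁ g * σ₂ g = 0 := by
  apply LinearMap.toMatrix'.injective
  rw [map_sum, map_zero]
  ext j l
  rw [Matrix.sum_apply, Matrix.zero_apply]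
  have h1 : ∀ g : N, LinearMap.toMatrix' (σ₁ g * σ₂ g) j l =
      ∑ m, (LinearMap.toMatrix' (σ₁ g) * Matrix.single m l (1 : ℂ) *
        (LinearMap.toMatrix' (σ₂ g))ᵀ : Matrix (Fin k) (Fin k) ℂ) j m := by
    intro g
    rw [Module.End.mul_eq_comp, LinearMap.toMatrix'_comp, Matrix.mul_apply]
    refine Finset.sum_congr rfl (fun m _ => ?_)
    rw [mul_single_mul_transpose_apply]
  simp only [h1]
  rw [Finset.sum_comm]
  refine Finset.sum_eq_zero (fun m _ => ?_)
  have := congrFun (congrFun (fsMat2_eq_zero σ₁ σ₂ h0 (Matrix.single m l 1)) j) m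
  simp only [fsMat2, Matrix.sum_apply, Matrix.zero_apply] at this
  exact this

end TwoRep

section IndFS

variable {G : Type*} [Group G] [Fintype G]

theorem sum_indFun_sq (I : Subgroup G) (θ : I → ℂ) :
    ∑ g : G, Cfsg.indFun I θ (g * g) =
      (Nat.card I : ℂ)⁻¹ * ((Fintype.card G : ℂ) * ∑ g : G, Cfsg.extendByZero I θ (g * g)) := by
  unfold Cfsg.indFun
  rw [← Finset.mul_sum, Finset.sum_comm]
  congr 1
  have h : ∀ x : G, ∑ g : G, Cfsg.extendByZero I θ (x⁻¹ * (g * g) * x) =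
      ∑ g : G, Cfsg.extendByZero I θ (g * g) := by
    intro x
    refine Fintype.sum_equiv (MulAut.conj x⁻¹).toEquiv _ _ (fun g => ?_)
    congr 1
    simp only [MulEquiv.toEquiv_eq_coe, MulEquiv.coe_toEquiv, MulAut.conj_apply]
    group
  rw [Finset.sum_congr rfl (fun x _ => h x), Finset.sum_const, Finset.card_univ, nsmul_eq_mul]

theorem sum_eq_zero_of_coset_sums (N : Subgroup G) [Fintype N] (Z : G → ℂ)
    (h : ∀ g : G, ∑ n : N, Z (g * n) = 0) : ∑ g : G, Z g = 0 := by
  have h1 : ∀ n : N, ∑ g : G, Z (g * n) = ∑ g : G, Z g := fun n =>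
    Fintype.sum_equiv (Equiv.mulRight (n : G)) _ _ (fun g => rfl)
  have h2 : ∑ n : N, ∑ g : G, Z (g * n) = (Fintype.card N : ℂ) * ∑ g : G, Z g := by
    rw [Finset.sum_congr rfl (fun n _ => h1 n), Finset.sum_const, Finset.card_univ, nsmul_eq_mul]
  rw [Finset.sum_comm, Finset.sum_congr rfl (fun g _ => h g), Finset.sum_const_zero] at h2
  have hN0 : (Fintype.card N : ℂ) ≠ 0 := by exact_mod_cast Fintype.card_ne_zero
  exact (mul_eq_zero.1 h2.symm).resolve_left hN0

variable (N : Subgroup G) [hN : N.Normal] [Fintype N]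

/-- For `ψ ∈ Irr(I)` with nonzero Frobenius–Schur sum extending `φ ∈ Irr(N)`, `I` the stabilizer
of `φ`: the squares of the elements outside `I` contribute nothing. -/
theorem sum_extendByZero_sq (φ : Cfsg.IrrCharacter N) (I : Subgroup G) [Fintype I]
    (hI : ∀ g : G, g ∈ I ↔ ∀ n n' : N, (n' : G) = g * (n : G) * g⁻¹ →
      (φ : N → ℂ) n' = (φ : N → ℂ) n)
    (hNI : N ≤ I) (ψ : Cfsg.IrrCharacter I)
    (hext : ∀ n : N, (ψ : I → ℂ) (Subgroup.inclusion hNI n) = (φ : N → ℂ) n)
    (hfs : ∑ g : I, (ψ : I → ℂ) (g * g) ≠ 0) :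
    ∑ g : G, Cfsg.extendByZero I (ψ : I → ℂ) (g * g) = ∑ h : I, (ψ : I → ℂ) (h * h) := by
  classical
  have hsplit : ∀ g : G, Cfsg.extendByZero I (ψ : I → ℂ) (g * g) =
      (if g ∈ I then Cfsg.extendByZero I (ψ : I → ℂ) (g * g) else 0) +
      (if g ∈ I then 0 else Cfsg.extendByZero I (ψ : I → ℂ) (g * g)) := by
    intro g
    split_ifs <;> simp
  rw [Finset.sum_congr rfl (fun g _ => hsplit g), Finset.sum_add_distrib]
  have hA : ∑ g : G, (if g ∈ I then Cfsg.extendByZero I (ψ : I → ℂ) (g * g) else 0) =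
      ∑ h : I, (ψ : I → ℂ) (h * h) := by
    rw [← Finset.sum_filter, Finset.sum_subtype (p := fun x => x ∈ I) (F := ‹Fintype ↥I›)
      (Finset.univ.filter (· ∈ I)) (by simp) (fun g => Cfsg.extendByZero I (ψ : I → ℂ) (g * g))]
    refine Finset.sum_congr rfl (fun h _ => ?_)
    exact Cfsg.Agent.Lib.Helper80.extendByZero_apply_mem I (ψ : I → ℂ) (h * h)
  have hB : ∑ g : G, (if g ∈ I then 0 else Cfsg.extendByZero I (ψ : I → ℂ) (g * g)) = 0 := by
    apply sum_eq_zero_of_coset_sums N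
    intro g
    by_cases hg : g ∈ I
    · refine Finset.sum_eq_zero (fun n _ => ?_)
      rw [if_pos (I.mul_mem hg (hNI n.2))]
    · have hgn : ∀ n : N, g * (n : G) ∉ I := fun n h =>
        hg (by simpa using I.mul_mem h (I.inv_mem (hNI n.2)))
      simp only [hgn, if_false]
      by_cases hg2 : g * g ∈ I
      · obtain ⟨k, ρ, hirr, hρ⟩ := ψ.2
        set σ₂ : Representation ℂ N (Fin k → ℂ) := ρ.comp (Subgroup.inclusion hNI) with hσ₂
        set σ₁ : Representation ℂ N (Fin k → ℂ) :=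
          ρ.comp ((Subgroup.inclusion hNI).comp
            ((MulAut.conjNormal g)⁻¹ : N ≃* N).toMonoidHom) with hσ₁
        have hc2 : ∀ n : N, σ₂.character n = (φ : N → ℂ) n := by
          intro n
          rw [← hext n, ← hρ]
          rfl
        have hc1 : ∀ n : N, σ₁.character n =
            Cfsg.Agent.Lib.Helper75.conjChar N (φ : N → ℂ) g n := by
          intro n
          unfold Cfsg.Agent.Lib.Helper75.conjChar
          rw [← hext _, ← hρ]
          rfl
        have hreal : ∀ n : N, conj ((φ : N → ℂ) n) = (φ : N → ℂ) n := by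
          intro n
          rw [← hext n]
          exact Complex.conj_eq_iff_im.2 (irr_real_of_fs_ne_zero ψ hfs _)
        have hne : Cfsg.Agent.Lib.Helper75.conjChar N (φ : N → ℂ) g ≠ (φ : N → ℂ) := by
          intro heq
          apply hg
          rw [hI]
          intro n n' hn'
          have h7 := congrFun heq n'
          rw [← h7]
          unfold Cfsg.Agent.Lib.Helper75.conjChar
          refine congrArg _ ?_
          apply Subtype.ext
          rw [MulAut.conjNormal_inv_apply, hn']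
          group
        have h0 : ∑ n : N, σ₁.character n * σ₂.character n = 0 := by
          have h5 := Cfsg.Agent.Lib.Helper80.classInner_irr_fun
            (Cfsg.Agent.Lib.Helper75.isIrrCharacter_conjChar N φ.2 g) φ.2
          rw [if_neg hne] at h5
          unfold Cfsg.classInner at h5
          have hN0 : (Nat.card N : ℂ) ≠ 0 := by exact_mod_cast Nat.card_pos.ne'
          have h6 := (mul_eq_zero.1 h5).resolve_left (inv_ne_zero hN0)
          rw [← h6]
          refine Finset.sum_congr rfl (fun n _ => ?_)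
          rw [hc1, hc2, hreal]
        have hz := sum_rep_mul_eq_zero σ₁ σ₂ h0
        have hterm : ∀ n : N, Cfsg.extendByZero I (ψ : I → ℂ) (g * n * (g * n)) =
            LinearMap.trace ℂ (Fin k → ℂ) (ρ ⟨g * g, hg2⟩ * (σ₁ n * σ₂ n)) := by
          intro n
          have e : g * (n : G) * (g * n) = ((⟨g * g, hg2⟩ *
              Subgroup.inclusion hNI ((MulAut.conjNormal g)⁻¹ n) *
              Subgroup.inclusion hNI n : I) : G) := by
            simp only [Subgroup.coe_mul, Subgroup.coe_inclusion, MulAut.conjNormal_inv_apply]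
            group
          rw [e, Cfsg.Agent.Lib.Helper80.extendByZero_apply_mem, ← hρ]
          have e3 : ρ (⟨g * g, hg2⟩ * Subgroup.inclusion hNI ((MulAut.conjNormal g)⁻¹ n) *
              Subgroup.inclusion hNI n) = ρ ⟨g * g, hg2⟩ * (σ₁ n * σ₂ n) := by
            rw [map_mul, map_mul, mul_assoc]
            rfl
          show LinearMap.trace ℂ (Fin k → ℂ) (ρ (⟨g * g, hg2⟩ *
              Subgroup.inclusion hNI ((MulAut.conjNormal g)⁻¹ n) * Subgroup.inclusion hNI n)) = _
          rw [e3]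
        rw [Finset.sum_congr rfl (fun n _ => hterm n), ← map_sum, ← Finset.mul_sum, hz, mul_zero,
          map_zero]
      · refine Finset.sum_eq_zero (fun n _ => ?_)
        apply Cfsg.Agent.Lib.Helper80.extendByZero_apply_not_mem
        intro h
        apply hg2
        have hm : g⁻¹ * (n : G) * g * n ∈ I := by
          apply hNI
          apply N.mul_mem _ n.2
          have := hN.conj_mem n n.2 g⁻¹
          rwa [inv_inv] at this
        have e : g * g = (g * n * (g * n)) * (g⁻¹ * n * g * n)⁻¹ := by group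
        rw [e]
        exact I.mul_mem h (I.inv_mem hm)
  rw [hA, hB, add_zero]

/-- The Frobenius–Schur sum of the induced character equals that of `ψ`. -/
theorem fs_indFun (φ : Cfsg.IrrCharacter N) (I : Subgroup G) [Fintype I]
    (hI : ∀ g : G, g ∈ I ↔ ∀ n n' : N, (n' : G) = g * (n : G) * g⁻¹ →
      (φ : N → ℂ) n' = (φ : N → ℂ) n)
    (hNI : N ≤ I) (ψ : Cfsg.IrrCharacter I)
    (hext : ∀ n : N, (ψ : I → ℂ) (Subgroup.inclusion hNI n) = (φ : N → ℂ) n)
    (hfs : (Nat.card I : ℂ)⁻¹ * ∑ g : I, (ψ : I → ℂ) (g * g) = 1) :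
    (Nat.card G : ℂ)⁻¹ * ∑ g : G, Cfsg.indFun I (ψ : I → ℂ) (g * g) = 1 := by
  have hne : ∑ g : I, (ψ : I → ℂ) (g * g) ≠ 0 := by
    intro h0
    rw [h0, mul_zero] at hfs
    exact zero_ne_one hfs
  rw [sum_indFun_sq, sum_extendByZero_sq N φ I hI hNI ψ hext hne, Nat.card_eq_fintype_card (α := G)]
  have hG0 : (Fintype.card G : ℂ) ≠ 0 := by exact_mod_cast Fintype.card_ne_zero
  rw [← hfs]
  field_simp

end IndFS

section LinFS

variable {G : Type*} [Group G] [Fintype G]

theorem linear_sq_of_fs (ν : Cfsg.IrrCharacter G) (h1 : (ν : G → ℂ) 1 = 1)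
    (hfs : ∑ g : G, (ν : G → ℂ) (g * g) ≠ 0) (g : G) : (ν : G → ℂ) (g * g) = 1 := by
  have hνc := Cfsg.Agent.Lib.Helper80.isCharacter_of_isIrrCharacter ν.2
  rw [Cfsg.Agent.Lib.Helper15.linChar_mul hνc h1]
  have h2 := linear_norm hνc h1 g
  rwa [Complex.conj_eq_iff_im.2 (irr_real_of_fs_ne_zero ν hfs g)] at h2

end LinFS

end Cfsg.Agent.Lib.Helper81
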