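import Mathlib
import Cfsg.Prelude.Def_Blocks
import Cfsg.Agent.Lib.Helper81.FSInd

set_option autoImplicit false

/-!
Semidirect products `N ⋊ P` with `N` abelian of odd order inverted by a central involution of
`P`: the character induced from the stabilizer of a linear character of `N` is strongly real
(used for S4871).
-/

namespace Cfsg.Agent.Lib.Helper81

open scoped ComplexConjugate Pointwise commutatorElement

section Decomp

variable {G : Type*} [Group G] (N P : Subgroup G) [hN : N.Normal]

theorem exists_np (hprod : N ⊔ P = ⊤) (g : G) : ∃ n ∈ N, ∃ p ∈ P, g = n * p := by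
  have h1 : g ∈ ((N ⊔ P : Subgroup G) : Set G) := by
    rw [hprod]
    exact Subgroup.mem_top g
  rw [Subgroup.normal_mul] at h1
  obtain ⟨n, hn, p, hp, rfl⟩ := Set.mem_mul.1 h1
  exact ⟨n, hn, p, hp, rfl⟩

theorem normal_of_np (hprod : N ⊔ P = ⊤) (M : Subgroup G)
    (h1 : ∀ n ∈ N, ∀ x ∈ M, n * x * n⁻¹ ∈ M) (h2 : ∀ p ∈ P, ∀ x ∈ M, p * x * p⁻¹ ∈ M) :
    M.Normal := by
  refine ⟨fun x hx g => ?_⟩
  obtain ⟨n, hn, p, hp, rfl⟩ := exists_np N P hprod g
  have : n * p * x * (n * p)⁻¹ = n * (p * x * p⁻¹) * n⁻¹ := by group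
  rw [this]
  exact h1 n hn _ (h2 p hp x hx)

/-- The decomposition `G = N P`, `N ∩ P = 1` as a bijection. -/
noncomputable def npEquiv (hdisj : N ⊓ P = ⊥) (hprod : N ⊔ P = ⊤) : N × P ≃ G :=
  Equiv.ofBijective (fun x => (x.1 : G) * (x.2 : G)) (by
    have h2 : (N : Set G) * (P : Set G) = Set.univ := by
      rw [← Subgroup.normal_mul, hprod]
      rfl
    exact Subgroup.isComplement'_of_disjoint_and_mul_eq_univ (disjoint_iff.2 hdisj) h2)

theorem npEquiv_apply (hdisj : N ⊓ P = ⊥) (hprod : N ⊔ P = ⊤) (x : N × P) :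
    npEquiv N P hdisj hprod x = (x.1 : G) * (x.2 : G) := rfl

theorem npEquiv_symm_mul (hdisj : N ⊓ P = ⊥) (hprod : N ⊔ P = ⊤) (n : N) (p : P) :
    (npEquiv N P hdisj hprod).symm ((n : G) * p) = (n, p) := by
  rw [Equiv.symm_apply_eq]
  rfl

theorem npEquiv_fst_mul_snd (hdisj : N ⊓ P = ⊥) (hprod : N ⊔ P = ⊤) (g : G) :
    (((npEquiv N P hdisj hprod).symm g).1 : G) * (((npEquiv N P hdisj hprod).symm g).2 : G) = g :=
  (npEquiv N P hdisj hprod).apply_symm_apply g

theorem sum_np [Fintype G] [Fintype N] [Fintype P] (hdisj : N ⊓ P = ⊥) (hprod : N ⊔ P = ⊤)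
    (F : G → ℂ) : ∑ g : G, F g = ∑ p : P, ∑ n : N, F ((n : G) * p) := by
  rw [← (npEquiv N P hdisj hprod).sum_comp F, Fintype.sum_prod_type, Finset.sum_comm]
  rfl

end Decomp

section Invol

variable {G : Type*} [Group G] [Finite G] (N P : Subgroup G) [hN : N.Normal]

theorem exists_central_involution (hP : IsPGroup 2 P) (hP1 : P ≠ ⊥) :
    ∃ z ∈ P, z ≠ 1 ∧ z * z = 1 ∧ ∀ p ∈ P, p * z = z * p := by
  have hnt : Nontrivial P := (Subgroup.nontrivial_iff_ne_bot P).2 hP1
  have hZ : Nontrivial (Subgroup.center P) := hP.center_nontrivial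
  have hZ2 : IsPGroup 2 (Subgroup.center P) := hP.to_subgroup _
  obtain ⟨k, hk⟩ := (IsPGroup.iff_card).1 hZ2
  have hk0 : k ≠ 0 := by
    rintro rfl
    rw [pow_zero] at hk
    have := Finite.one_lt_card (α := Subgroup.center P)
    omega
  have hdvd : 2 ∣ Nat.card (Subgroup.center P) := by
    rw [hk]
    exact dvd_pow_self 2 hk0
  obtain ⟨x, hx⟩ := exists_prime_orderOf_dvd_card' 2 hdvd
  refine ⟨((x : P) : G), (x : P).2, ?_, ?_, ?_⟩
  · intro h1
    have h2 : x = 1 := by
      apply Subtype.ext
      apply Subtype.ext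
      exact h1
    rw [h2, orderOf_one] at hx
    omega
  · have h1 : x ^ 2 = 1 := by
      rw [← hx]
      exact pow_orderOf_eq_one x
    have h2 := congrArg (fun y : Subgroup.center P => ((y : P) : G)) h1
    simpa [pow_two] using h2
  · intro p hp
    have h1 := (Subgroup.mem_center_iff.1 x.2) ⟨p, hp⟩
    have h2 := congrArg (fun y : P => (y : G)) h1
    simpa using h2

theorem inverts_of_central_involution (hdisj : N ⊓ P = ⊥) (hprod : N ⊔ P = ⊤)
    (hab : ∀ a ∈ N, ∀ b ∈ N, a * b = b * a)
    (hmin : ∀ M : Subgroup G, M.Normal → M ≠ ⊥ → N ≤ M) (hN1 : N ≠ ⊥)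
    {z : G} (hzP : z ∈ P) (hz1 : z ≠ 1) (hz2 : z * z = 1) (hzc : ∀ p ∈ P, p * z = z * p) :
    ∀ n ∈ N, z * n * z⁻¹ = n⁻¹ := by
  have hzinv : z⁻¹ = z := inv_eq_of_mul_eq_one_left hz2
  -- `z` does not centralize `N`
  have hA : ¬ (∀ n ∈ N, n * z = z * n) := by
    intro hcen
    have hzcen : ∀ g : G, g * z = z * g := by
      intro g
      obtain ⟨n, hn, p, hp, rfl⟩ := exists_np N P hprod g
      rw [mul_assoc, hzc p hp, ← mul_assoc, hcen n hn, mul_assoc]
    have hnorm : (Subgroup.zpowers z).Normal := by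
      refine ⟨fun x hx g => ?_⟩
      obtain ⟨k, rfl⟩ := Subgroup.mem_zpowers_iff.1 hx
      have hc : Commute g (z ^ k) := (show Commute g z from hzcen g).zpow_right k
      have : g * z ^ k * g⁻¹ = z ^ k := by
        rw [hc.eq, mul_inv_cancel_right]
      rw [this]
      exact Subgroup.zpow_mem_zpowers z k
    have hne : Subgroup.zpowers z ≠ ⊥ := by
      intro h0
      apply hz1
      have : z ∈ Subgroup.zpowers z := Subgroup.mem_zpowers z
      rw [h0, Subgroup.mem_bot] at this
      exact this
    have h1 : N ≤ Subgroup.zpowers z := hmin _ hnorm hne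
    have h2 : Subgroup.zpowers z ≤ P := (Subgroup.zpowers_le).2 hzP
    have h3 : N ≤ N ⊓ P := le_inf le_rfl (h1.trans h2)
    rw [hdisj] at h3
    exact hN1 (le_bot_iff.1 h3)
  -- the fixed points of `z` on `N`
  let C : Subgroup G := N ⊓ Subgroup.centralizer {z}
  have hCmem : ∀ x : G, x ∈ C ↔ x ∈ N ∧ x * z = z * x := by
    intro x
    constructor
    · rintro ⟨h1, h2⟩
      refine ⟨h1, ?_⟩
      have := Subgroup.mem_centralizer_iff.1 h2 z (Set.mem_singleton z)
      exact this.symm
    · rintro ⟨h1, h2⟩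
      refine ⟨h1, Subgroup.mem_centralizer_iff.2 ?_⟩
      intro y hy
      rw [Set.mem_singleton_iff] at hy
      rw [hy]
      exact h2.symm
  have hCnorm : C.Normal := by
    apply normal_of_np N P hprod
    · intro n hn x hx
      obtain ⟨hxN, _⟩ := (hCmem x).1 hx
      have : n * x * n⁻¹ = x := by
        rw [hab n hn x hxN, mul_inv_cancel_right]
      rw [this]
      exact hx
    · intro p hp x hx
      obtain ⟨hxN, hxz⟩ := (hCmem x).1 hx
      rw [hCmem]
      refine ⟨hN.conj_mem x hxN p, ?_⟩
      have h1 : p⁻¹ * z = z * p⁻¹ := by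
        have := hzc p hp
        calc p⁻¹ * z = p⁻¹ * (z * p) * p⁻¹ := by group
          _ = p⁻¹ * (p * z) * p⁻¹ := by rw [this]
          _ = z * p⁻¹ := by group
      calc p * x * p⁻¹ * z = p * x * (p⁻¹ * z) := by group
        _ = p * x * (z * p⁻¹) := by rw [h1]
        _ = p * (x * z) * p⁻¹ := by group
        _ = p * (z * x) * p⁻¹ := by rw [hxz]
        _ = (p * z) * x * p⁻¹ := by group
        _ = (z * p) * x * p⁻¹ := by rw [hzc p hp]
        _ = z * (p * x * p⁻¹) := by group
  have hCbot : C = ⊥ := by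
    by_contra hne
    have h1 : N ≤ C := hmin C hCnorm hne
    apply hA
    intro n hn
    exact ((hCmem n).1 (h1 hn)).2
  intro n hn
  have hm : n * (z * n * z⁻¹) ∈ C := by
    rw [hCmem]
    have hzn : z * n * z⁻¹ ∈ N := hN.conj_mem n hn z
    refine ⟨N.mul_mem hn hzn, ?_⟩
    have h1 : n * (z * n * z⁻¹) = (z * n * z⁻¹) * n := hab n hn _ hzn
    calc n * (z * n * z⁻¹) * z = (z * n * z⁻¹) * n * z := by rw [h1]
      _ = z * n * (z⁻¹ * n * z) := by group
      _ = z * n * (z * n * z⁻¹) := by rw [hzinv]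
      _ = z * (n * (z * n * z⁻¹)) := by group
  rw [hCbot, Subgroup.mem_bot] at hm
  exact eq_inv_of_mul_eq_one_right hm

theorem le_commutator_of_inverted (q : ℕ) (hq : Odd q) (hNq : ∀ a ∈ N, a ^ q = 1) {z : G}
    (hz : ∀ n ∈ N, z * n * z⁻¹ = n⁻¹) : N ≤ commutator G := by
  intro n hn
  obtain ⟨r, hr⟩ := hq
  have h1 : ⁅z, n⁆ ∈ commutator G := by
    rw [commutator_def]
    exact Subgroup.commutator_mem_commutator (Subgroup.mem_top z) (Subgroup.mem_top n)
  have h2 : ⁅z, n⁆ = (n * n)⁻¹ := by
    rw [commutatorElement_def, hz n hn]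
    group
  rw [h2] at h1
  have h3 : n * n ∈ commutator G := by
    have := (commutator G).inv_mem h1
    rwa [inv_inv] at this
  have h4 : n = ((n * n) ^ r)⁻¹ := by
    have h5 := hNq n hn
    rw [hr, pow_succ, pow_mul] at h5
    rw [← pow_two]
    exact eq_inv_of_mul_eq_one_right h5
  rw [h4]
  exact (commutator G).inv_mem ((commutator G).pow_mem h3 r)

end Invol

section Proj

variable {G : Type*} [Group G] (N P : Subgroup G) [hN : N.Normal]
  (hdisj : N ⊓ P = ⊥) (hprod : N ⊔ P = ⊤)

/-- The `N`-component of an element of `G = N P`. -/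
noncomputable def npN (g : G) : N := ((npEquiv N P hdisj hprod).symm g).1

/-- The `P`-component of an element of `G = N P`. -/
noncomputable def npP (g : G) : P := ((npEquiv N P hdisj hprod).symm g).2

theorem npN_mul_npP (g : G) : (npN N P hdisj hprod g : G) * (npP N P hdisj hprod g : G) = g :=
  npEquiv_fst_mul_snd N P hdisj hprod g

theorem npN_mul (n : N) (p : P) : npN N P hdisj hprod ((n : G) * p) = n := by
  unfold npN
  rw [npEquiv_symm_mul]

theorem npP_mul (n : N) (p : P) : npP N P hdisj hprod ((n : G) * p) = p := by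
  unfold npP
  rw [npEquiv_symm_mul]

theorem npN_mul_general (x y : G) :
    npN N P hdisj hprod (x * y) = npN N P hdisj hprod x *
      MulAut.conjNormal (npP N P hdisj hprod x : G) (npN N P hdisj hprod y) := by
  have hx := npN_mul_npP N P hdisj hprod x
  have hy := npN_mul_npP N P hdisj hprod y
  have h1 : x * y = ((npN N P hdisj hprod x *
      MulAut.conjNormal (npP N P hdisj hprod x : G) (npN N P hdisj hprod y) : N) : G) *
      ((npP N P hdisj hprod x * npP N P hdisj hprod y : P) : G) := by
    simp only [Subgroup.coe_mul, MulAut.conjNormal_apply]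
    conv_lhs => rw [← hx, ← hy]
    group
  rw [h1, npN_mul]

end Proj

section Chars

variable {G : Type*} [Group G] [Fintype G] (N P : Subgroup G) [hN : N.Normal] [Fintype N]
  [Fintype P]

/-- A linear character `lam` of `N` extends to its stabilizer `I` in `G = N ⋊ P`, and if a central
involution of `P` inverts `N` the induced character has Frobenius–Schur indicator `1`. -/
theorem exists_ext_fs_one (hdisj : N ⊓ P = ⊥) (hprod : N ⊔ P = ⊤) (lam : N →* ℂˣ)
    (I : Subgroup G) [Fintype I]
    (hI : ∀ g : G, g ∈ I ↔ ∀ n : N, lam (MulAut.conjNormal g n) = lam n) (hNI : N ≤ I)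
    {z : G} (hzP : z ∈ P) (hz2 : z * z = 1) (hz : ∀ n ∈ N, z * n * z⁻¹ = n⁻¹) :
    ∃ ψ : I →* ℂˣ, (∀ n : N, ψ (Subgroup.inclusion hNI n) = lam n) ∧
      (Nat.card G : ℂ)⁻¹ *
        ∑ g : G, Cfsg.indFun I (fun x : I => ((ψ x : ℂˣ) : ℂ)) (g * g) = 1 := by
  classical
  have hP_of_I : ∀ x : G, x ∈ I → (npP N P hdisj hprod x : G) ∈ I := by
    intro x hx
    have h1 := npN_mul_npP N P hdisj hprod x
    have h2 : (npP N P hdisj hprod x : G) = (npN N P hdisj hprod x : G)⁻¹ * x := by
      rw [eq_inv_mul_iff_mul_eq]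
      exact h1
    rw [h2]
    exact I.mul_mem (I.inv_mem (hNI (npN N P hdisj hprod x).2)) hx
  let ψ : I →* ℂˣ := MonoidHom.mk' (fun x => lam (npN N P hdisj hprod (x : G))) (by
    intro x y
    show lam (npN N P hdisj hprod ((x * y : I) : G)) =
      lam (npN N P hdisj hprod (x : G)) * lam (npN N P hdisj hprod (y : G))
    rw [Subgroup.coe_mul, npN_mul_general, map_mul]
    congr 1
    exact (hI _).1 (hP_of_I x x.2) _)
  have hψ : ∀ x : I, ψ x = lam (npN N P hdisj hprod (x : G)) := fun x => rfl
  refine ⟨ψ, ?_, ?_⟩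
  · intro n
    rw [hψ]
    have h1 : ((Subgroup.inclusion hNI n : I) : G) = (n : G) * ((1 : P) : G) := by simp
    rw [h1, npN_mul]
  · have hzinv : z⁻¹ = z := inv_eq_of_mul_eq_one_left hz2
    -- the inversion property in terms of `lam`
    have hlamz : ∀ m : N, lam (MulAut.conjNormal z m) = (lam m)⁻¹ := by
      intro m
      have h1 : MulAut.conjNormal z m = m⁻¹ := by
        apply Subtype.ext
        rw [MulAut.conjNormal_apply, hz m m.2]
        rfl
      rw [h1, map_inv]
    -- membership of squares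
    have hsq : ∀ (n : N) (p : P), (n : G) * p * ((n : G) * p) =
        ((n * MulAut.conjNormal (p : G) n : N) : G) * ((p * p : P) : G) := by
      intro n p
      simp only [Subgroup.coe_mul, MulAut.conjNormal_apply]
      group
    have hsqmem : ∀ (n : N) (p : P), (n : G) * p * ((n : G) * p) ∈ I ↔ ((p * p : P) : G) ∈ I := by
      intro n p
      rw [hsq]
      constructor
      · intro h
        have h1 := I.mul_mem (I.inv_mem (hNI (n * MulAut.conjNormal (p : G) n).2)) h
        rwa [inv_mul_cancel_left] at h1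
      · intro h
        exact I.mul_mem (hNI (n * MulAut.conjNormal (p : G) n).2) h
    -- inner sums
    have hT : ∀ p : P, ∑ n : N, Cfsg.extendByZero I (fun x : I => ((ψ x : ℂˣ) : ℂ))
        ((n : G) * p * ((n : G) * p)) =
        if (∀ n : N, lam n * lam (MulAut.conjNormal (p : G) n) = 1) then (Fintype.card N : ℂ)
        else 0 := by
      intro p
      by_cases hμ : ∀ n : N, lam n * lam (MulAut.conjNormal (p : G) n) = 1
      · rw [if_pos hμ]
        have hinv : ∀ m : N, lam (MulAut.conjNormal (p : G) m) = (lam m)⁻¹ := by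
          intro m
          exact eq_inv_of_mul_eq_one_right (hμ m)
        have hpp : ((p * p : P) : G) ∈ I := by
          rw [hI]
          intro n
          rw [Subgroup.coe_mul, map_mul, MulAut.mul_apply, hinv, hinv, inv_inv]
        have hterm : ∀ n : N, Cfsg.extendByZero I (fun x : I => ((ψ x : ℂˣ) : ℂ))
            ((n : G) * p * ((n : G) * p)) = 1 := by
          intro n
          have hmem : (n : G) * p * ((n : G) * p) ∈ I := (hsqmem n p).2 hpp
          have h1 := Cfsg.Agent.Lib.Helper80.extendByZero_apply_mem I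
            (fun x : I => ((ψ x : ℂˣ) : ℂ)) ⟨_, hmem⟩
          rw [h1, hψ]
          show ((lam (npN N P hdisj hprod ((n : G) * p * ((n : G) * p))) : ℂˣ) : ℂ) = 1
          rw [hsq, npN_mul, map_mul, hμ n]
          rfl
        rw [Finset.sum_congr rfl (fun n _ => hterm n), Finset.sum_const, Finset.card_univ,
          nsmul_eq_mul, mul_one]
      · rw [if_neg hμ]
        by_cases hpp : ((p * p : P) : G) ∈ I
        · let f : N →* ℂ := (Units.coeHom ℂ).comp
            (lam * lam.comp ((MulAut.conjNormal (p : G) : N ≃* N).toMonoidHom))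
          have hf : ∀ n : N, f n = ((lam n * lam (MulAut.conjNormal (p : G) n) : ℂˣ) : ℂ) :=
            fun n => rfl
          have hf1 : f ≠ 1 := by
            intro h1
            apply hμ
            intro n
            have h2 := congrArg (fun g : N →* ℂ => g n) h1
            simp only [hf, MonoidHom.one_apply] at h2
            exact Units.ext h2
          have hterm : ∀ n : N, Cfsg.extendByZero I (fun x : I => ((ψ x : ℂˣ) : ℂ))
              ((n : G) * p * ((n : G) * p)) = f n := by
            intro n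
            have hmem : (n : G) * p * ((n : G) * p) ∈ I := (hsqmem n p).2 hpp
            have h1 := Cfsg.Agent.Lib.Helper80.extendByZero_apply_mem I
              (fun x : I => ((ψ x : ℂˣ) : ℂ)) ⟨_, hmem⟩
            rw [h1, hψ, hf]
            show ((lam (npN N P hdisj hprod ((n : G) * p * ((n : G) * p))) : ℂˣ) : ℂ) = _
            rw [hsq, npN_mul, map_mul]
          rw [Finset.sum_congr rfl (fun n _ => hterm n)]
          exact sum_hom_units_eq_zero f hf1
        · refine Finset.sum_eq_zero (fun n _ => ?_)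
          apply Cfsg.Agent.Lib.Helper80.extendByZero_apply_not_mem
          intro h
          exact hpp ((hsqmem n p).1 h)
    -- counting
    have hcount : (Finset.univ.filter
        (fun p : P => ∀ n : N, lam n * lam (MulAut.conjNormal (p : G) n) = 1)).card =
        (Finset.univ.filter (fun p : P => (p : G) ∈ I)).card := by
      symm
      refine Finset.card_bij (fun p _ => (⟨z, hzP⟩ : P) * p) ?_ ?_ ?_
      · intro p hp
        rw [Finset.mem_filter] at hp ⊢
        refine ⟨Finset.mem_univ _, fun n => ?_⟩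
        rw [Subgroup.coe_mul, map_mul, MulAut.mul_apply]
        show lam n * lam (MulAut.conjNormal z (MulAut.conjNormal (p : G) n)) = 1
        rw [hlamz, (hI _).1 hp.2 n, mul_inv_cancel]
      · intro a _ b _ h
        exact mul_left_cancel h
      · intro p hp
        rw [Finset.mem_filter] at hp
        refine ⟨(⟨z, hzP⟩ : P)⁻¹ * p, ?_, by simp⟩
        rw [Finset.mem_filter]
        refine ⟨Finset.mem_univ _, ?_⟩
        rw [hI]
        intro n
        rw [Subgroup.coe_mul, map_mul, MulAut.mul_apply]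
        show lam (MulAut.conjNormal (z⁻¹) (MulAut.conjNormal (p : G) n)) = lam n
        rw [hzinv, hlamz, eq_inv_of_mul_eq_one_right (hp.2 n), inv_inv]
    have hcardI : (Nat.card I : ℂ) =
        (Fintype.card N : ℂ) * ((Finset.univ.filter (fun p : P => (p : G) ∈ I)).card : ℂ) := by
      have h1 : Nat.card I = (Finset.univ.filter (fun g : G => g ∈ I)).card :=
        Nat.subtype_card _ (by simp)
      rw [h1, Finset.card_filter]
      push_cast
      rw [sum_np N P hdisj hprod]
      have h2 : ∀ p : P, ∑ n : N, (if (n : G) * p ∈ I then (1 : ℂ) else 0) =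
          if (p : G) ∈ I then (Fintype.card N : ℂ) else 0 := by
        intro p
        have h3 : ∀ n : N, ((n : G) * p ∈ I ↔ (p : G) ∈ I) := by
          intro n
          constructor
          · intro h
            have h4 := I.mul_mem (I.inv_mem (hNI n.2)) h
            rwa [inv_mul_cancel_left] at h4
          · intro h
            exact I.mul_mem (hNI n.2) h
        by_cases hp : (p : G) ∈ I
        · rw [if_pos hp]
          rw [Finset.sum_congr rfl (fun n _ => if_pos ((h3 n).2 hp)), Finset.sum_const,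
            Finset.card_univ, nsmul_eq_mul, mul_one]
        · rw [if_neg hp]
          exact Finset.sum_eq_zero (fun n _ => if_neg (fun h => hp ((h3 n).1 h)))
      rw [Finset.sum_congr rfl (fun p _ => h2 p), ← Finset.sum_filter, Finset.sum_const,
        nsmul_eq_mul, mul_comm]
    rw [sum_indFun_sq, sum_np N P hdisj hprod, Finset.sum_congr rfl (fun p _ => hT p),
      ← Finset.sum_filter, Finset.sum_const, nsmul_eq_mul, hcount, hcardI,
      Nat.card_eq_fintype_card (α := G)]
    have hG0 : (Fintype.card G : ℂ) ≠ 0 := by exact_mod_cast Fintype.card_ne_zero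
    have hN0 : (Fintype.card N : ℂ) ≠ 0 := by exact_mod_cast Fintype.card_ne_zero
    have hc0 : ((Finset.univ.filter (fun p : P => (p : G) ∈ I)).card : ℂ) ≠ 0 := by
      have : 0 < (Finset.univ.filter (fun p : P => (p : G) ∈ I)).card := by
        rw [Finset.card_pos]
        exact ⟨1, by simp [I.one_mem]⟩
      exact_mod_cast this.ne'
    field_simp

end Chars

section Stab

variable {G : Type*} [Group G] (N P : Subgroup G) [hN : N.Normal]

/-- The stabilizer in `G` of a linear character of the normal subgroup `N`. -/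
def linStab (lam : N →* ℂˣ) : Subgroup G where
  carrier := {g | ∀ n : N, lam (MulAut.conjNormal g n) = lam n}
  one_mem' := by
    intro n
    simp
  mul_mem' := by
    intro a b ha hb n
    rw [map_mul, MulAut.mul_apply, ha, hb]
  inv_mem' := by
    intro a ha n
    have h1 := ha (MulAut.conjNormal a⁻¹ n)
    rw [← MulAut.mul_apply, ← map_mul, mul_inv_cancel, map_one, MulAut.one_apply] at h1
    exact h1.symm

theorem mem_linStab (lam : N →* ℂˣ) (g : G) :
    g ∈ linStab N lam ↔ ∀ n : N, lam (MulAut.conjNormal g n) = lam n := Iff.rfl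

theorem mem_linStab' (lam : N →* ℂˣ) (g : G) :
    g ∈ linStab N lam ↔ ∀ n n' : N, (n' : G) = g * (n : G) * g⁻¹ →
      ((lam n' : ℂˣ) : ℂ) = ((lam n : ℂˣ) : ℂ) := by
  rw [mem_linStab]
  constructor
  · intro h n n' hn'
    have h1 : n' = MulAut.conjNormal g n := by
      apply Subtype.ext
      rw [hn', MulAut.conjNormal_apply]
    rw [h1, h n]
  · intro h n
    apply Units.ext
    exact h n (MulAut.conjNormal g n) (MulAut.conjNormal_apply g n)

theorem le_linStab (lam : N →* ℂˣ) (hab : ∀ a ∈ N, ∀ b ∈ N, a * b = b * a) :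
    N ≤ linStab N lam := by
  intro m hm
  rw [mem_linStab]
  intro n
  have h1 : MulAut.conjNormal m n = n := by
    apply Subtype.ext
    rw [MulAut.conjNormal_apply, hab m hm n n.2, mul_inv_cancel_right]
  rw [h1]

theorem not_mem_linStab_of_inverts (lam : N →* ℂˣ) (hlam : lam ≠ 1) (q : ℕ) (hq : Odd q)
    (hNq : ∀ a ∈ N, a ^ q = 1) {z : G} (hz : ∀ n ∈ N, z * n * z⁻¹ = n⁻¹) :
    z ∉ linStab N lam := by
  intro hzI
  apply hlam
  ext n
  obtain ⟨r, hr⟩ := hq
  have h1 := (mem_linStab N lam z).1 hzI n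
  have h2 : MulAut.conjNormal z n = n⁻¹ := by
    apply Subtype.ext
    rw [MulAut.conjNormal_apply, hz n n.2]
    rfl
  rw [h2, map_inv] at h1
  have h3 : lam n * lam n = 1 := by
    have := congrArg (fun u => u * lam n) h1
    simpa using this.symm
  have h4 : lam n ^ q = 1 := by
    rw [← map_pow]
    have : n ^ q = 1 := by
      apply Subtype.ext
      rw [Subgroup.coe_pow]
      exact hNq n n.2
    rw [this, map_one]
  rw [hr, pow_succ, pow_mul, pow_two, h3, one_pow, one_mul] at h4
  rw [MonoidHom.one_apply, h4]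

theorem index_eq_card_of_np [Finite G] (hdisj : N ⊓ P = ⊥) (hprod : N ⊔ P = ⊤) :
    N.index = Nat.card P := by
  have h1 := Subgroup.card_mul_index N
  have h2 : Nat.card G = Nat.card N * Nat.card P := by
    rw [← Nat.card_prod]
    exact (Nat.card_congr (npEquiv N P hdisj hprod)).symm
  rw [h2] at h1
  exact Nat.eq_of_mul_eq_mul_left Nat.card_pos h1

theorem exists_hom_ne_one_of_comm {A : Type*} [Group A] [Finite A]
    (hc : ∀ a b : A, a * b = b * a) {a : A} (ha : a ≠ 1) : ∃ f : A →* ℂˣ, f ≠ 1 := by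
  let instC : CommGroup A := { (inferInstance : Group A) with mul_comm := hc }
  have hne0 : ((Monoid.exponent A : ℕ) : ℂ) ≠ 0 := by
    exact_mod_cast Monoid.exponent_ne_zero_of_finite
  have : NeZero ((Monoid.exponent A : ℕ) : ℂ) := ⟨hne0⟩
  obtain ⟨f, hf⟩ := CommGroup.exists_apply_ne_one_of_hasEnoughRootsOfUnity A ℂ ha
  refine ⟨MonoidHom.mk' (fun x => f x) (fun x y => map_mul f x y), ?_⟩
  intro h1
  apply hf
  exact DFunLike.congr_fun h1 a

end Stab

end Cfsg.Agent.Lib.Helper81
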