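import Mathlib
import Cfsg.Agent.Lib.Helper81.SemiReal

set_option autoImplicit false

/-!
Group-theoretic lemmas for the Isaacs–Navarro statements on real characters of `p'`-degree.
-/

namespace Cfsg.Agent.Lib.Helper81

universe u

section Lift

variable {G : Type*} [Group G]

/-- real classes of `G ⧸ N` lift to real classes of `G` when `N` has a complement -/
theorem real_lift_of_complement (N H : Subgroup G) [N.Normal]
    (hdisj : N ⊓ H = ⊥) (hprod : N ⊔ H = ⊤) (x : G)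
    (hx : IsConj ((x : G ⧸ N))⁻¹ (x : G ⧸ N)) :
    ∃ y : G, IsConj y⁻¹ y ∧ IsConj (y : G ⧸ N) (x : G ⧸ N) := by
  obtain ⟨n, hn, h, hh, rfl⟩ := exists_np N H hprod x
  obtain ⟨c', hc'⟩ := isConj_iff.1 hx
  obtain ⟨c, rfl⟩ := QuotientGroup.mk_surjective c'
  obtain ⟨n', hn', h', hh', rfl⟩ := exists_np N H hprod c
  have e1 : ((n * h : G) : G ⧸ N) = (h : G ⧸ N) := by
    rw [QuotientGroup.mk_mul, (QuotientGroup.eq_one_iff n).2 hn, one_mul]
  have e2 : ((n' * h' : G) : G ⧸ N) = (h' : G ⧸ N) := by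
    rw [QuotientGroup.mk_mul, (QuotientGroup.eq_one_iff n').2 hn', one_mul]
  rw [e1, e2] at hc'
  have h3 : (h : G ⧸ N) = ((h' * h⁻¹ * h'⁻¹ : G) : G ⧸ N) := by
    rw [← hc']
    simp
  have h4 : h⁻¹ * (h' * h⁻¹ * h'⁻¹) ∈ N := QuotientGroup.eq.1 h3
  have h5 : h⁻¹ * (h' * h⁻¹ * h'⁻¹) ∈ H :=
    H.mul_mem (H.inv_mem hh) (H.mul_mem (H.mul_mem hh' (H.inv_mem hh)) (H.inv_mem hh'))
  have h6 : h⁻¹ * (h' * h⁻¹ * h'⁻¹) = 1 := by
    have h7 : h⁻¹ * (h' * h⁻¹ * h'⁻¹) ∈ N ⊓ H := ⟨h4, h5⟩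
    rw [hdisj] at h7
    exact Subgroup.mem_bot.1 h7
  refine ⟨h, isConj_iff.2 ⟨h', ?_⟩, ?_⟩
  · exact (inv_mul_eq_one.1 h6).symm
  · rw [e1]

/-- an involution acting nontrivially on, or lying in, a normal subgroup gives a nontrivial
real element there -/
theorem exists_real_of_involution (N : Subgroup G) [hN : N.Normal] (t : G) (ht : t * t = 1)
    (h : (t ∈ N ∧ t ≠ 1) ∨ ∃ n ∈ N, t * n * t⁻¹ ≠ n) :
    ∃ m ∈ N, m ≠ 1 ∧ IsConj m⁻¹ m := by
  have hinv : t⁻¹ = t := inv_eq_of_mul_eq_one_left ht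
  rcases h with ⟨htN, ht1⟩ | ⟨n, hn, hne⟩
  · refine ⟨t, htN, ht1, ?_⟩
    rw [hinv]
  · refine ⟨n⁻¹ * (t * n * t⁻¹), N.mul_mem (N.inv_mem hn) (hN.conj_mem n hn t), ?_, ?_⟩
    · intro h1
      exact hne (inv_mul_eq_one.1 h1).symm
    · rw [isConj_iff]
      refine ⟨t, ?_⟩
      calc t * (n⁻¹ * (t * n * t⁻¹))⁻¹ * t⁻¹ = (t * t) * (n⁻¹ * (t⁻¹ * n * t⁻¹)) := by group
        _ = n⁻¹ * (t * n * t⁻¹) := by rw [ht, one_mul, hinv]

/-- if `r²` centralizes `M` but `r` does not, `M` contains a nontrivial real element -/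
theorem exists_real_of_sq_centralizes (M : Subgroup G) [hM : M.Normal] (r : G)
    (hr2 : ∀ m ∈ M, (r * r) * m = m * (r * r)) (m : G) (hm : m ∈ M) (hne : r * m * r⁻¹ ≠ m) :
    ∃ c ∈ M, c ≠ 1 ∧ IsConj c⁻¹ c := by
  refine ⟨m⁻¹ * (r * m * r⁻¹), M.mul_mem (M.inv_mem hm) (hM.conj_mem m hm r), ?_, ?_⟩
  · intro h1
    exact hne (inv_mul_eq_one.1 h1).symm
  · apply IsConj.symm
    rw [isConj_iff]
    refine ⟨r, ?_⟩
    have h1 := hr2 m hm
    have h2 : r * (m⁻¹ * (r * m * r⁻¹)) * r⁻¹ = (r * m⁻¹ * r⁻¹) * ((r * r) * m) * r⁻¹ * r⁻¹ := by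
      group
    rw [h2, h1]
    group

end Lift

/-- real classes of `G ⧸ M` lift to real classes of `G` when `M` has odd order -/
theorem real_lift_of_odd {G : Type*} [Group G] [Finite G] (M : Subgroup G) [hM : M.Normal]
    (hodd : Odd (Nat.card M)) (x : G)
    (hx : IsConj ((x : G ⧸ M))⁻¹ (x : G ⧸ M)) :
    ∃ y : G, IsConj y⁻¹ y ∧ IsConj (y : G ⧸ M) (x : G ⧸ M) := by
  classical
  obtain ⟨c', hc'⟩ := isConj_iff.1 hx
  obtain ⟨c, rfl⟩ := QuotientGroup.mk_surjective c'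
  have hX : Nat.card {h : G // (h : G ⧸ M) = (x : G ⧸ M)} = Nat.card M := by
    apply Nat.card_congr
    exact
      { toFun := fun h => ⟨x⁻¹ * h.1, QuotientGroup.eq.1 h.2.symm⟩
        invFun := fun m => ⟨x * m.1, by
          rw [QuotientGroup.mk_mul, (QuotientGroup.eq_one_iff _).2 m.2, mul_one]⟩
        left_inv := fun h => Subtype.ext (by simp)
        right_inv := fun m => Subtype.ext (by simp) }
  have hmem : ∀ h : {h : G // (h : G ⧸ M) = (x : G ⧸ M)},
      ((c * h.1⁻¹ * c⁻¹ : G) : G ⧸ M) = (x : G ⧸ M) := by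
    intro h
    rw [QuotientGroup.mk_mul, QuotientGroup.mk_mul, QuotientGroup.mk_inv, QuotientGroup.mk_inv,
      h.2]
    exact hc'
  let τf : {h : G // (h : G ⧸ M) = (x : G ⧸ M)} → {h : G // (h : G ⧸ M) = (x : G ⧸ M)} :=
    fun h => ⟨c * h.1⁻¹ * c⁻¹, hmem h⟩
  have hτinj : Function.Injective τf := by
    intro a b hab
    have h1 : c * a.1⁻¹ * c⁻¹ = c * b.1⁻¹ * c⁻¹ := congrArg Subtype.val hab
    apply Subtype.ext
    have h2 : a.1⁻¹ = b.1⁻¹ := by
      have := congrArg (fun z => c⁻¹ * z * c) h1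
      simpa [mul_assoc] using this
    exact inv_injective h2
  let τ : Equiv.Perm {h : G // (h : G ⧸ M) = (x : G ⧸ M)} :=
    Equiv.ofBijective τf ⟨hτinj, Finite.surjective_of_injective hτinj⟩
  have hτ : ∀ h : {h : G // (h : G ⧸ M) = (x : G ⧸ M)}, (τ h).1 = c * h.1⁻¹ * c⁻¹ :=
    fun h => rfl
  have heven : ∀ (k : ℕ) (h : {h : G // (h : G ⧸ M) = (x : G ⧸ M)}),
      ((τ ^ (2 * k)) h).1 = c ^ (2 * k) * h.1 * (c ^ (2 * k))⁻¹ := by
    intro k
    induction k with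
    | zero =>
      intro h
      simp
    | succ k ih =>
      intro h
      have e : 2 * (k + 1) = 2 * k + 1 + 1 := by ring
      rw [e, pow_succ τ (2 * k + 1), pow_succ τ (2 * k), Equiv.Perm.mul_apply,
        Equiv.Perm.mul_apply, ih, hτ, hτ]
      group
  have hoddp : ∀ (k : ℕ) (h : {h : G // (h : G ⧸ M) = (x : G ⧸ M)}),
      ((τ ^ (2 * k + 1)) h).1 = c ^ (2 * k + 1) * h.1⁻¹ * (c ^ (2 * k + 1))⁻¹ := by
    intro k h
    rw [pow_succ τ (2 * k), Equiv.Perm.mul_apply, heven, hτ]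
    group
  obtain ⟨a, m, hm_odd, hom⟩ := Nat.exists_eq_two_pow_mul_odd (orderOf_pos τ).ne'
  obtain ⟨j, rfl⟩ := hm_odd
  have hσ : (τ ^ (2 * j + 1)) ^ (2 ^ a) = 1 := by
    rw [← pow_mul, mul_comm, ← hom, pow_orderOf_eq_one]
  have hZ : IsPGroup 2 (Subgroup.zpowers (τ ^ (2 * j + 1))) := by
    rintro ⟨g, hg⟩
    obtain ⟨k, rfl⟩ := Subgroup.mem_zpowers_iff.1 hg
    refine ⟨a, Subtype.ext ?_⟩
    show ((τ ^ (2 * j + 1)) ^ k) ^ (2 ^ a) = 1
    rw [← zpow_natCast, ← zpow_mul, mul_comm k, zpow_mul, zpow_natCast, hσ, one_zpow]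
  have hnd : ¬ 2 ∣ Nat.card {h : G // (h : G ⧸ M) = (x : G ⧸ M)} := by
    rw [hX]
    intro h2
    exact (Nat.not_even_iff_odd.2 hodd) (even_iff_two_dvd.2 h2)
  obtain ⟨h, hh⟩ := hZ.nonempty_fixed_point_of_prime_not_dvd_card
    {h : G // (h : G ⧸ M) = (x : G ⧸ M)} hnd
  have hfix : (τ ^ (2 * j + 1)) h = h :=
    hh ⟨τ ^ (2 * j + 1), Subgroup.mem_zpowers _⟩
  have h1 := hoddp j h
  rw [hfix] at h1
  refine ⟨h.1, isConj_iff.2 ⟨c ^ (2 * j + 1), h1.symm⟩, ?_⟩
  rw [h.2]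

section Quot

variable {G : Type*} [Group G]

/-- the subgroup generated by the `q`-elements is normal -/
theorem normal_closure_ppow (G : Type*) [Group G] (q : ℕ) :
    (Subgroup.closure {g : G | ∃ k : ℕ, orderOf g = q ^ k}).Normal := by
  refine ⟨fun n hn g => ?_⟩
  have h1 : (Subgroup.closure {g : G | ∃ k : ℕ, orderOf g = q ^ k}).map
      (MulAut.conj g).toMonoidHom ≤ Subgroup.closure {g : G | ∃ k : ℕ, orderOf g = q ^ k} := by
    rw [MonoidHom.map_closure]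
    apply Subgroup.closure_mono
    rintro _ ⟨x, ⟨k, hk⟩, rfl⟩
    refine ⟨k, ?_⟩
    rw [← hk]
    exact orderOf_injective (MulAut.conj g).toMonoidHom (MulAut.conj g).injective x
  have h2 := h1 (Subgroup.mem_map_of_mem _ hn)
  simpa using h2

/-- lifting elements of prime power order -/
theorem exists_lift_ppow81 [Finite G] {H : Type*} [Group H] (f : G →* H)
    {p : ℕ} (hp : p.Prime) (g₀ : G) {e : ℕ} (hy : (f g₀) ^ (p ^ e) = 1) :
    ∃ x : G, f x = f g₀ ∧ ∃ a, orderOf x = p ^ a := by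
  obtain ⟨k, m, hm, hom⟩ := Nat.exists_eq_pow_mul_and_not_dvd (orderOf_pos g₀).ne' p hp.ne_one
  have hcop : m.Coprime (orderOf (f g₀)) := by
    have h1 : orderOf (f g₀) ∣ p ^ e := orderOf_dvd_of_pow_eq_one hy
    exact Nat.Coprime.coprime_dvd_right h1
      (Nat.Coprime.pow_right e ((Nat.Prime.coprime_iff_not_dvd hp).mpr hm).symm)
  obtain ⟨m', hm'⟩ := exists_pow_eq_self_of_coprime hcop
  refine ⟨(g₀ ^ m) ^ m', by rw [map_pow, map_pow, hm'], ?_⟩
  have h2 : ((g₀ ^ m) ^ m') ^ (p ^ k) = 1 := by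
    rw [← pow_mul, ← pow_mul, show m * (m' * p ^ k) = (p ^ k * m) * m' by ring, ← hom, pow_mul,
      pow_orderOf_eq_one, one_pow]
  obtain ⟨a, -, ha⟩ := (Nat.dvd_prime_pow hp).mp (orderOf_dvd_of_pow_eq_one h2)
  exact ⟨a, ha⟩

/-- the subgroup generated by the `q`-elements of a quotient is the image of the subgroup
generated by the `q`-elements -/
theorem closure_ppow_map [Finite G] (N : Subgroup G) [N.Normal] (q : ℕ) (hq : q.Prime) :
    Subgroup.closure {x : G ⧸ N | ∃ k : ℕ, orderOf x = q ^ k} =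
      (Subgroup.closure {g : G | ∃ k : ℕ, orderOf g = q ^ k}).map (QuotientGroup.mk' N) := by
  apply le_antisymm
  · rw [Subgroup.closure_le]
    rintro x ⟨k, hk⟩
    obtain ⟨g₀, rfl⟩ := QuotientGroup.mk_surjective x
    have hy : (QuotientGroup.mk' N g₀) ^ (q ^ k) = 1 := by
      rw [← hk]
      exact pow_orderOf_eq_one _
    obtain ⟨g, hg, a, ha⟩ := exists_lift_ppow81 (QuotientGroup.mk' N) hq g₀ hy
    exact ⟨g, Subgroup.subset_closure ⟨a, ha⟩, hg⟩
  · rw [Subgroup.map_le_iff_le_comap, Subgroup.closure_le]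
    rintro g ⟨k, hk⟩
    apply Subgroup.subset_closure
    have h1 : orderOf (QuotientGroup.mk' N g) ∣ q ^ k := by
      rw [← hk]
      exact orderOf_map_dvd _ g
    obtain ⟨a, -, ha⟩ := (Nat.dvd_prime_pow hq).mp h1
    exact ⟨a, ha⟩

/-- solvability of the subgroup generated by the `q`-elements passes to quotients -/
theorem solvable_closure_ppow_quot [Finite G] (N : Subgroup G) [N.Normal] (q : ℕ) (hq : q.Prime)
    (h : Group.IsSolvable ↥(Subgroup.closure {g : G | ∃ k : ℕ, orderOf g = q ^ k})) :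
    Group.IsSolvable ↥(Subgroup.closure {x : G ⧸ N | ∃ k : ℕ, orderOf x = q ^ k}) := by
  rw [closure_ppow_map N q hq]
  exact Group.isSolvable_of_surjective
    ((QuotientGroup.mk' N).subgroupMap_surjective
      (Subgroup.closure {g : G | ∃ k : ℕ, orderOf g = q ^ k}))

end Quot

section MinNormal

variable {G : Type*} [Group G] [Finite G]

/-- a nontrivial normal subgroup contains a minimal normal subgroup -/
theorem exists_min_normal_le81 (R : Subgroup G) (hR : R.Normal) (hR1 : R ≠ ⊥) :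
    ∃ N : Subgroup G, N.Normal ∧ N ≠ ⊥ ∧ N ≤ R ∧
      ∀ M : Subgroup G, M.Normal → M ≤ N → M = ⊥ ∨ M = N := by
  classical
  have hex : ∃ k : ℕ, ∃ M : Subgroup G, M.Normal ∧ M ≠ ⊥ ∧ M ≤ R ∧ Nat.card M = k :=
    ⟨_, R, hR, hR1, le_refl _, rfl⟩
  obtain ⟨N, hN, hN1, hNR, hk⟩ := Nat.find_spec hex
  refine ⟨N, hN, hN1, hNR, fun M hM hMN => ?_⟩
  by_cases hM1 : M = ⊥
  · exact Or.inl hM1
  · right
    have h1 : Nat.find hex ≤ Nat.card M := Nat.find_min' hex ⟨M, hM, hM1, hMN.trans hNR, rfl⟩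
    rw [← hk] at h1
    exact Subgroup.eq_of_le_of_card_ge hMN h1

/-- a solvable minimal normal subgroup is abelian -/
theorem abelian_of_min_normal_solvable (N : Subgroup G) (hN : N.Normal) (hN1 : N ≠ ⊥)
    (hmin : ∀ M : Subgroup G, M.Normal → M ≤ N → M = ⊥ ∨ M = N) (hs : Group.IsSolvable ↥N) :
    ∀ a ∈ N, ∀ b ∈ N, a * b = b * a := by
  have hc : (⁅N, N⁆ : Subgroup G).Normal := Subgroup.commutator_normal N N
  have hle : ⁅N, N⁆ ≤ N := Subgroup.commutator_le_self N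
  have hbot : ⁅N, N⁆ = ⊥ := by
    rcases hmin _ hc hle with h | h
    · exact h
    · exfalso
      have : Nontrivial ↥N := (Subgroup.nontrivial_iff_ne_bot N).2 hN1
      have h1 := Group.IsSolvable.commutator_lt_top_of_nontrivial ↥N
      have h2 : (commutator ↥N).map N.subtype = N := by
        rw [Subgroup.map_subtype_commutator, h]
      have h3 : commutator ↥N = ⊤ := by
        apply Subgroup.map_injective N.subtype_injective
        rw [h2, ← MonoidHom.range_eq_map, Subgroup.range_subtype]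
      exact h1.ne h3
  have h4 := Subgroup.commutator_eq_bot_iff_le_centralizer.1 hbot
  intro a ha b hb
  exact (Subgroup.mem_centralizer_iff.1 (h4 ha) b hb).symm

/-- an abelian minimal normal subgroup of order divisible by `p` has exponent `p` -/
theorem exp_of_min_normal_abelian (N : Subgroup G) (hN : N.Normal)
    (hmin : ∀ M : Subgroup G, M.Normal → M ≤ N → M = ⊥ ∨ M = N)
    (hab : ∀ a ∈ N, ∀ b ∈ N, a * b = b * a) (p : ℕ) [Fact p.Prime] (hp : p ∣ Nat.card N) :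
    ∀ n ∈ N, n ^ p = 1 := by
  let M : Subgroup G :=
    { carrier := {x | x ∈ N ∧ x ^ p = 1}
      mul_mem' := by
        rintro x y ⟨hx, hx1⟩ ⟨hy, hy1⟩
        refine ⟨N.mul_mem hx hy, ?_⟩
        have hc : Commute x y := hab x hx y hy
        rw [hc.mul_pow, hx1, hy1, one_mul]
      one_mem' := ⟨N.one_mem, one_pow _⟩
      inv_mem' := by
        rintro x ⟨hx, hx1⟩
        exact ⟨N.inv_mem hx, by rw [inv_pow, hx1, inv_one]⟩ }
  have hMn : M.Normal := by
    refine ⟨fun x hx g => ⟨hN.conj_mem x hx.1 g, ?_⟩⟩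
    rw [conj_pow, hx.2]
    group
  have hMN : M ≤ N := fun x hx => hx.1
  obtain ⟨x, hx⟩ := exists_prime_orderOf_dvd_card' (G := ↥N) p hp
  have hM1 : M ≠ ⊥ := by
    intro h
    have h1 : (x : G) ∈ M := ⟨x.2, by
      have := pow_orderOf_eq_one x
      rw [hx] at this
      exact_mod_cast congrArg Subtype.val this⟩
    rw [h, Subgroup.mem_bot] at h1
    have h2 : x = 1 := Subtype.ext h1
    rw [h2, orderOf_one] at hx
    exact (Fact.out : p.Prime).one_lt.ne hx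
  rcases hmin M hMn hMN with h | h
  · exact absurd h hM1
  · intro n hn
    have : n ∈ M := by rw [h]; exact hn
    exact this.2

end MinNormal

section Frattini

variable {G : Type*} [Group G] [Finite G]

/-- Frattini argument for a normal subgroup `W` that is a `p`-group modulo `N` -/
theorem frattini_sup81 (p : ℕ) [Fact p.Prime] (N W : Subgroup G) [hW : W.Normal] [hN : N.Normal]
    (hWp : ∀ w ∈ W, ∃ a : ℕ, w ^ (p ^ a) ∈ N) (S : Sylow p ↥W) :
    Subgroup.normalizer ((((S : Subgroup ↥W).map W.subtype : Subgroup G)) : Set G) ⊔ N = ⊤ := by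
  have hF := Sylow.normalizer_sup_eq_top S
  have hπ : Function.Surjective (QuotientGroup.mk' (N.subgroupOf W)) :=
    QuotientGroup.mk'_surjective _
  have hquot : IsPGroup p (↥W ⧸ N.subgroupOf W) := by
    intro q
    obtain ⟨w, rfl⟩ := QuotientGroup.mk_surjective q
    obtain ⟨a, ha⟩ := hWp w w.2
    refine ⟨a, ?_⟩
    rw [← QuotientGroup.mk_pow, QuotientGroup.eq_one_iff, Subgroup.mem_subgroupOf]
    exact_mod_cast ha
  have htop : (⊤ : Subgroup (↥W ⧸ N.subgroupOf W)) = ((S.mapSurjective hπ : Sylow p _) :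
      Subgroup (↥W ⧸ N.subgroupOf W)) :=
    (S.mapSurjective hπ).is_maximal' (hquot.to_subgroup ⊤) le_top
  have hWle : W ≤ ((S : Subgroup ↥W).map W.subtype : Subgroup G) ⊔ N := by
    intro w hw
    have h1 : (QuotientGroup.mk' (N.subgroupOf W)) ⟨w, hw⟩ ∈
        ((S.mapSurjective hπ : Sylow p _) : Subgroup (↥W ⧸ N.subgroupOf W)) := by
      rw [← htop]
      exact Subgroup.mem_top _
    rw [Sylow.coe_mapSurjective] at h1
    obtain ⟨s, hs, hs2⟩ := h1
    have h2 : s⁻¹ * ⟨w, hw⟩ ∈ N.subgroupOf W := QuotientGroup.eq.1 hs2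
    rw [Subgroup.mem_subgroupOf] at h2
    have h3 : w = (s : G) * ((s : G)⁻¹ * w) := by group
    rw [h3]
    exact Subgroup.mul_mem_sup (Subgroup.mem_map_of_mem W.subtype hs) (by simpa using h2)
  rw [eq_top_iff, ← hF]
  apply sup_le le_sup_left
  exact hWle.trans (sup_le (Subgroup.le_normalizer.trans le_sup_left) le_sup_right)

/-- a normal Sylow subgroup contains all `p`-elements -/
theorem mem_of_normal_sylow81 (p : ℕ) [Fact p.Prime] (W : Subgroup G) (S : Sylow p ↥W)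
    (hn : ((S : Subgroup ↥W).map W.subtype : Subgroup G).Normal) (w : G) (hw : w ∈ W) (k : ℕ)
    (hk : orderOf w = p ^ k) : w ∈ ((S : Subgroup ↥W).map W.subtype : Subgroup G) := by
  have hz : IsPGroup p (Subgroup.zpowers w) := by
    apply IsPGroup.of_card (n := k)
    rw [Nat.card_zpowers, hk]
  have hQ : IsPGroup p ((S : Subgroup ↥W).map W.subtype : Subgroup G) := S.isPGroup'.map _
  have hP₁ := hz.to_sup_of_normal_right hQ
  have h1 : (S : Subgroup ↥W) ≤
      (Subgroup.zpowers w ⊔ ((S : Subgroup ↥W).map W.subtype : Subgroup G)).subgroupOf W := by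
    intro s hs
    rw [Subgroup.mem_subgroupOf]
    exact le_sup_right (a := Subgroup.zpowers w) (Subgroup.mem_map_of_mem W.subtype hs)
  have h2 := S.is_maximal' hP₁.comap_subtype h1
  have h3 : (⟨w, hw⟩ : ↥W) ∈
      (Subgroup.zpowers w ⊔ ((S : Subgroup ↥W).map W.subtype : Subgroup G)).subgroupOf W := by
    rw [Subgroup.mem_subgroupOf]
    exact le_sup_left (b := ((S : Subgroup ↥W).map W.subtype : Subgroup G))
      (Subgroup.mem_zpowers w)
  have h4 : (⟨w, hw⟩ : ↥W) ∈ (S : Subgroup ↥W) := by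
    rw [← h2]
    exact h3
  exact ⟨⟨w, hw⟩, h4, rfl⟩

/-- a normal `p`-subgroup containing all `p`-elements of `U` gives normality of every Sylow
`p`-subgroup of `U` -/
theorem sylow_normal_of_contains81 (p : ℕ) [Fact p.Prime] (U Q₁ : Subgroup G) (hn : Q₁.Normal)
    (hp : IsPGroup p Q₁) (hall : ∀ u ∈ U, (∃ k : ℕ, orderOf u = p ^ k) → u ∈ Q₁)
    (Q : Sylow p ↥U) : (Q : Subgroup ↥U).Normal := by
  have h1 : (Q : Subgroup ↥U) ≤ Q₁.subgroupOf U := by
    intro x hx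
    rw [Subgroup.mem_subgroupOf]
    obtain ⟨k, hk⟩ := (IsPGroup.iff_orderOf.1 Q.isPGroup') ⟨x, hx⟩
    refine hall x x.2 ⟨k, ?_⟩
    rw [← hk, ← Subgroup.orderOf_coe, ← Subgroup.orderOf_coe]
  have h2 := Q.is_maximal' hp.comap_subtype h1
  rw [← h2]
  exact hn.subgroupOf U

end Frattini

end Cfsg.Agent.Lib.Helper81
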