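import Mathlib
import Cfsg.Prelude.Def_Blocks
import Cfsg.Agent.Lib.Helper81.OddIndex
import Cfsg.Agent.Lib.Helper81.GlaubAbove
import Cfsg.Agent.Lib.Helper81.SemiReal
import Cfsg.Agent.Lib.Helper81.RealPrimeGrp
import Cfsg.Agent.Lib.Helper80.CharKer

set_option autoImplicit false

/-!
Real irreducible characters of degree prime to `p` (Isaacs–Navarro): general lemmas.
-/

namespace Cfsg.Agent.Lib.Helper81

open scoped ComplexConjugate

universe u

/-- the number of real irreducible characters is the number of real classes -/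
theorem card_real_irr_eq_real_classes (G : Type*) [Group G] [Finite G] :
    Nat.card {χ : Cfsg.IrrCharacter G // ∀ g : G, ((χ : G → ℂ) g).im = 0} =
    Nat.card {C : ConjClasses G // ∃ g : G, ConjClasses.mk g = C ∧ IsConj g⁻¹ g} := by
  classical
  have := Fintype.ofFinite G
  let σ : Cfsg.IrrCharacter G → Cfsg.IrrCharacter G := fun χ =>
    ⟨fun g => conj ((χ : G → ℂ) g), Cfsg.Agent.Lib.Helper80.isIrrCharacter_conj χ.2⟩
  have hb := Cfsg.Agent.Lib.Helper74.brauer_perm_count σ (fun g => g⁻¹)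
    (fun χ g => (Cfsg.Agent.Lib.Helper3.isCharacter_inv
      (Cfsg.Agent.Lib.Helper80.isCharacter_of_isIrrCharacter χ.2) g).symm)
    (fun C => ∃ g : G, ConjClasses.mk g = C ∧ IsConj g⁻¹ g)
    (by
      intro g
      constructor
      · rintro ⟨g', hg', hc⟩
        rw [ConjClasses.mk_eq_mk_iff_isConj] at hg'
        have h1 : IsConj g⁻¹ g'⁻¹ := by
          obtain ⟨c, hc'⟩ := isConj_iff.1 hg'
          rw [isConj_iff]
          refine ⟨c⁻¹, ?_⟩
          rw [← hc']
          group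
        exact (h1.trans hc).trans hg'
      · intro h
        exact ⟨g, rfl, h⟩)
  have e1 : Nat.card {χ : Cfsg.IrrCharacter G // ∀ g : G, ((χ : G → ℂ) g).im = 0} =
      Nat.card {χ : Cfsg.IrrCharacter G // σ χ = χ} := by
    apply Nat.card_congr
    apply Equiv.subtypeEquivRight
    intro χ
    constructor
    · intro h
      apply Subtype.ext
      funext g
      exact Complex.conj_eq_iff_im.2 (h g)
    · intro h g
      have := congrFun (congrArg Subtype.val h) g
      exact Complex.conj_eq_iff_im.1 this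
  rw [e1, hb]

/-- Clifford: if the trivial character is a constituent of `χ_N`, then `N ≤ ker χ` -/
theorem ker_of_trivial_constituent {G : Type*} [Group G] [Fintype G] (N : Subgroup G)
    [N.Normal] [Fintype N] {χ : G → ℂ} (hχ : Cfsg.IsIrrCharacter G χ)
    (h : Cfsg.classInner (fun n : N => χ n) (fun _ => (1 : ℂ)) ≠ 0) :
    ∀ x ∈ N, χ x = χ 1 := by
  classical
  have : Fintype (Cfsg.IrrCharacter N) := Fintype.ofFinite _
  have hres : Cfsg.IsCharacter N (fun n : N => χ n) :=
    Helper80.isCharacter_comp N.subtype (Helper80.isCharacter_of_isIrrCharacter hχ)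
  obtain ⟨m, hm, hexp⟩ := Helper80.character_expansion hres
  have hone : Cfsg.IsIrrCharacter N (fun _ => (1 : ℂ)) := Helper80.isIrrCharacter_one
  have hzero : ∀ θ : Cfsg.IrrCharacter N, (θ : N → ℂ) ≠ (fun _ => (1 : ℂ)) → m θ = 0 := by
    intro θ hθ
    by_contra hne
    have h1 : Cfsg.classInner (fun n : N => χ n) (θ : N → ℂ) ≠ 0 := by
      rw [hm θ]
      exact_mod_cast hne
    obtain ⟨g, hg⟩ := Helper75.clifford_conj N hχ hone θ.2 h h1
    apply hθ
    rw [← hg]
    rfl
  have hval : ∀ n : N, χ n = (m ⟨_, hone⟩ : ℂ) := by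
    intro n
    have h1 := congrFun hexp n
    simp only [Finset.sum_apply, Pi.smul_apply, smul_eq_mul] at h1
    rw [h1, Finset.sum_eq_single ⟨_, hone⟩]
    · simp
    · intro θ _ hθ
      rw [hzero θ (fun h' => hθ (Subtype.ext h')), Nat.cast_zero, zero_mul]
    · intro h'
      exact absurd (Finset.mem_univ _) h'
  intro x hx
  have h1 := hval ⟨x, hx⟩
  have h2 := hval 1
  rw [h1]
  exact h2.symm

/-- **Counting real classes**: if all real irreducible characters of `G` contain `N` in their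
kernel and real classes of `G ⧸ N` lift to real classes of `G`, then `N` contains no
nontrivial real element. -/
theorem no_real_in_kernel {G : Type u} [Group G] [Finite G] (N : Subgroup G) [N.Normal]
    (hk : ∀ χ : Cfsg.IrrCharacter G, (∀ g : G, ((χ : G → ℂ) g).im = 0) →
      ∀ x ∈ N, (χ : G → ℂ) x = (χ : G → ℂ) 1)
    (hs : ∀ x : G, IsConj ((x : G ⧸ N))⁻¹ (x : G ⧸ N) →
      ∃ y : G, IsConj y⁻¹ y ∧ IsConj (y : G ⧸ N) (x : G ⧸ N))
    (n : G) (hn : n ∈ N) (hreal : IsConj n⁻¹ n) : n = 1 := by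
  classical
  have hA := card_real_irr_eq_real_classes G
  have hB := card_real_irr_eq_real_classes (G ⧸ N)
  -- injection on real characters
  let inj : {χ : Cfsg.IrrCharacter G // ∀ g : G, ((χ : G → ℂ) g).im = 0} →
      {ψ : Cfsg.IrrCharacter (G ⧸ N) // ∀ q : G ⧸ N, ((ψ : G ⧸ N → ℂ) q).im = 0} := fun χ =>
    ⟨(Helper80.irrQuotientEquiv N).symm ⟨χ.1, hk χ.1 χ.2⟩, by
      intro q
      obtain ⟨g, rfl⟩ := QuotientGroup.mk_surjective q
      rw [Helper80.irrQuotientEquiv_symm_apply]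
      exact χ.2 g⟩
  have hinj : Function.Injective inj := by
    intro a b hab
    have h1 := congrArg Subtype.val hab
    have h2 := (Helper80.irrQuotientEquiv N).symm.injective h1
    have h3 : a.1 = b.1 := Subtype.mk.inj h2
    exact Subtype.ext h3
  have hle1 := Nat.card_le_card_of_injective inj hinj
  -- surjection on real classes
  let f : {C : ConjClasses G // ∃ g : G, ConjClasses.mk g = C ∧ IsConj g⁻¹ g} →
      {C : ConjClasses (G ⧸ N) // ∃ g : G ⧸ N, ConjClasses.mk g = C ∧ IsConj g⁻¹ g} := fun C =>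
    ⟨ConjClasses.map (QuotientGroup.mk' N) C.1, by
      obtain ⟨g, hg, hc⟩ := C.2
      refine ⟨(g : G ⧸ N), ?_, ?_⟩
      · rw [← hg]
        rfl
      · have := (QuotientGroup.mk' N).map_isConj hc
        simpa using this⟩
  have hf : ∀ (g : G) (hg : IsConj g⁻¹ g),
      (f ⟨ConjClasses.mk g, ⟨g, rfl, hg⟩⟩).1 = ConjClasses.mk (g : G ⧸ N) := fun _ _ => rfl
  have hsurj : Function.Surjective f := by
    rintro ⟨C', g', rfl, hg'⟩
    obtain ⟨x, rfl⟩ := QuotientGroup.mk_surjective g'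
    obtain ⟨y, hy, hyx⟩ := hs x hg'
    refine ⟨⟨ConjClasses.mk y, ⟨y, rfl, hy⟩⟩, ?_⟩
    apply Subtype.ext
    rw [hf y hy]
    exact ConjClasses.mk_eq_mk_iff_isConj.2 hyx
  have hle2 := Nat.card_le_card_of_surjective f hsurj
  have hbij : Function.Bijective f := by
    apply hsurj.bijective_of_nat_card_le
    omega
  have h1 : f ⟨ConjClasses.mk n, ⟨n, rfl, hreal⟩⟩ = f ⟨ConjClasses.mk 1, ⟨1, rfl, by simp⟩⟩ := by
    apply Subtype.ext
    rw [hf n hreal, hf 1 (by simp)]
    rw [(QuotientGroup.eq_one_iff n).2 hn]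
    rfl
  have h2 := congrArg Subtype.val (hbij.1 h1)
  have h3 : IsConj n 1 := ConjClasses.mk_eq_mk_iff_isConj.1 h2
  exact isConj_one_left.1 h3

/-- if a `p`-subgroup `Q` acts without nontrivial fixed points on the normal `p'`-subgroup `N`,
then every irreducible character whose kernel does not contain `N` has degree divisible
by `p` -/
theorem dvd_degree_of_not_ker {G : Type u} [Group G] [Finite G] (N Q : Subgroup G) [hNn : N.Normal]
    (p : ℕ) (hp : p.Prime) (hQ : IsPGroup p Q) (hN : ¬ p ∣ Nat.card N)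
    (hfix : ∀ n ∈ N, (∀ x ∈ Q, x * n * x⁻¹ = n) → n = 1)
    (χ : Cfsg.IrrCharacter G) (hχ : ¬ ∀ x ∈ N, (χ : G → ℂ) x = (χ : G → ℂ) 1) :
    p ∣ Cfsg.charDegree (χ : G → ℂ) := by
  classical
  have := Fintype.ofFinite G
  have hAN : ∀ a ∈ Q.map (MulAut.conj : G →* MulAut G), ∀ g ∈ N, a g ∈ N := by
    rintro _ ⟨x, hx, rfl⟩ g hg
    rw [MulAut.conj_apply]
    exact hNn.conj_mem g hg x
  have hA : IsPGroup p (Q.map (MulAut.conj : G →* MulAut G)) := hQ.map _
  have hAp : IsPGroup p (resAut N (Q.map (MulAut.conj : G →* MulAut G)) hAN).range :=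
    hA.of_surjective (resAut N (Q.map (MulAut.conj : G →* MulAut G)) hAN).rangeRestrict
      (MonoidHom.rangeRestrict_surjective _)
  have : Fintype (N ⊓ fixSub (Q.map (MulAut.conj : G →* MulAut G)) : Subgroup G) :=
    Fintype.ofFinite _
  have gl := glaub_rel N (Q.map (MulAut.conj : G →* MulAut G)) hAN p hp hN hAp
  have hχc := Helper80.isCharacter_of_isIrrCharacter χ.2
  have hα : Cfsg.IsCharacter N (fun n : N => (χ : G → ℂ) n) :=
    Helper80.isCharacter_comp N.subtype hχc
  have hαinv : InvR (Q.map (MulAut.conj : G →* MulAut G)) N (fun n : N => (χ : G → ℂ) n) := by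
    rintro _ ⟨x, hx, rfl⟩ g h
    show (χ : G → ℂ) (MulAut.conj x (g : G)) = (χ : G → ℂ) g
    rw [MulAut.conj_apply]
    exact Helper80.char_conj_eq hχc _ _
  have hθ : Cfsg.IsIrrCharacter N (fun _ => (1 : ℂ)) := Helper80.isIrrCharacter_one
  have hθinv : InvR (Q.map (MulAut.conj : G →* MulAut G)) N (fun _ : N => (1 : ℂ)) :=
    fun _ _ _ _ => rfl
  have hθs : Cfsg.IsIrrCharacter (N ⊓ fixSub (Q.map (MulAut.conj : G →* MulAut G)) : Subgroup G)
      (fun _ => (1 : ℂ)) := Helper80.isIrrCharacter_one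
  have hm₁ : Cfsg.classInner (fun d : (N ⊓ fixSub (Q.map (MulAut.conj : G →* MulAut G)) :
      Subgroup G) => (fun _ : N => (1 : ℂ)) (Subgroup.inclusion inf_le_left d))
      (fun _ => (1 : ℂ)) = ((1 : ℕ) : ℂ) := by
    have := Helper80.classInner_self hθs
    rw [Nat.cast_one]
    exact this
  obtain ⟨x, a, hx, ha, hmod⟩ := mult_congr_below N (Q.map (MulAut.conj : G →* MulAut G)) hAN p hp
    hAp gl hα hαinv hθ hθinv hθs hm₁ (fun h => hp.one_lt.ne' (Nat.dvd_one.1 h))
  have ha0 : a = 0 := by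
    by_contra hne
    apply hχ
    apply ker_of_trivial_constituent N χ.2
    rw [ha]
    exact_mod_cast hne
  have hbot : (N ⊓ fixSub (Q.map (MulAut.conj : G →* MulAut G)) : Subgroup G) = ⊥ := by
    rw [eq_bot_iff]
    intro n hn
    rw [Subgroup.mem_bot]
    refine hfix n hn.1 (fun y hy => ?_)
    have := hn.2 (MulAut.conj y) (Subgroup.mem_map_of_mem _ hy)
    rwa [MulAut.conj_apply] at this
  have hsub : ∀ d : (N ⊓ fixSub (Q.map (MulAut.conj : G →* MulAut G)) : Subgroup G), d = 1 := by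
    intro d
    apply Subtype.ext
    exact (Subgroup.eq_bot_iff_forall _).1 hbot d d.2
  have hx2 : (x : ℂ) = (χ : G → ℂ) 1 := by
    rw [← hx]
    unfold Cfsg.classInner
    rw [Subgroup.card_eq_one.2 hbot, Finset.sum_eq_single 1]
    · simp
    · intro d _ hd
      exact absurd (hsub d) hd
    · intro h'
      exact absurd (Finset.mem_univ _) h'
  have hdeg : Cfsg.charDegree (χ : G → ℂ) = x := by
    unfold Cfsg.charDegree
    rw [← hx2]
    simp
  rw [hdeg]
  rw [ha0, zero_mul] at hmod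
  exact (Nat.modEq_zero_iff_dvd).1 hmod

/-- the hypothesis on real characters passes to quotients -/
theorem real_quot {G : Type u} [Group G] [Finite G] (N : Subgroup G) [N.Normal] (p : ℕ)
    (hreal : ∀ χ : Cfsg.IrrCharacter G, (∀ g : G, ((χ : G → ℂ) g).im = 0) →
      ¬ p ∣ Cfsg.charDegree (χ : G → ℂ)) :
    ∀ ψ : Cfsg.IrrCharacter (G ⧸ N), (∀ q : G ⧸ N, ((ψ : G ⧸ N → ℂ) q).im = 0) →
      ¬ p ∣ Cfsg.charDegree (ψ : G ⧸ N → ℂ) := by
  intro ψ hψ
  have h1 := hreal (Helper80.irrQuotientEquiv N ψ : Cfsg.IrrCharacter G) (fun g => by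
    rw [Helper80.irrQuotientEquiv_apply]
    exact hψ _)
  have h2 : Cfsg.charDegree ((Helper80.irrQuotientEquiv N ψ : Cfsg.IrrCharacter G) : G → ℂ) =
      Cfsg.charDegree (ψ : G ⧸ N → ℂ) := by
    unfold Cfsg.charDegree
    rw [Helper80.irrQuotientEquiv_apply]
    rfl
  rwa [h2] at h1

/-- the core case: `N` an abelian minimal normal `p'`-subgroup, `W / N` a `p`-group -/
theorem core_B2 {G : Type u} [Group G] [Finite G] (p : ℕ) [Fact p.Prime]
    (hreal : ∀ χ : Cfsg.IrrCharacter G, (∀ g : G, ((χ : G → ℂ) g).im = 0) →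
      ¬ p ∣ Cfsg.charDegree (χ : G → ℂ))
    (hstar : ∀ N₁ N₂ : Subgroup G, N₁.Normal → N₂.Normal → N₁ ≠ ⊥ → N₂ ≠ ⊥ → N₁ ⊓ N₂ ≠ ⊥)
    (N : Subgroup G) (hN : N.Normal) (hN1 : N ≠ ⊥)
    (hmin : ∀ M : Subgroup G, M.Normal → M ≤ N → M = ⊥ ∨ M = N)
    (hab : ∀ a ∈ N, ∀ b ∈ N, a * b = b * a) (hpN : ¬ p ∣ Nat.card N)
    (W : Subgroup G) (hW : W.Normal) (hWp : ∀ w ∈ W, ∃ a : ℕ, w ^ (p ^ a) ∈ N)
    (t : G) (ht : t * t = 1) (ht1 : t ≠ 1) :
    ∃ Q : Subgroup G, Q.Normal ∧ IsPGroup p Q ∧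
      ∀ w ∈ W, (∃ k : ℕ, orderOf w = p ^ k) → w ∈ Q := by
  classical
  obtain ⟨S⟩ : Nonempty (Sylow p ↥W) := inferInstance
  have hsup : Subgroup.normalizer ((((S : Subgroup ↥W).map W.subtype : Subgroup G)) : Set G) ⊔ N
      = ⊤ := frattini_sup81 p N W hWp S
  have hsup' : N ⊔ Subgroup.normalizer ((((S : Subgroup ↥W).map W.subtype : Subgroup G)) : Set G)
      = ⊤ := by
    rw [sup_comm]
    exact hsup
  have hQp : IsPGroup p ((S : Subgroup ↥W).map W.subtype : Subgroup G) := S.isPGroup'.map _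
  have hDn : (N ⊓ Subgroup.normalizer
      ((((S : Subgroup ↥W).map W.subtype : Subgroup G)) : Set G)).Normal := by
    apply normal_of_np N _ hsup'
    · intro n hn x hx
      have h1 : n * x * n⁻¹ = x := by
        rw [hab n hn x hx.1]
        group
      rw [h1]
      exact hx
    · intro h hh x hx
      exact ⟨hN.conj_mem x hx.1 h,
        Subgroup.mul_mem _ (Subgroup.mul_mem _ hh hx.2) (Subgroup.inv_mem _ hh)⟩
  rcases hmin _ hDn inf_le_left with hD | hD
  · exfalso
    have hfix : ∀ n ∈ N, (∀ x ∈ ((S : Subgroup ↥W).map W.subtype : Subgroup G),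
        x * n * x⁻¹ = n) → n = 1 := by
      intro n hn hcent
      have hnorm : n ∈ Subgroup.normalizer
          ((((S : Subgroup ↥W).map W.subtype : Subgroup G)) : Set G) := by
        apply Subgroup.centralizer_le_normalizer
        rw [Subgroup.mem_centralizer_iff]
        intro h hh
        have h1 := hcent h hh
        have h2 := congrArg (· * h) h1
        simpa [mul_assoc] using h2
      have h3 : n ∈ N ⊓ Subgroup.normalizer
          ((((S : Subgroup ↥W).map W.subtype : Subgroup G)) : Set G) := ⟨hn, hnorm⟩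
      rw [hD] at h3
      exact Subgroup.mem_bot.1 h3
    have hk : ∀ χ : Cfsg.IrrCharacter G, (∀ g : G, ((χ : G → ℂ) g).im = 0) →
        ∀ x ∈ N, (χ : G → ℂ) x = (χ : G → ℂ) 1 := by
      intro χ hχ
      by_contra hcon
      exact hreal χ hχ (dvd_degree_of_not_ker N _ p Fact.out hQp hpN hfix χ hcon)
    have hs := real_lift_of_complement N (Subgroup.normalizer
      ((((S : Subgroup ↥W).map W.subtype : Subgroup G)) : Set G)) hD hsup'
    have hnoreal := no_real_in_kernel N hk hs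
    have hCn : (Subgroup.normalizer ((((S : Subgroup ↥W).map W.subtype : Subgroup G)) : Set G) ⊓
        Subgroup.centralizer (N : Set G)).Normal := by
      apply normal_of_np N _ hsup'
      · intro n hn x hx
        have hxn : n * x = x * n := Subgroup.mem_centralizer_iff.1 hx.2 n hn
        have h1 : n * x * n⁻¹ = x := by
          rw [hxn]
          group
        rw [h1]
        exact hx
      · intro h hh x hx
        exact ⟨Subgroup.mul_mem _ (Subgroup.mul_mem _ hh hx.1) (Subgroup.inv_mem _ hh),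
          (Subgroup.normal_centralizer (H := N)).conj_mem x hx.2 h⟩
    have hCbot : Subgroup.normalizer ((((S : Subgroup ↥W).map W.subtype : Subgroup G)) : Set G) ⊓
        Subgroup.centralizer (N : Set G) = ⊥ := by
      by_contra hne
      apply hstar _ N hCn hN hne hN1
      rw [eq_bot_iff]
      intro x hx
      have h1 : x ∈ N ⊓ Subgroup.normalizer
          ((((S : Subgroup ↥W).map W.subtype : Subgroup G)) : Set G) := ⟨hx.2, hx.1.1⟩
      rw [hD] at h1
      exact h1
    have hex : (t ∈ N ∧ t ≠ 1) ∨ ∃ n ∈ N, t * n * t⁻¹ ≠ n := by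
      by_cases hc : ∃ n ∈ N, t * n * t⁻¹ ≠ n
      · exact Or.inr hc
      · left
        push Not at hc
        obtain ⟨n, hn, h, hh, rfl⟩ := exists_np N _ hsup' t
        have hcent : h ∈ Subgroup.centralizer (N : Set G) := by
          rw [Subgroup.mem_centralizer_iff]
          intro m hm
          have h1 := hc m hm
          have h2 : h * m * h⁻¹ = n⁻¹ * m * n := by
            calc h * m * h⁻¹ = n⁻¹ * (n * h * m * (n * h)⁻¹) * n := by group
              _ = n⁻¹ * m * n := by rw [h1]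
          have h3 : n⁻¹ * m * n = m := by
            rw [mul_assoc, hab m hm n hn, ← mul_assoc, inv_mul_cancel, one_mul]
          rw [h3] at h2
          have h4 := congrArg (· * h) h2
          simpa [mul_assoc] using h4.symm
        have hh1 : h = 1 := by
          have h5 : h ∈ Subgroup.normalizer
              ((((S : Subgroup ↥W).map W.subtype : Subgroup G)) : Set G) ⊓
              Subgroup.centralizer (N : Set G) := ⟨hh, hcent⟩
          rw [hCbot] at h5
          exact Subgroup.mem_bot.1 h5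
        rw [hh1, mul_one] at ht1 ⊢
        exact ⟨hn, ht1⟩
    obtain ⟨m, hm, hm1, hmreal⟩ := exists_real_of_involution N t ht hex
    exact hm1 (hnoreal m hm hmreal)
  · have hle : N ≤ Subgroup.normalizer
        ((((S : Subgroup ↥W).map W.subtype : Subgroup G)) : Set G) :=
      calc N = N ⊓ Subgroup.normalizer
              ((((S : Subgroup ↥W).map W.subtype : Subgroup G)) : Set G) := hD.symm
        _ ≤ _ := inf_le_right
    have htop : Subgroup.normalizer
        ((((S : Subgroup ↥W).map W.subtype : Subgroup G)) : Set G) = ⊤ := by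
      rw [eq_top_iff, ← hsup]
      exact sup_le le_rfl hle
    have hQn : ((S : Subgroup ↥W).map W.subtype : Subgroup G).Normal :=
      Subgroup.normalizer_eq_top_iff.1 htop
    exact ⟨_, hQn, hQp, fun w hw ⟨k, hk⟩ => mem_of_normal_sylow81 p W S hQn w hw k hk⟩

/-- **Isaacs–Navarro**, generalized form, by induction on the group order. -/
theorem real_pprime_aux (p : ℕ) [hp : Fact p.Prime] : ∀ (n : ℕ) (G : Type u) [Group G] [Finite G],
    Nat.card G ≤ n →
    Group.IsSolvable ↥(Subgroup.closure {g : G | ∃ k : ℕ, orderOf g = p ^ k}) →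
    (∀ χ : Cfsg.IrrCharacter G, (∀ g : G, ((χ : G → ℂ) g).im = 0) →
      ¬ p ∣ Cfsg.charDegree (χ : G → ℂ)) →
    ∀ U : Subgroup G, U.Normal →
    Subgroup.closure {g : G | ∃ k : ℕ, orderOf g = 2 ^ k} ≤ U →
    (∀ u ∈ U, ∃ k : ℕ, u ^ (p ^ k) ∈ Subgroup.closure {g : G | ∃ k : ℕ, orderOf g = 2 ^ k}) →
    ∃ Q : Subgroup G, Q.Normal ∧ IsPGroup p Q ∧
      ∀ u ∈ U, (∃ k : ℕ, orderOf u = p ^ k) → u ∈ Q := by
  intro n
  induction n with
  | zero =>
    intro G _ _ hcard
    have := Nat.card_pos (α := G)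
    omega
  | succ n ih =>
    intro G _ _ hcard hsolv hreal U hU hKU hUp
    classical
    have hquot : ∀ N : Subgroup G, N.Normal → N ≠ ⊥ → ∃ W : Subgroup G, W.Normal ∧
        (∀ w ∈ W, ∃ a : ℕ, w ^ (p ^ a) ∈ N) ∧
        ∀ u ∈ U, (∃ k : ℕ, orderOf u = p ^ k) → u ∈ W := by
      intro N hN hN1
      have hc : Nat.card (G ⧸ N) ≤ n := by
        have h1 : Nat.card G = Nat.card (G ⧸ N) * Nat.card N :=
          Subgroup.card_eq_card_quotient_mul_card_subgroup N
        have h2 : 1 < Nat.card N := (Subgroup.one_lt_card_iff_ne_bot N).2 hN1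
        have h3 : 0 < Nat.card (G ⧸ N) := Nat.card_pos
        nlinarith
      have hK' : Subgroup.closure {x : G ⧸ N | ∃ k : ℕ, orderOf x = 2 ^ k} ≤
          U.map (QuotientGroup.mk' N) := by
        rw [closure_ppow_map N 2 Nat.prime_two]
        exact Subgroup.map_mono hKU
      have hUp' : ∀ u ∈ U.map (QuotientGroup.mk' N), ∃ k : ℕ,
          u ^ (p ^ k) ∈ Subgroup.closure {x : G ⧸ N | ∃ k : ℕ, orderOf x = 2 ^ k} := by
        rintro _ ⟨u, hu, rfl⟩
        obtain ⟨k, hk⟩ := hUp u hu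
        refine ⟨k, ?_⟩
        rw [closure_ppow_map N 2 Nat.prime_two, ← map_pow]
        exact Subgroup.mem_map_of_mem _ hk
      obtain ⟨Q', hQ'n, hQ'p, hQ'⟩ := ih (G ⧸ N) hc
        (solvable_closure_ppow_quot N p hp.out hsolv) (real_quot N p hreal)
        (U.map (QuotientGroup.mk' N)) (hU.map _ (QuotientGroup.mk'_surjective N)) hK' hUp'
      refine ⟨Q'.comap (QuotientGroup.mk' N), hQ'n.comap _, ?_, ?_⟩
      · intro w hw
        obtain ⟨a, ha⟩ := hQ'p ⟨QuotientGroup.mk' N w, hw⟩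
        refine ⟨a, ?_⟩
        have h1 : (QuotientGroup.mk' N w) ^ (p ^ a) = 1 := congrArg Subtype.val ha
        rw [← map_pow] at h1
        exact (QuotientGroup.eq_one_iff _).1 h1
      · rintro u hu ⟨k, hk⟩
        show QuotientGroup.mk' N u ∈ Q'
        apply hQ' _ (Subgroup.mem_map_of_mem _ hu)
        have h1 : orderOf (QuotientGroup.mk' N u) ∣ p ^ k := by
          rw [← hk]
          exact orderOf_map_dvd _ u
        obtain ⟨a, -, ha⟩ := (Nat.dvd_prime_pow hp.out).mp h1
        exact ⟨a, ha⟩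
    by_cases hK : Subgroup.closure {g : G | ∃ k : ℕ, orderOf g = 2 ^ k} = ⊥
    · refine ⟨U, hU, ?_, fun u hu _ => hu⟩
      rintro ⟨u, hu⟩
      obtain ⟨k, hk⟩ := hUp u hu
      rw [hK, Subgroup.mem_bot] at hk
      exact ⟨k, Subtype.ext hk⟩
    by_cases hR : Subgroup.closure {g : G | ∃ k : ℕ, orderOf g = p ^ k} = ⊥
    · refine ⟨⊥, Subgroup.normal_bot, IsPGroup.of_bot, fun u _ hu => ?_⟩
      rw [← hR]
      exact Subgroup.subset_closure hu
    obtain ⟨t, ht, ht1⟩ : ∃ t : G, t * t = 1 ∧ t ≠ 1 := by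
      have hex : ∃ g : G, (∃ k : ℕ, orderOf g = 2 ^ k) ∧ g ≠ 1 := by
        by_contra hcon
        push Not at hcon
        apply hK
        rw [eq_bot_iff, Subgroup.closure_le]
        intro g hg
        exact Subgroup.mem_bot.2 (hcon g hg)
      obtain ⟨g, ⟨k, hk⟩, hg1⟩ := hex
      have hk0 : k ≠ 0 := by
        rintro rfl
        rw [pow_zero, orderOf_eq_one_iff] at hk
        exact hg1 hk
      obtain ⟨j, rfl⟩ := Nat.exists_eq_succ_of_ne_zero hk0
      refine ⟨g ^ (2 ^ j), ?_, ?_⟩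
      · rw [← pow_add, ← two_mul, ← pow_succ', ← hk, pow_orderOf_eq_one]
      · intro h
        have h1 := orderOf_dvd_of_pow_eq_one h
        rw [hk] at h1
        have h2 := Nat.le_of_dvd (by positivity) h1
        have h3 : 2 ^ j < 2 ^ (j + 1) := Nat.pow_lt_pow_right (by norm_num) (Nat.lt_succ_self j)
        omega
    by_cases hstar : ∃ N₁ N₂ : Subgroup G, N₁.Normal ∧ N₂.Normal ∧ N₁ ≠ ⊥ ∧ N₂ ≠ ⊥ ∧
        N₁ ⊓ N₂ = ⊥
    · obtain ⟨N₁, N₂, hn1, hn2, h1, h2, hinf⟩ := hstar
      obtain ⟨W₁, hW₁n, hW₁p, hW₁⟩ := hquot N₁ hn1 h1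
      obtain ⟨W₂, hW₂n, hW₂p, hW₂⟩ := hquot N₂ hn2 h2
      refine ⟨W₁ ⊓ W₂, Subgroup.normal_inf_normal W₁ W₂, ?_,
        fun u hu hk => ⟨hW₁ u hu hk, hW₂ u hu hk⟩⟩
      rintro ⟨g, hg⟩
      obtain ⟨a, ha⟩ := hW₁p g hg.1
      obtain ⟨b, hb⟩ := hW₂p g hg.2
      refine ⟨a + b, Subtype.ext ?_⟩
      show g ^ (p ^ (a + b)) = 1
      have h3 : g ^ (p ^ (a + b)) ∈ N₁ ⊓ N₂ := by
        constructor
        · rw [pow_add, pow_mul]
          exact N₁.pow_mem ha _
        · rw [pow_add, mul_comm, pow_mul]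
          exact N₂.pow_mem hb _
      rw [hinf] at h3
      exact Subgroup.mem_bot.1 h3
    · have hstar' : ∀ N₁ N₂ : Subgroup G, N₁.Normal → N₂.Normal → N₁ ≠ ⊥ → N₂ ≠ ⊥ →
          N₁ ⊓ N₂ ≠ ⊥ := by
        intro N₁ N₂ a b c d e
        exact hstar ⟨N₁, N₂, a, b, c, d, e⟩
      obtain ⟨N, hN, hN1, hNR, hmin⟩ :=
        exists_min_normal_le81 _ (normal_closure_ppow G p) hR
      have hNs : Group.IsSolvable ↥N :=
        Group.isSolvable_of_isSolvable_injective (Subgroup.inclusion_injective hNR)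
      have hab := abelian_of_min_normal_solvable N hN hN1 hmin hNs
      obtain ⟨W, hWn, hWp, hWall⟩ := hquot N hN hN1
      by_cases hpN : p ∣ Nat.card N
      · have hexp := exp_of_min_normal_abelian N hN hmin hab p hpN
        refine ⟨W, hWn, ?_, hWall⟩
        rintro ⟨w, hw⟩
        obtain ⟨a, ha⟩ := hWp w hw
        refine ⟨a + 1, Subtype.ext ?_⟩
        show w ^ (p ^ (a + 1)) = 1
        rw [pow_succ, pow_mul]
        exact hexp _ ha
      · obtain ⟨Q, hQn, hQp, hQall⟩ :=
          core_B2 p hreal hstar' N hN hN1 hmin hab hpN W hWn hWp t ht ht1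
        exact ⟨Q, hQn, hQp, fun u hu hk => hQall u (hWall u hu hk) hk⟩

/-- **Isaacs–Navarro**: if `O^{p'}(G)` is solvable and all real irreducible characters of `G`
have degree prime to `p`, then for every normal subgroup `U ≥ O^{2'}(G)` with `U / O^{2'}(G)`
a `p`-group, the `p`-elements of `U` lie in a normal `p`-subgroup of `G`. -/
theorem real_pprime (p : ℕ) [Fact p.Prime] {G : Type u} [Group G] [Finite G]
    (hsolv : Group.IsSolvable ↥(Subgroup.closure {g : G | ∃ k : ℕ, orderOf g = p ^ k}))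
    (hreal : ∀ χ : Cfsg.IrrCharacter G, (∀ g : G, ((χ : G → ℂ) g).im = 0) →
      ¬ p ∣ Cfsg.charDegree (χ : G → ℂ))
    (U : Subgroup G) (hU : U.Normal)
    (hKU : Subgroup.closure {g : G | ∃ k : ℕ, orderOf g = 2 ^ k} ≤ U)
    (hUp : ∀ u ∈ U, ∃ k : ℕ,
      u ^ (p ^ k) ∈ Subgroup.closure {g : G | ∃ k : ℕ, orderOf g = 2 ^ k}) :
    ∃ Q : Subgroup G, Q.Normal ∧ IsPGroup p Q ∧
      ∀ u ∈ U, (∃ k : ℕ, orderOf u = p ^ k) → u ∈ Q :=
  real_pprime_aux p (Nat.card G) G le_rfl hsolv hreal U hU hKU hUp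

/-- an irreducible character of degree prime to `p` contains in its kernel every normal
subgroup inside the derived subgroup of a Sylow `p`-subgroup -/
theorem ker_of_pprime_degree {G : Type u} [Group G] [Finite G] (p : ℕ) [Fact p.Prime]
    (P : Sylow p G) (M : Subgroup G) [M.Normal]
    (hMP : M ≤ ⁅(P : Subgroup G), (P : Subgroup G)⁆)
    (χ : Cfsg.IrrCharacter G) (hχ : ¬ p ∣ Cfsg.charDegree (χ : G → ℂ)) :
    ∀ x ∈ M, (χ : G → ℂ) x = (χ : G → ℂ) 1 := by
  classical
  have := Fintype.ofFinite G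
  have : Fintype (Cfsg.IrrCharacter (P : Subgroup G)) := Fintype.ofFinite _
  have hχc := Helper80.isCharacter_of_isIrrCharacter χ.2
  have hres : Cfsg.IsCharacter (P : Subgroup G) (fun x : (P : Subgroup G) => (χ : G → ℂ) x) :=
    Helper80.isCharacter_comp (P : Subgroup G).subtype hχc
  obtain ⟨m, hm, hexp⟩ := Helper80.character_expansion hres
  have hdeg := Helper80.charDegree_eq_sum hres m hexp
  have hdeg' : Cfsg.charDegree (fun x : (P : Subgroup G) => (χ : G → ℂ) x) =
      Cfsg.charDegree (χ : G → ℂ) := rfl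
  have hex : ∃ μ : Cfsg.IrrCharacter (P : Subgroup G),
      ¬ p ∣ m μ * Cfsg.charDegree (μ : ↥(P : Subgroup G) → ℂ) := by
    by_contra hcon
    push Not at hcon
    apply hχ
    rw [← hdeg', hdeg]
    exact Finset.dvd_sum (fun μ _ => hcon μ)
  obtain ⟨μ, hμ⟩ := hex
  have hm0 : m μ ≠ 0 := by
    intro h
    apply hμ
    rw [h, zero_mul]
    exact dvd_zero p
  have hd1 : Cfsg.charDegree (μ : ↥(P : Subgroup G) → ℂ) = 1 := by
    have h1 : Cfsg.charDegree (μ : ↥(P : Subgroup G) → ℂ) ∣ Nat.card (P : Subgroup G) :=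
      Helper80.charDegree_dvd_card μ.2
    obtain ⟨k, hk⟩ := IsPGroup.iff_card.1 P.isPGroup'
    rw [hk] at h1
    obtain ⟨a, -, ha⟩ := (Nat.dvd_prime_pow Fact.out).1 h1
    rcases Nat.eq_zero_or_pos a with rfl | hpos
    · simpa using ha
    · exfalso
      apply hμ
      rw [ha]
      exact Dvd.dvd.mul_left (dvd_pow_self p hpos.ne') _
  have hMle : M ≤ (P : Subgroup G) := hMP.trans (Subgroup.commutator_le_self _)
  have hμM : ∀ x : M, (μ : ↥(P : Subgroup G) → ℂ) (Subgroup.inclusion hMle x) = 1 := by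
    intro x
    have hx : (x : G) ∈ (commutator (P : Subgroup G)).map (P : Subgroup G).subtype := by
      rw [Subgroup.map_subtype_commutator]
      exact hMP x.2
    obtain ⟨y, hy, hyx⟩ := hx
    have h1 : Subgroup.inclusion hMle x = y := Subtype.ext hyx.symm
    rw [h1]
    exact linear_trivial_on (Helper80.isCharacter_of_isIrrCharacter μ.2) (linear_one μ hd1) hy
  have : Fintype M := Fintype.ofFinite _
  apply ker_of_trivial_constituent M χ.2
  have hd : ∀ ν : Cfsg.IrrCharacter (P : Subgroup G), ∃ d : ℕ,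
      Cfsg.classInner (fun x : M => (ν : ↥(P : Subgroup G) → ℂ) (Subgroup.inclusion hMle x))
        (fun _ => (1 : ℂ)) = (d : ℂ) :=
    fun ν => Helper80.classInner_nat (Helper80.isCharacter_comp (Subgroup.inclusion hMle)
      (Helper80.isCharacter_of_isIrrCharacter ν.2))
      (Helper80.isCharacter_of_isIrrCharacter Helper80.isIrrCharacter_one)
  choose dd hdd using hd
  have hx : Cfsg.classInner (fun n : M => (χ : G → ℂ) n) (fun _ => (1 : ℂ)) =
      ((∑ ν : Cfsg.IrrCharacter (P : Subgroup G), m ν * dd ν : ℕ) : ℂ) := by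
    have h4 : (fun n : M => (χ : G → ℂ) n) = ∑ ν : Cfsg.IrrCharacter (P : Subgroup G),
        (m ν : ℂ) • (fun x : M => (ν : ↥(P : Subgroup G) → ℂ) (Subgroup.inclusion hMle x)) := by
      funext x
      have h5 := congrFun hexp (Subgroup.inclusion hMle x)
      simp only [Finset.sum_apply, Pi.smul_apply] at h5 ⊢
      exact h5
    rw [h4, Helper80.classInner_sum_left]
    push_cast
    refine Finset.sum_congr rfl (fun ν _ => ?_)
    rw [Helper80.classInner_smul_left, hdd ν]
  rw [hx]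
  have hddμ : dd μ = 1 := by
    have h1 := hdd μ
    have h2 : (fun x : M => (μ : ↥(P : Subgroup G) → ℂ) (Subgroup.inclusion hMle x)) =
        fun _ => (1 : ℂ) := funext (fun x => hμM x)
    rw [h2, Helper80.classInner_self Helper80.isIrrCharacter_one] at h1
    exact_mod_cast h1.symm
  have hpos : 0 < ∑ ν : Cfsg.IrrCharacter (P : Subgroup G), m ν * dd ν := by
    apply Finset.sum_pos' (fun _ _ => Nat.zero_le _) ⟨μ, Finset.mem_univ _, ?_⟩
    rw [hddμ]
    omega
  exact_mod_cast hpos.ne'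

/-- **Isaacs–Navarro**: `O^{2'}(G)` centralizes every normal subgroup contained in the derived
subgroup of a Sylow `p`-subgroup (`p` odd), when all real irreducible characters have
degree prime to `p`. -/
theorem centralizes_of_real_pprime {G : Type u} [Group G] [Finite G] (p : ℕ) [Fact p.Prime]
    (hp2 : p ≠ 2)
    (hreal : ∀ χ : Cfsg.IrrCharacter G, (∀ g : G, ((χ : G → ℂ) g).im = 0) →
      ¬ p ∣ Cfsg.charDegree (χ : G → ℂ))
    (P : Sylow p G) (M : Subgroup G) (hM : M.Normal)
    (hMP : M ≤ ⁅(P : Subgroup G), (P : Subgroup G)⁆) :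
    Subgroup.closure {g : G | ∃ k : ℕ, orderOf g = 2 ^ k} ≤ Subgroup.centralizer (M : Set G) := by
  have hMle : M ≤ (P : Subgroup G) := hMP.trans (Subgroup.commutator_le_self _)
  have hodd : Odd (Nat.card M) := by
    have hMp : IsPGroup p M := P.isPGroup'.to_le hMle
    obtain ⟨k, hk⟩ := IsPGroup.iff_card.1 hMp
    rw [hk]
    exact Odd.pow ((Fact.out : p.Prime).odd_of_ne_two hp2)
  have hk : ∀ χ : Cfsg.IrrCharacter G, (∀ g : G, ((χ : G → ℂ) g).im = 0) →
      ∀ x ∈ M, (χ : G → ℂ) x = (χ : G → ℂ) 1 :=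
    fun χ hχ => ker_of_pprime_degree p P M hMP χ (hreal χ hχ)
  have hs := real_lift_of_odd M hodd
  have hnoreal := no_real_in_kernel M hk hs
  have key : ∀ r : G, (∀ m ∈ M, (r * r) * m = m * (r * r)) → ∀ m ∈ M, r * m = m * r := by
    intro r hr m hm
    by_contra hne
    have hne' : r * m * r⁻¹ ≠ m := by
      intro h
      apply hne
      calc r * m = r * m * r⁻¹ * r := by group
        _ = m * r := by rw [h]
    obtain ⟨c, hc, hc1, hcreal⟩ := exists_real_of_sq_centralizes M r hr m hm hne'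
    exact hc1 (hnoreal c hc hcreal)
  have key2 : ∀ (k : ℕ) (t : G), (∀ m ∈ M, t ^ (2 ^ k) * m = m * t ^ (2 ^ k)) →
      ∀ m ∈ M, t * m = m * t := by
    intro k
    induction k with
    | zero =>
      intro t h
      simpa using h
    | succ k ih =>
      intro t h
      apply key
      apply ih (t * t)
      intro m hm
      have e : (t * t) ^ (2 ^ k) = t ^ (2 ^ (k + 1)) := by
        rw [← pow_two, ← pow_mul, ← pow_succ']
      rw [e]
      exact h m hm
  rw [Subgroup.closure_le]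
  rintro t ⟨k, hk⟩
  rw [SetLike.mem_coe, Subgroup.mem_centralizer_iff]
  intro m hm
  have h1 := key2 k t (fun m' _ => by rw [← hk, pow_orderOf_eq_one, one_mul, mul_one]) m hm
  exact h1.symm

end Cfsg.Agent.Lib.Helper81
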