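import Mathlib
import Cfsg.Prelude.Def_Characters
import Cfsg.Agent.Lib.Helper3.CharCore
import Cfsg.Agent.Lib.Helper3.CharRegular
import Cfsg.Agent.Lib.Helper75.CharDecomp
import Cfsg.Agent.Lib.Helper80.CharKer
import Cfsg.Agent.Lib.Helper80.CharOps
import Cfsg.Agent.Lib.Helper80.Orthogonality

set_option autoImplicit false
set_option linter.unusedSectionVars false
set_option linter.style.haveILetI false

namespace Cfsg.Agent.Lib.Helper81

open scoped ComplexConjugate
open Cfsg.Agent.Lib.Helper3 (isCharacter_of_irr isClassFunction_of_isCharacter)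

universe u

section PiChar

variable {ι : Type u} [Fintype ι]

/-- the inner product of product functions on a (dependent) product of groups factorizes -/
theorem classInner_pi {K : ι → Type u} [∀ i, Group (K i)] [∀ i, Fintype (K i)]
    [hF : Fintype (∀ i, K i)] (a b : ∀ i, K i → ℂ) :
    Cfsg.classInner (fun f : (∀ i, K i) => ∏ i, a i (f i)) (fun f => ∏ i, b i (f i)) =
      ∏ i, Cfsg.classInner (a i) (b i) := by
  classical
  obtain rfl : hF = Pi.instFintype := Subsingleton.elim _ _
  unfold Cfsg.classInner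
  rw [Nat.card_pi]
  have h1 : ∑ f : (∀ i, K i), (∏ i, a i (f i)) * conj (∏ i, b i (f i)) =
      ∏ i, ∑ k : K i, a i k * conj (b i k) := by
    rw [Finset.prod_univ_sum, Fintype.piFinset_univ]
    refine Finset.sum_congr rfl (fun f _ => ?_)
    rw [map_prod, Finset.prod_mul_distrib]
  rw [h1]
  push_cast
  rw [← Finset.prod_inv_distrib, ← Finset.prod_mul_distrib]

variable {M : Type u} [Group M]

/-- the product function `f ↦ ∏ i, Θ i (f i)` on a power of a group -/
def prodChar (Θ : ι → M → ℂ) : (ι → M) → ℂ := fun f => ∏ i, Θ i (f i)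

theorem prodChar_apply (Θ : ι → M → ℂ) (f : ι → M) : prodChar Θ f = ∏ i, Θ i (f i) := rfl

theorem isCharacter_prodChar (Θ : ι → M → ℂ) (hΘ : ∀ i, Cfsg.IsCharacter M (Θ i)) :
    Cfsg.IsCharacter (ι → M) (prodChar Θ) := by
  classical
  have key : ∀ s : Finset ι, Cfsg.IsCharacter (ι → M) (fun f => ∏ i ∈ s, Θ i (f i)) := by
    intro s
    induction s using Finset.induction_on with
    | empty =>
      simp only [Finset.prod_empty]
      exact Helper80.isCharacter_one
    | insert a s ha ih =>
      have h1 : Cfsg.IsCharacter (ι → M) (fun f => Θ a (f a)) :=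
        Helper80.isCharacter_comp (Pi.evalMonoidHom (fun _ : ι => M) a) (hΘ a)
      have h2 := Helper80.isCharacter_mul h1 ih
      have h3 : (fun f : ι → M => ∏ i ∈ insert a s, Θ i (f i)) =
          (fun f => Θ a (f a)) * (fun f => ∏ i ∈ s, Θ i (f i)) := by
        funext f
        rw [Finset.prod_insert ha]
        rfl
      rw [h3]
      exact h2
  exact key Finset.univ

variable [Fintype M]

theorem classInner_prodChar [Fintype (ι → M)] (Θ Θ' : ι → M → ℂ) :
    Cfsg.classInner (prodChar Θ) (prodChar Θ') = ∏ i, Cfsg.classInner (Θ i) (Θ' i) :=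
  classInner_pi (K := fun _ : ι => M) Θ Θ'

theorem isIrrCharacter_prodChar [Fintype (ι → M)] (Θ : ι → M → ℂ)
    (hΘ : ∀ i, Cfsg.IsIrrCharacter M (Θ i)) :
    Cfsg.IsIrrCharacter (ι → M) (prodChar Θ) := by
  classical
  have : Fintype (Cfsg.IrrCharacter (ι → M)) := Fintype.ofFinite _
  apply Helper75.isIrrCharacter_of_classInner_self
    (isCharacter_prodChar Θ (fun i => isCharacter_of_irr (hΘ i)))
  rw [classInner_prodChar]
  apply Finset.prod_eq_one
  intro i _
  exact Helper80.classInner_self (hΘ i)

/-- product characters of families of irreducible characters determine the family -/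
theorem prodChar_injective [Fintype (ι → M)] {Θ Θ' : ι → M → ℂ}
    (hΘ : ∀ i, Cfsg.IsIrrCharacter M (Θ i)) (hΘ' : ∀ i, Cfsg.IsIrrCharacter M (Θ' i))
    (h : prodChar Θ = prodChar Θ') : Θ = Θ' := by
  classical
  have h1 : Cfsg.classInner (prodChar Θ) (prodChar Θ') = 1 := by
    rw [← h]
    exact Helper80.classInner_self (isIrrCharacter_prodChar Θ hΘ)
  rw [classInner_prodChar] at h1
  funext i
  by_contra hne
  have h2 : Cfsg.classInner (Θ i) (Θ' i) = 0 := by
    rw [Helper80.classInner_irr_fun (hΘ i) (hΘ' i), if_neg hne]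
  rw [Finset.prod_eq_zero (Finset.mem_univ i) h2] at h1
  exact zero_ne_one h1

/-- every irreducible character of a power of a group is a product character -/
theorem exists_prodChar [Fintype (ι → M)] {β : (ι → M) → ℂ}
    (hβ : Cfsg.IsIrrCharacter (ι → M) β) :
    ∃ Θ : ι → M → ℂ, (∀ i, Cfsg.IsIrrCharacter M (Θ i)) ∧ β = prodChar Θ := by
  classical
  have : Fintype (Cfsg.IrrCharacter M) := Fintype.ofFinite _
  by_contra hcon
  push Not at hcon
  -- all product characters are orthogonal to β
  have horth : ∀ T : ι → Cfsg.IrrCharacter M,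
      Cfsg.classInner (prodChar (fun i => ((T i : Cfsg.IrrCharacter M) : M → ℂ))) β = 0 := by
    intro T
    rw [Helper80.classInner_irr_fun (isIrrCharacter_prodChar _ (fun i => (T i).2)) hβ]
    rw [if_neg]
    intro heq
    exact hcon _ (fun i => (T i).2) heq.symm
  -- the regular character of the power
  have hreg : ∀ f : ι → M, (∏ i, (if f i = 1 then (Nat.card M : ℂ) else 0)) =
      ∑ T : ι → Cfsg.IrrCharacter M, (∏ i, ((T i : Cfsg.IrrCharacter M) : M → ℂ) 1) *
        prodChar (fun i => ((T i : Cfsg.IrrCharacter M) : M → ℂ)) f := by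
    intro f
    have h1 : ∀ i, (if f i = 1 then (Nat.card M : ℂ) else 0) =
        ∑ χ : Cfsg.IrrCharacter M, (χ : M → ℂ) 1 * (χ : M → ℂ) (f i) := fun i =>
      Helper3.regular_expansion (f i)
    simp only [h1]
    rw [Finset.prod_univ_sum, Fintype.piFinset_univ]
    refine Finset.sum_congr rfl (fun T _ => ?_)
    rw [prodChar_apply, Finset.prod_mul_distrib]
  have hsum : Cfsg.classInner (fun f : ι → M => ∏ i, (if f i = 1 then (Nat.card M : ℂ) else 0)) β
      = 0 := by
    have h2 : (fun f : ι → M => ∏ i, (if f i = 1 then (Nat.card M : ℂ) else 0)) =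
        ∑ T : ι → Cfsg.IrrCharacter M, (∏ i, ((T i : Cfsg.IrrCharacter M) : M → ℂ) 1) •
          prodChar (fun i => ((T i : Cfsg.IrrCharacter M) : M → ℂ)) := by
      funext f
      rw [hreg f, Finset.sum_apply]
      rfl
    rw [h2, Helper75.classInner_sum_left]
    apply Finset.sum_eq_zero
    intro T _
    rw [Helper75.classInner_smul_left, horth T, mul_zero]
  -- but the regular character has nonzero inner product with β
  unfold Cfsg.classInner at hsum
  rw [Finset.sum_eq_single (1 : ι → M)] at hsum
  · have h3 : (∏ i : ι, (if (1 : ι → M) i = 1 then (Nat.card M : ℂ) else 0)) ≠ 0 := by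
      apply Finset.prod_ne_zero_iff.mpr
      intro i _
      rw [Pi.one_apply, if_pos rfl]
      exact_mod_cast (Nat.card_pos (α := M)).ne'
    have h4 : β 1 ≠ 0 := Helper80.char_one_ne_zero hβ
    have h5 : (Nat.card (ι → M) : ℂ)⁻¹ ≠ 0 :=
      inv_ne_zero (by exact_mod_cast (Nat.card_pos (α := (ι → M))).ne')
    rcases mul_eq_zero.mp hsum with h | h
    · exact h5 h
    · rcases mul_eq_zero.mp h with h | h
      · exact h3 h
      · exact h4 ((map_eq_zero _).mp h)
  · intro f _ hf
    have : ∃ i, f i ≠ 1 := by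
      by_contra hall
      push Not at hall
      exact hf (funext hall)
    obtain ⟨i, hi⟩ := this
    show (∏ i, if f i = 1 then (Nat.card M : ℂ) else 0) * conj (β f) = 0
    have h0 : (∏ i, if f i = 1 then (Nat.card M : ℂ) else 0) = 0 :=
      Finset.prod_eq_zero (Finset.mem_univ i) (by rw [if_neg hi])
    rw [h0, zero_mul]
  · intro h
    exact absurd (Finset.mem_univ _) h

end PiChar

end Cfsg.Agent.Lib.Helper81
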