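import Mathlib
import Cfsg.Prelude.Def_Characters
import Cfsg.Prelude.Def_Blocks
import Cfsg.Agent.Lib.Helper81.PiChar
import Cfsg.Agent.Lib.Helper75.CharInd
import Cfsg.Agent.Lib.Helper75.CliffordCorr
import Cfsg.Agent.Lib.Helper15.LinChar
import Cfsg.Agent.Lib.Helper15.LinIrr
import Cfsg.Agent.Lib.Helper82.AbelianSylow
import Cfsg.Agent.Lib.Helper80.PrimeCodeg

set_option autoImplicit false
set_option linter.unusedSectionVars false
set_option linter.style.haveILetI false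

namespace Cfsg.Agent.Lib.Helper81

open scoped ComplexConjugate
open scoped commutatorElement
open Cfsg.Agent.Lib.Helper3 (isCharacter_of_irr isClassFunction_of_isCharacter)

universe u

/-- the degree of a character is the sum of the degrees of its irreducible constituents -/
theorem charDegree_eq_sum81 {A : Type u} [Group A] [Fintype A] [Fintype (Cfsg.IrrCharacter A)]
    {ψ : A → ℂ} (hψ : Cfsg.IsCharacter A ψ) (m : Cfsg.IrrCharacter A → ℕ)
    (hsum : ψ = ∑ φ : Cfsg.IrrCharacter A, (m φ : ℂ) • (φ : A → ℂ)) :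
    Cfsg.charDegree ψ = ∑ φ : Cfsg.IrrCharacter A, m φ * Cfsg.charDegree (φ : A → ℂ) := by
  have h1 : ψ 1 = (Cfsg.charDegree ψ : ℂ) := Helper80.char_one_eq_charDegree hψ
  have h2 : ψ 1 = ∑ φ : Cfsg.IrrCharacter A, (m φ : ℂ) * (Cfsg.charDegree (φ : A → ℂ) : ℂ) := by
    conv_lhs => rw [hsum]
    rw [Finset.sum_apply]
    refine Finset.sum_congr rfl (fun φ _ => ?_)
    rw [Pi.smul_apply, smul_eq_mul, Helper80.char_one_eq_charDegree (isCharacter_of_irr φ.2)]
  rw [h1] at h2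
  exact_mod_cast h2

/-- the degrees of distinct irreducible constituents add up to at most the degree -/
theorem sum_charDegree_le {A : Type u} [Group A] [Fintype A] {ψ : A → ℂ}
    (hψ : Cfsg.IsCharacter A ψ) (S : Finset (Cfsg.IrrCharacter A))
    (hS : ∀ φ ∈ S, Cfsg.classInner ψ (φ : A → ℂ) ≠ 0) :
    ∑ φ ∈ S, Cfsg.charDegree (φ : A → ℂ) ≤ Cfsg.charDegree ψ := by
  classical
  have : Fintype (Cfsg.IrrCharacter A) := Fintype.ofFinite _
  obtain ⟨m, hm, hsum⟩ := Helper80.character_expansion hψ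
  rw [charDegree_eq_sum81 hψ m hsum]
  calc ∑ φ ∈ S, Cfsg.charDegree (φ : A → ℂ)
      ≤ ∑ φ ∈ S, m φ * Cfsg.charDegree (φ : A → ℂ) := by
        apply Finset.sum_le_sum
        intro φ hφ
        have h1 : m φ ≠ 0 := by
          intro h0
          apply hS φ hφ
          rw [hm φ, h0, Nat.cast_zero]
        exact Nat.le_mul_of_pos_left _ (Nat.pos_of_ne_zero h1)
    _ ≤ ∑ φ : Cfsg.IrrCharacter A, m φ * Cfsg.charDegree (φ : A → ℂ) :=
        Finset.sum_le_sum_of_subset (Finset.subset_univ S)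

/-- an irreducible character that is a constituent of the function induced from a linear
character of a subgroup of index at most its degree equals the induced function -/
theorem eq_indFun_of_constituent {W : Type u} [Group W] [Fintype W] (U : Subgroup W)
    [Fintype U] {χ : W → ℂ} (hχ : Cfsg.IsIrrCharacter W χ) (η : U →* ℂˣ)
    (hne : Cfsg.classInner (fun u : U => χ u) (fun u : U => ((η u : ℂˣ) : ℂ)) ≠ 0)
    (hdeg : U.index ≤ Cfsg.charDegree χ) :
    χ = Cfsg.indFun U (fun u : U => ((η u : ℂˣ) : ℂ)) := by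
  classical
  have : Fintype (Cfsg.IrrCharacter W) := Fintype.ofFinite _
  have hχc := isCharacter_of_irr hχ
  have hχcf := isClassFunction_of_isCharacter hχc
  have hΨ : Cfsg.IsCharacter W (Cfsg.indFun U (fun u : U => ((η u : ℂˣ) : ℂ))) :=
    Helper75.isCharacter_indFun U (Helper15.isCharacter_of_hom η)
  obtain ⟨m, hm, hsum⟩ := Helper80.character_expansion hΨ
  have hmχ : m ⟨χ, hχ⟩ ≠ 0 := by
    intro h0
    have h1 := hm ⟨χ, hχ⟩
    rw [h0, Nat.cast_zero, Helper75.frobenius_reciprocity U _ hχcf,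
      Helper75.classInner_conj_symm] at h1
    exact hne ((map_eq_zero _).mp h1)
  have hdegΨ : Cfsg.charDegree (Cfsg.indFun U (fun u : U => ((η u : ℂˣ) : ℂ))) = U.index := by
    have h1 := Helper80.char_one_eq_charDegree hΨ
    rw [Helper75.indFun_one, map_one, Units.val_one, mul_one] at h1
    exact_mod_cast h1.symm
  have hnat := charDegree_eq_sum81 hΨ m hsum
  rw [hdegΨ, ← Finset.add_sum_erase _ _ (Finset.mem_univ (⟨χ, hχ⟩ : Cfsg.IrrCharacter W))] at hnat
  have hpos : 0 < Cfsg.charDegree χ := Helper80.charDegree_pos hχ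
  have h1 : Cfsg.charDegree χ ≤ m ⟨χ, hχ⟩ * Cfsg.charDegree χ :=
    Nat.le_mul_of_pos_left _ (Nat.pos_of_ne_zero hmχ)
  have hrest : ∑ φ ∈ Finset.univ.erase (⟨χ, hχ⟩ : Cfsg.IrrCharacter W),
      m φ * Cfsg.charDegree (φ : W → ℂ) = 0 := by
    have h2 : m ⟨χ, hχ⟩ * Cfsg.charDegree χ ≤ U.index := by
      rw [hnat]; exact Nat.le_add_right _ _
    have h3 : (⟨χ, hχ⟩ : Cfsg.IrrCharacter W).1 = χ := rfl
    rw [h3] at hnat
    omega
  have hm1 : m ⟨χ, hχ⟩ = 1 := by
    have h3 : (⟨χ, hχ⟩ : Cfsg.IrrCharacter W).1 = χ := rfl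
    rw [h3, hrest, add_zero] at hnat
    have h4 : m ⟨χ, hχ⟩ * Cfsg.charDegree χ ≤ 1 * Cfsg.charDegree χ := by
      rw [one_mul, ← hnat]; exact hdeg
    have h5 := Nat.le_of_mul_le_mul_right h4 hpos
    have h6 : 0 < m ⟨χ, hχ⟩ := Nat.pos_of_ne_zero hmχ
    omega
  have hzero : ∀ φ : Cfsg.IrrCharacter W, φ ≠ ⟨χ, hχ⟩ → m φ = 0 := by
    intro φ hφ
    have h2 := (Finset.sum_eq_zero_iff.mp hrest) φ (Finset.mem_erase.mpr ⟨hφ, Finset.mem_univ _⟩)
    rcases Nat.mul_eq_zero.mp h2 with h | h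
    · exact h
    · exact absurd h (Helper80.charDegree_pos φ.2).ne'
  rw [hsum, Finset.sum_eq_single (⟨χ, hχ⟩ : Cfsg.IrrCharacter W)]
  · rw [hm1, Nat.cast_one, one_smul]
  · intro φ _ hφ
    rw [hzero φ hφ, Nat.cast_zero, zero_smul]
  · intro h
    exact absurd (Finset.mem_univ _) h

/-- pulling back along a homomorphism: a constituent of the pull-back of a constituent is a
constituent of the pull-back -/
theorem classInner_comp_ne_zero {A K : Type u} [Group A] [Fintype A] [Group K] [Fintype K]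
    (j : K →* A) {ψ : A → ℂ} (hψ : Cfsg.IsCharacter A ψ) {β : A → ℂ}
    (hβ : Cfsg.IsIrrCharacter A β) (h1 : Cfsg.classInner ψ β ≠ 0) {μ : K → ℂ}
    (hμ : Cfsg.IsIrrCharacter K μ) (h2 : Cfsg.classInner (fun k => β (j k)) μ ≠ 0) :
    Cfsg.classInner (fun k => ψ (j k)) μ ≠ 0 := by
  classical
  have : Fintype (Cfsg.IrrCharacter A) := Fintype.ofFinite _
  obtain ⟨m, hm, hsum⟩ := Helper80.character_expansion hψ
  have hn : ∀ φ : Cfsg.IrrCharacter A, ∃ n : ℕ,
      Cfsg.classInner (fun k => (φ : A → ℂ) (j k)) μ = n := fun φ =>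
    Helper75.classInner_char_irr_nat (Helper80.isCharacter_comp j (isCharacter_of_irr φ.2)) hμ
  choose n hn using hn
  have h3 : (fun k => ψ (j k)) =
      ∑ φ : Cfsg.IrrCharacter A, (m φ : ℂ) • (fun k => (φ : A → ℂ) (j k)) := by
    funext k
    conv_lhs => rw [hsum]
    rw [Finset.sum_apply, Finset.sum_apply]
    rfl
  rw [h3, Helper75.classInner_sum_left]
  simp only [Helper75.classInner_smul_left, hn]
  have h4 : (∑ φ : Cfsg.IrrCharacter A, (m φ : ℂ) * (n φ : ℂ)) =
      ((∑ φ : Cfsg.IrrCharacter A, m φ * n φ : ℕ) : ℂ) := by push_cast; rfl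
  rw [h4]
  have h5 : m ⟨β, hβ⟩ * n ⟨β, hβ⟩ ≤ ∑ φ : Cfsg.IrrCharacter A, m φ * n φ :=
    Finset.single_le_sum (f := fun φ => m φ * n φ) (fun _ _ => Nat.zero_le _)
      (Finset.mem_univ (⟨β, hβ⟩ : Cfsg.IrrCharacter A))
  have h6 : m ⟨β, hβ⟩ ≠ 0 := by
    intro h0
    apply h1
    have := hm ⟨β, hβ⟩
    rw [h0, Nat.cast_zero] at this
    exact this
  have h7 : n ⟨β, hβ⟩ ≠ 0 := by
    intro h0
    apply h2
    have := hn ⟨β, hβ⟩
    rw [h0, Nat.cast_zero] at this
    exact this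
  have h8 : 0 < m ⟨β, hβ⟩ * n ⟨β, hβ⟩ :=
    Nat.mul_pos (Nat.pos_of_ne_zero h6) (Nat.pos_of_ne_zero h7)
  have h9 : (∑ φ : Cfsg.IrrCharacter A, m φ * n φ) ≠ 0 := by omega
  exact_mod_cast h9

/-- conversely, a constituent of a pull-back lies in the pull-back of some constituent -/
theorem exists_constituent_comp {A K : Type u} [Group A] [Fintype A] [Group K] [Fintype K]
    (j : K →* A) {ψ : A → ℂ} (hψ : Cfsg.IsCharacter A ψ) {μ : K → ℂ}
    (h : Cfsg.classInner (fun k => ψ (j k)) μ ≠ 0) :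
    ∃ φ : A → ℂ, Cfsg.IsIrrCharacter A φ ∧ Cfsg.classInner ψ φ ≠ 0 ∧
      Cfsg.classInner (fun k => φ (j k)) μ ≠ 0 := by
  classical
  have : Fintype (Cfsg.IrrCharacter A) := Fintype.ofFinite _
  obtain ⟨m, hm, hsum⟩ := Helper80.character_expansion hψ
  by_contra hcon
  push Not at hcon
  apply h
  have h3 : (fun k => ψ (j k)) =
      ∑ φ : Cfsg.IrrCharacter A, (m φ : ℂ) • (fun k => (φ : A → ℂ) (j k)) := by
    funext k
    conv_lhs => rw [hsum]
    rw [Finset.sum_apply, Finset.sum_apply]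
    rfl
  rw [h3, Helper75.classInner_sum_left]
  apply Finset.sum_eq_zero
  intro φ _
  rw [Helper75.classInner_smul_left]
  by_cases h0 : m φ = 0
  · rw [h0, Nat.cast_zero, zero_mul]
  · have h4 : Cfsg.classInner ψ (φ : A → ℂ) ≠ 0 := by
      rw [hm φ]
      exact_mod_cast h0
    rw [hcon φ φ.2 h4, mul_zero]

/-- an irreducible character lying over the restriction of a linear character to a normal
subgroup with abelian quotient is linear -/
theorem linear_of_abelian_quotient {U : Type u} [Group U] [Fintype U] (D : Subgroup U)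
    [D.Normal] [Fintype D] (hab : ∀ a b : U, ⁅a, b⁆ ∈ D) (μ : U →* ℂˣ) {η : U → ℂ}
    (hη : Cfsg.IsIrrCharacter U η)
    (hne : Cfsg.classInner (fun d : D => η d) (fun d : D => ((μ d : ℂˣ) : ℂ)) ≠ 0) :
    η 1 = 1 := by
  classical
  -- the twist by the inverse of μ
  have hβ : Cfsg.IsCharacter U (fun u => (((μ⁻¹ : U →* ℂˣ) u : ℂˣ) : ℂ)) :=
    Helper15.isCharacter_of_hom μ⁻¹
  have hβ1 : (fun u => (((μ⁻¹ : U →* ℂˣ) u : ℂˣ) : ℂ)) 1 = 1 := by
    show (((μ⁻¹ : U →* ℂˣ) 1 : ℂˣ) : ℂ) = 1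
    rw [map_one, Units.val_one]
  have hξ := Helper15.isIrrCharacter_lin_mul hβ hβ1 hη
  -- its restriction to D contains the trivial character
  have hnorm : ∀ u : U, conj (((μ u : ℂˣ) : ℂ)) = (((μ⁻¹ : U →* ℂˣ) u : ℂˣ) : ℂ) := by
    intro u
    have h1 : ((μ u : ℂˣ) : ℂ) ^ orderOf u = 1 := by
      rw [← Units.val_pow_eq_pow_val, ← map_pow, pow_orderOf_eq_one, map_one, Units.val_one]
    have h2 : ‖((μ u : ℂˣ) : ℂ)‖ = 1 :=
      Complex.norm_eq_one_of_pow_eq_one h1 (orderOf_pos u).ne'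
    rw [MonoidHom.inv_apply, Units.val_inv_eq_inv_val]
    exact (Complex.inv_eq_conj h2).symm
  have hne' : Cfsg.classInner
      (fun d : D => ((fun u => (((μ⁻¹ : U →* ℂˣ) u : ℂˣ) : ℂ)) * η) d) (fun _ : D => (1 : ℂ))
      ≠ 0 := by
    have h3 : Cfsg.classInner
        (fun d : D => ((fun u => (((μ⁻¹ : U →* ℂˣ) u : ℂˣ) : ℂ)) * η) d) (fun _ : D => (1 : ℂ))
        = Cfsg.classInner (fun d : D => η d) (fun d : D => ((μ d : ℂˣ) : ℂ)) := by
      unfold Cfsg.classInner
      congr 1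
      refine Finset.sum_congr rfl (fun d _ => ?_)
      show (((μ⁻¹ : U →* ℂˣ) (d : U) : ℂˣ) : ℂ) * η d * conj (1 : ℂ) =
        η d * conj (((μ (d : U) : ℂˣ) : ℂ))
      rw [map_one, mul_one, hnorm, mul_comm]
    rw [h3]
    exact hne
  have hinv : ∀ g : U, Helper75.conjChar D (fun _ : D => (1 : ℂ)) g = fun _ : D => (1 : ℂ) := by
    intro g
    rfl
  have hres := Helper75.res_eq_smul_of_invariant D hξ Helper80.isIrrCharacter_one hne' hinv
  have hconst : ∀ x ∈ D, ((fun u => (((μ⁻¹ : U →* ℂˣ) u : ℂˣ) : ℂ)) * η) x =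
      ((fun u => (((μ⁻¹ : U →* ℂˣ) u : ℂˣ) : ℂ)) * η) 1 := by
    intro x hx
    have h4 := congrFun hres ⟨x, hx⟩
    have h5 := congrFun hres ⟨1, D.one_mem⟩
    simp only [Pi.smul_apply, smul_eq_mul, mul_one] at h4 h5
    rw [h4, h5]
  obtain ⟨ψb, hψb, hψbe⟩ := Helper80.exists_isIrrCharacter_deflate D hξ hconst
  have hcomm : ∀ a b : U ⧸ D, a * b = b * a := by
    intro a b
    induction a using QuotientGroup.induction_on with
    | H a =>
      induction b using QuotientGroup.induction_on with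
      | H b =>
        show ((a * b : U) : U ⧸ D) = ((b * a : U) : U ⧸ D)
        rw [QuotientGroup.eq]
        have h6 : (a * b)⁻¹ * (b * a) = ⁅b⁻¹, a⁻¹⁆ := by
          rw [commutatorElement_def]
          group
        rw [h6]
        exact hab _ _
  have h7 := Helper82.irr_one_eq_one_of_comm hcomm hψb
  have h8 := hψbe 1
  have h9 : ψb ((1 : U) : U ⧸ D) = ψb 1 := rfl
  rw [h9, h7, Pi.mul_apply] at h8
  have h10 : (((μ⁻¹ : U →* ℂˣ) 1 : ℂˣ) : ℂ) = 1 := hβ1
  rw [h10, one_mul] at h8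
  exact h8.symm

/-- the inner product of a product character restricted to a product of subgroups with a
product of linear characters -/
theorem classInner_res_prod {ι : Type u} [Fintype ι] {M : Type u} [Group M] [Fintype M]
    (Hf : ι → Subgroup M) [∀ i, Fintype (Hf i)] [Fintype (∀ i, Hf i)]
    (Θ : ι → M → ℂ) (lamf : ∀ i, Hf i → ℂ) :
    Cfsg.classInner (fun f : (∀ i, Hf i) => prodChar Θ (fun i => ((f i : Hf i) : M)))
      (fun f : (∀ i, Hf i) => ∏ i, lamf i (f i)) =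
      ∏ i, Cfsg.classInner (fun h : Hf i => Θ i h) (lamf i) :=
  classInner_pi (K := fun i => Hf i) (fun i (h : Hf i) => Θ i h) lamf

/-- a linear character of a subgroup occurs exactly once in the restriction of the
irreducible character it induces -/
theorem classInner_res_of_ind {M : Type u} [Group M] [Fintype M] (H : Subgroup M) [Fintype H]
    (lam : H →* ℂˣ)
    (hirr : Cfsg.IsIrrCharacter M (Cfsg.indFun H (fun h : H => ((lam h : ℂˣ) : ℂ)))) :
    Cfsg.classInner (fun h : H => Cfsg.indFun H (fun h : H => ((lam h : ℂˣ) : ℂ)) h)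
      (fun h : H => ((lam h : ℂˣ) : ℂ)) = 1 := by
  have hcf := isClassFunction_of_isCharacter (isCharacter_of_irr hirr)
  have h1 := Helper75.frobenius_reciprocity H (fun h : H => ((lam h : ℂˣ) : ℂ)) hcf
  rw [Helper80.classInner_self hirr] at h1
  rw [Helper75.classInner_conj_symm, ← h1, map_one]

end Cfsg.Agent.Lib.Helper81
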