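import Mathlib
import Cfsg.Agent.Lib.Helper81.WreathM1
import Cfsg.Agent.Lib.Helper81.Dornhoff

set_option autoImplicit false
set_option linter.unusedSectionVars false
set_option linter.style.haveILetI false

namespace Cfsg.Agent.Lib.Helper81

open scoped ComplexConjugate
open scoped commutatorElement
open Cfsg.Agent.Lib.Helper3 (isCharacter_of_irr isClassFunction_of_isCharacter)

universe u

section Wreath

variable {M Q : Type u} [Group M] [Group Q]

/-- the wreath product of `M` by the regular action of `Q` -/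
abbrev Wr81 (M Q : Type u) [Group M] [Group Q] : Type u :=
  (Q → M) ⋊[mulAutArrow (G := Q) (M := M) (A := Q)] Q

theorem wr_act (q : Q) (f : Q → M) (x : Q) :
    (mulAutArrow (G := Q) (M := M) (A := Q) q) f x = f (q⁻¹ * x) := rfl

/-- the subgroup of elements all of whose coordinates lie in `H` -/
def wrSub (H : Subgroup M) : Subgroup (Wr81 M Q) where
  carrier := {w | ∀ x, w.left x ∈ H}
  one_mem' := fun x => by
    show (1 : Wr81 M Q).left x ∈ H
    rw [SemidirectProduct.one_left]
    exact H.one_mem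
  mul_mem' := by
    intro a b ha hb x
    show (a * b).left x ∈ H
    rw [SemidirectProduct.mul_left, Pi.mul_apply, wr_act]
    exact H.mul_mem (ha x) (hb _)
  inv_mem' := by
    intro a ha x
    show (a⁻¹).left x ∈ H
    rw [SemidirectProduct.inv_left, wr_act, Pi.inv_apply]
    exact H.inv_mem (ha _)

theorem mem_wrSub (H : Subgroup M) (w : Wr81 M Q) : w ∈ wrSub (Q := Q) H ↔ ∀ x, w.left x ∈ H :=
  Iff.rfl

/-- the product of the values of a linear character on the coordinates -/
noncomputable def wrLin [Fintype Q] (H : Subgroup M) (lam : H →* ℂˣ) :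
    wrSub (Q := Q) H →* ℂˣ :=
  MonoidHom.mk' (fun u => ∏ x, lam ⟨u.1.left x, u.2 x⟩) (by
    intro a b
    have h1 : ∀ x, (⟨(a * b : wrSub (Q := Q) H).1.left x, (a * b).2 x⟩ : H) =
        ⟨a.1.left x, a.2 x⟩ * ⟨b.1.left (a.1.right⁻¹ * x), b.2 _⟩ := by
      intro x
      apply Subtype.ext
      rfl
    simp only [h1, map_mul]
    rw [Finset.prod_mul_distrib]
    congr 1
    exact Fintype.prod_equiv (Equiv.mulLeft a.1.right⁻¹) _ _ (fun x => rfl))

theorem wrLin_apply [Fintype Q] (H : Subgroup M) (lam : H →* ℂˣ) (u : wrSub (Q := Q) H) :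
    wrLin H lam u = ∏ x, lam ⟨u.1.left x, u.2 x⟩ := rfl

theorem wrSub_index [Finite M] [Finite Q] (H : Subgroup M) :
    (wrSub (Q := Q) H).index = H.index ^ Nat.card Q := by
  let e : ↥(wrSub (Q := Q) H) ≃ (Q → H) × Q :=
    { toFun := fun u => (fun x => ⟨u.1.left x, u.2 x⟩, u.1.right)
      invFun := fun p => ⟨⟨fun x => (p.1 x : M), p.2⟩, fun x => (p.1 x).2⟩
      left_inv := fun u => rfl
      right_inv := fun p => rfl }
  have h1 : Nat.card ↥(wrSub (Q := Q) H) = Nat.card H ^ Nat.card Q * Nat.card Q := by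
    rw [Nat.card_congr e, Nat.card_prod, Nat.card_fun]
  have h2 : Nat.card (Wr81 M Q) = Nat.card M ^ Nat.card Q * Nat.card Q := by
    rw [SemidirectProduct.card, Nat.card_fun]
  have h3 := (wrSub (Q := Q) H).card_mul_index
  have h4 := H.card_mul_index
  rw [h1, h2, ← h4, mul_pow] at h3
  have hpos : 0 < Nat.card H ^ Nat.card Q * Nat.card Q :=
    Nat.mul_pos (pow_pos Nat.card_pos _) Nat.card_pos
  apply Nat.eq_of_mul_eq_mul_left hpos
  rw [h3]
  ring

variable [Fintype M] [Fintype Q]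

/-- the coordinatewise inclusion of a product of subgroups -/
def piIncl (Hf : Q → Subgroup M) : (∀ x, Hf x) →* (Q → M) where
  toFun f x := ((f x : Hf x) : M)
  map_one' := rfl
  map_mul' _ _ := rfl

/-- the product of linear characters on a product of subgroups -/
noncomputable def piLin (Hf : Q → Subgroup M) (lamf : ∀ x, Hf x →* ℂˣ) : (∀ x, Hf x) →* ℂˣ where
  toFun f := ∏ x, lamf x (f x)
  map_one' := by simp
  map_mul' f g := by
    simp only [Pi.mul_apply, map_mul]
    rw [Finset.prod_mul_distrib]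

theorem piLin_coe (Hf : Q → Subgroup M) (lamf : ∀ x, Hf x →* ℂˣ) :
    (fun f : (∀ x, Hf x) => ((piLin Hf lamf f : ℂˣ) : ℂ)) =
      fun f => ∏ x, (fun (h : Hf x) => ((lamf x h : ℂˣ) : ℂ)) (f x) := by
  funext f
  show ((∏ x, lamf x (f x) : ℂˣ) : ℂ) = _
  rw [Units.coe_prod]

/-- the product character restricted to the product of the inducing subgroups contains the
product of the inducing linear characters -/
theorem classInner_piIncl_ne_zero (Hf : Q → Subgroup M) (lamf : ∀ x, Hf x →* ℂˣ)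
    (hθ : ∀ x, Cfsg.IsIrrCharacter M (Cfsg.indFun (Hf x) (fun h : Hf x => ((lamf x h : ℂˣ) : ℂ))))
    [Fintype (∀ x, Hf x)] :
    Cfsg.classInner
      (fun f : (∀ x, Hf x) =>
        prodChar (fun x => Cfsg.indFun (Hf x) (fun h : Hf x => ((lamf x h : ℂˣ) : ℂ)))
          (piIncl Hf f))
      (fun f : (∀ x, Hf x) => ((piLin Hf lamf f : ℂˣ) : ℂ)) ≠ 0 := by
  classical
  haveI : ∀ x, Fintype (Hf x) := fun x => Fintype.ofFinite _
  rw [piLin_coe]
  have h1 := classInner_res_prod Hf
    (fun x => Cfsg.indFun (Hf x) (fun h : Hf x => ((lamf x h : ℂˣ) : ℂ)))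
    (fun x (h : Hf x) => ((lamf x h : ℂˣ) : ℂ))
  have h2 : (fun f : (∀ x, Hf x) =>
        prodChar (fun x => Cfsg.indFun (Hf x) (fun h : Hf x => ((lamf x h : ℂˣ) : ℂ)))
          (piIncl Hf f)) = (fun f : (∀ x, Hf x) =>
        prodChar (fun x => Cfsg.indFun (Hf x) (fun h : Hf x => ((lamf x h : ℂˣ) : ℂ)))
          (fun i => ((f i : Hf i) : M))) := rfl
  rw [h2, h1]
  apply Finset.prod_ne_zero_iff.mpr
  intro x _
  rw [classInner_res_of_ind (Hf x) (lamf x) (hθ x)]
  exact one_ne_zero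

/-- the degree of a product of induced linear characters -/
theorem charDegree_prodChar_ind (Hf : Q → Subgroup M) (lamf : ∀ x, Hf x →* ℂˣ)
    (hθ : ∀ x, Cfsg.IsIrrCharacter M (Cfsg.indFun (Hf x) (fun h : Hf x => ((lamf x h : ℂˣ) : ℂ)))) :
    Cfsg.charDegree
      (prodChar (fun x => Cfsg.indFun (Hf x) (fun h : Hf x => ((lamf x h : ℂˣ) : ℂ)))) =
      ∏ x, (Hf x).index := by
  have h1 := Helper80.char_one_eq_charDegree
    (isCharacter_prodChar _ (fun x => isCharacter_of_irr (hθ x)))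
  rw [prodChar_apply] at h1
  have h2 : ∀ x : Q, Cfsg.indFun (Hf x) (fun h : Hf x => ((lamf x h : ℂˣ) : ℂ)) ((1 : Q → M) x) =
      ((Hf x).index : ℂ) := by
    intro x
    rw [Pi.one_apply, Helper75.indFun_one, map_one, Units.val_one, mul_one]
  simp only [h2] at h1
  have h3 : ((∏ x, (Hf x).index : ℕ) : ℂ) = ((Cfsg.charDegree
      (prodChar (fun x => Cfsg.indFun (Hf x) (fun h : Hf x => ((lamf x h : ℂˣ) : ℂ)))) : ℕ) : ℂ) := by
    rw [← h1]
    push_cast
    rfl
  exact_mod_cast h3.symm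

end Wreath

end Cfsg.Agent.Lib.Helper81
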