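import Mathlib
import Cfsg.Agent.Lib.Helper81.WreathM2

set_option autoImplicit false
set_option linter.unusedSectionVars false
set_option linter.style.haveILetI false

namespace Cfsg.Agent.Lib.Helper81

open scoped ComplexConjugate
open scoped commutatorElement
open Cfsg.Agent.Lib.Helper3 (isCharacter_of_irr isClassFunction_of_isCharacter)

universe u

section Wreath

variable {M Q : Type u} [Group M] [Group Q]

/-- the base part of `wrSub H` -/
def wrKer (H : Subgroup M) : Subgroup (wrSub (Q := Q) H) :=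
  ((SemidirectProduct.rightHom (φ := mulAutArrow (G := Q) (M := M) (A := Q))).comp
    (wrSub (Q := Q) H).subtype).ker

instance wrKer_normal (H : Subgroup M) : (wrKer (Q := Q) H).Normal :=
  MonoidHom.normal_ker _

theorem mem_wrKer (H : Subgroup M) (u : wrSub (Q := Q) H) :
    u ∈ wrKer (Q := Q) H ↔ u.1.right = 1 := Iff.rfl

/-- the base part of `wrSub H` is the product of copies of `H` -/
def wrKerEquiv (H : Subgroup M) : (∀ _ : Q, H) ≃* wrKer (Q := Q) H where
  toFun f := ⟨⟨SemidirectProduct.inl (piIncl (fun _ : Q => H) f), fun x => (f x).2⟩, rfl⟩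
  invFun d := fun x => ⟨d.1.1.left x, d.1.2 x⟩
  left_inv f := rfl
  right_inv d := by
    apply Subtype.ext
    apply Subtype.ext
    apply SemidirectProduct.ext
    · rfl
    · exact ((mem_wrKer H d.1).mp d.2).symm
  map_mul' f g := by
    apply Subtype.ext
    apply Subtype.ext
    show SemidirectProduct.inl (piIncl (fun _ : Q => H) (f * g)) =
      SemidirectProduct.inl (piIncl (fun _ : Q => H) f) *
        SemidirectProduct.inl (piIncl (fun _ : Q => H) g)
    rw [map_mul, map_mul]

variable [Fintype M] [Fintype Q]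

/-- Case A: the constituent of the restriction to the base is a power of one character -/
theorem wreath_caseA [Fintype (Wr81 M Q)] [Fintype (Q → M)] (hcomm : ∀ a b : Q, a * b = b * a)
    {χ : Wr81 M Q → ℂ} (hχ : Cfsg.IsIrrCharacter (Wr81 M Q) χ)
    (H : Subgroup M) (lam : H →* ℂˣ)
    (hθ : Cfsg.IsIrrCharacter M (Cfsg.indFun H (fun h : H => ((lam h : ℂˣ) : ℂ))))
    (hβ : Cfsg.classInner (fun f : Q → M => χ (SemidirectProduct.inl f))
      (prodChar (fun _ : Q => Cfsg.indFun H (fun h : H => ((lam h : ℂˣ) : ℂ)))) ≠ 0) :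
    ∃ (U : Subgroup (Wr81 M Q)) (η : U →* ℂˣ),
      χ = Cfsg.indFun U (fun u : U => ((η u : ℂˣ) : ℂ)) := by
  classical
  have hχc := isCharacter_of_irr hχ
  haveI : Fintype (∀ _ : Q, H) := Fintype.ofFinite _
  haveI : Fintype (wrSub (Q := Q) H) := Fintype.ofFinite _
  haveI : Fintype (wrKer (Q := Q) H) := Fintype.ofFinite _
  have hψ : Cfsg.IsCharacter (Q → M) (fun f : Q → M => χ (SemidirectProduct.inl f)) :=
    Helper80.isCharacter_comp (SemidirectProduct.inl) hχc
  have hβirr : Cfsg.IsIrrCharacter (Q → M)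
      (prodChar (fun _ : Q => Cfsg.indFun H (fun h : H => ((lam h : ℂˣ) : ℂ)))) :=
    isIrrCharacter_prodChar _ (fun _ => hθ)
  have hμirr : Cfsg.IsIrrCharacter (∀ _ : Q, H)
      (fun f => ((piLin (fun _ : Q => H) (fun _ => lam) f : ℂˣ) : ℂ)) :=
    Helper80.isIrrCharacter_of_hom _
  have h1 := classInner_comp_ne_zero (piIncl (fun _ : Q => H)) hψ hβirr hβ hμirr
    (classInner_piIncl_ne_zero (fun _ : Q => H) (fun _ => lam) (fun _ => hθ))
  have h2 : Cfsg.classInner (fun d : wrKer (Q := Q) H => χ ((d : wrSub (Q := Q) H) : Wr81 M Q))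
      (fun d : wrKer (Q := Q) H => ((wrLin H lam (d : wrSub (Q := Q) H) : ℂˣ) : ℂ)) ≠ 0 := by
    rw [← classInner_comp_mulEquiv (wrKerEquiv (Q := Q) H)]
    exact h1
  have hψU : Cfsg.IsCharacter (wrSub (Q := Q) H) (fun u : wrSub (Q := Q) H => χ u) :=
    Helper75.isCharacter_res (wrSub (Q := Q) H) hχc
  obtain ⟨η, hη, hη1, hη2⟩ := exists_constituent_comp (wrKer (Q := Q) H).subtype hψU
    (μ := fun d : wrKer (Q := Q) H => ((wrLin H lam (d : wrSub (Q := Q) H) : ℂˣ) : ℂ)) h2
  have hab : ∀ a b : wrSub (Q := Q) H, ⁅a, b⁆ ∈ wrKer (Q := Q) H := by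
    intro a b
    show ((SemidirectProduct.rightHom (φ := mulAutArrow (G := Q) (M := M) (A := Q))).comp
      (wrSub (Q := Q) H).subtype) ⁅a, b⁆ = 1
    rw [map_commutatorElement, commutatorElement_eq_one_iff_mul_comm]
    exact hcomm _ _
  have hlin := linear_of_abelian_quotient (wrKer (Q := Q) H) hab (wrLin H lam) hη hη2
  refine ⟨wrSub (Q := Q) H, Helper15.linCharHom (isCharacter_of_irr hη) hlin,
    eq_indFun_of_constituent (wrSub (Q := Q) H) hχ _ ?_ ?_⟩
  · exact hη1
  · rw [wrSub_index]
    have h5 := sum_charDegree_le hψ {⟨_, hβirr⟩} (by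
      intro φ hφ
      rw [Finset.mem_singleton] at hφ
      subst hφ
      exact hβ)
    rw [Finset.sum_singleton] at h5
    have h6 := charDegree_prodChar_ind (fun _ : Q => H) (fun _ => lam) (fun _ => hθ)
    rw [Finset.prod_const, Finset.card_univ] at h6
    have h7 : Cfsg.charDegree (fun f : Q → M => χ (SemidirectProduct.inl f)) =
        Cfsg.charDegree χ := by
      show ⌊(χ (SemidirectProduct.inl (1 : Q → M))).re⌋₊ = ⌊(χ 1).re⌋₊
      rw [map_one]
    rw [h7] at h5
    rw [Nat.card_eq_fintype_card, ← h6]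
    exact h5

/-- Case B: the constituent of the restriction to the base is not a power of one character -/
theorem wreath_caseB [Fintype (Wr81 M Q)] [Fintype (Q → M)] (hQ : (Nat.card Q).Prime)
    {χ : Wr81 M Q → ℂ} (hχ : Cfsg.IsIrrCharacter (Wr81 M Q) χ)
    (Hf : Q → Subgroup M) (lamf : ∀ x, Hf x →* ℂˣ) (Θ : Q → M → ℂ)
    (hΘirr : ∀ x, Cfsg.IsIrrCharacter M (Θ x))
    (hΘ : ∀ x, Θ x = Cfsg.indFun (Hf x) (fun h : Hf x => ((lamf x h : ℂˣ) : ℂ)))
    (hβ : Cfsg.classInner (fun f : Q → M => χ (SemidirectProduct.inl f)) (prodChar Θ) ≠ 0)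
    (hnc : ¬ ∀ x, Θ x = Θ 1) :
    ∃ (U : Subgroup (Wr81 M Q)) (η : U →* ℂˣ),
      χ = Cfsg.indFun U (fun u : U => ((η u : ℂˣ) : ℂ)) := by
  classical
  have hχc := isCharacter_of_irr hχ
  have hχcf := isClassFunction_of_isCharacter hχc
  haveI : Fintype (∀ x, Hf x) := Fintype.ofFinite _
  have hΘeq : Θ = fun x => Cfsg.indFun (Hf x) (fun h : Hf x => ((lamf x h : ℂˣ) : ℂ)) :=
    funext hΘ
  have hθ : ∀ x, Cfsg.IsIrrCharacter M
      (Cfsg.indFun (Hf x) (fun h : Hf x => ((lamf x h : ℂˣ) : ℂ))) := fun x => hΘ x ▸ hΘirr x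
  have hψ : Cfsg.IsCharacter (Q → M) (fun f : Q → M => χ (SemidirectProduct.inl f)) :=
    Helper80.isCharacter_comp (SemidirectProduct.inl) hχc
  have hβirr : Cfsg.IsIrrCharacter (Q → M) (prodChar Θ) := isIrrCharacter_prodChar _ hΘirr
  have hμirr : Cfsg.IsIrrCharacter (∀ x, Hf x)
      (fun f => ((piLin Hf lamf f : ℂˣ) : ℂ)) := Helper80.isIrrCharacter_of_hom _
  have hpi := classInner_piIncl_ne_zero Hf lamf hθ
  rw [← hΘeq] at hpi
  have h1 := classInner_comp_ne_zero (piIncl Hf) hψ hβirr hβ hμirr hpi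
  -- the subgroup
  have hinj : Function.Injective
      ((SemidirectProduct.inl (φ := mulAutArrow (G := Q) (M := M) (A := Q))).comp (piIncl Hf)) := by
    intro f g hfg
    have h2 := SemidirectProduct.inl_injective hfg
    funext x
    exact Subtype.ext (congrFun h2 x)
  haveI : Fintype ((SemidirectProduct.inl (φ := mulAutArrow (G := Q) (M := M) (A := Q))).comp
      (piIncl Hf)).range := Fintype.ofFinite _
  refine ⟨((SemidirectProduct.inl (φ := mulAutArrow (G := Q) (M := M) (A := Q))).comp
      (piIncl Hf)).range,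
    (piLin Hf lamf).comp (MonoidHom.ofInjective hinj).symm.toMonoidHom,
    eq_indFun_of_constituent _ hχ _ ?_ ?_⟩
  · rw [← classInner_comp_mulEquiv (MonoidHom.ofInjective hinj)]
    have e2 : (fun a : (∀ x, Hf x) => ((((piLin Hf lamf).comp
        (MonoidHom.ofInjective hinj).symm.toMonoidHom) (MonoidHom.ofInjective hinj a) : ℂˣ) : ℂ)) =
        fun f => ((piLin Hf lamf f : ℂˣ) : ℂ) := by
      funext a
      show ((piLin Hf lamf ((MonoidHom.ofInjective hinj).symm (MonoidHom.ofInjective hinj a)) : ℂˣ)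
        : ℂ) = _
      rw [MulEquiv.symm_apply_apply]
    rw [e2]
    exact h1
  · -- the index of the subgroup
    have hcardU : Nat.card ((SemidirectProduct.inl (φ := mulAutArrow (G := Q) (M := M) (A := Q))).comp
        (piIncl Hf)).range = ∏ x, Nat.card (Hf x) := by
      rw [← Nat.card_congr (MonoidHom.ofInjective hinj).toEquiv, Nat.card_pi]
    have hcardW : Nat.card (Wr81 M Q) = Nat.card M ^ Nat.card Q * Nat.card Q := by
      rw [SemidirectProduct.card, Nat.card_fun]
    have hidx : ((SemidirectProduct.inl (φ := mulAutArrow (G := Q) (M := M) (A := Q))).comp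
        (piIncl Hf)).range.index = (∏ x, (Hf x).index) * Nat.card Q := by
      have h3 := ((SemidirectProduct.inl (φ := mulAutArrow (G := Q) (M := M) (A := Q))).comp
        (piIncl Hf)).range.card_mul_index
      rw [hcardU, hcardW] at h3
      have h4 : Nat.card M ^ Nat.card Q = (∏ x, Nat.card (Hf x)) * ∏ x, (Hf x).index := by
        rw [← Finset.prod_mul_distrib, Nat.card_eq_fintype_card (α := Q), ← Finset.card_univ,
          ← Finset.prod_const]
        refine Finset.prod_congr rfl (fun x _ => ?_)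
        exact ((Hf x).card_mul_index).symm
      rw [h4, mul_assoc] at h3
      exact Nat.eq_of_mul_eq_mul_left (Finset.prod_pos (fun x _ => Nat.card_pos)) h3
    -- the shifted constituents
    have hshift : ∀ q : Q, Cfsg.classInner (fun f : Q → M => χ (SemidirectProduct.inl f))
        (prodChar (fun y => Θ (q * y))) ≠ 0 := by
      intro q
      have e1 : (fun f : Q → M => χ (SemidirectProduct.inl
          ((mulAutArrow (G := Q) (M := M) (A := Q) q) f))) =
          fun f => χ (SemidirectProduct.inl f) := by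
        funext f
        rw [SemidirectProduct.inl_aut, map_inv]
        exact hχcf _ _
      have e2 : (fun f : Q → M => prodChar Θ ((mulAutArrow (G := Q) (M := M) (A := Q) q) f)) =
          prodChar (fun y => Θ (q * y)) := by
        funext f
        rw [prodChar_apply, prodChar_apply]
        refine (Fintype.prod_equiv (Equiv.mulLeft q) _ _ (fun y => ?_)).symm
        show Θ (q * y) (f y) = Θ (q * y) (f (q⁻¹ * (q * y)))
        rw [inv_mul_cancel_left]
      have h3 := classInner_comp_mulEquiv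
        (mulAutArrow (G := Q) (M := M) (A := Q) q : (Q → M) ≃* (Q → M))
        (fun f : Q → M => χ (SemidirectProduct.inl f)) (prodChar Θ)
      beta_reduce at h3
      rw [e1, e2] at h3
      rw [h3]
      exact hβ
    haveI : Fact (Nat.card Q).Prime := ⟨hQ⟩
    have hBinj : Function.Injective (fun q : Q =>
        (⟨prodChar (fun y => Θ (q * y)), isIrrCharacter_prodChar _ (fun y => hΘirr (q * y))⟩ :
          Cfsg.IrrCharacter (Q → M))) := by
      intro q q' hqq
      by_contra hne
      apply hnc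
      have h3 : (fun y => Θ (q * y)) = fun y => Θ (q' * y) :=
        prodChar_injective (fun y => hΘirr (q * y)) (fun y => hΘirr (q' * y))
          (congrArg Subtype.val hqq)
      have h4 : ∀ z : Q, Θ (q' * q⁻¹ * z) = Θ z := by
        intro z
        have := congrFun h3 (q⁻¹ * z)
        simp only [mul_inv_cancel_left] at this
        rw [mul_assoc]
        exact this.symm
      have hr : q' * q⁻¹ ≠ 1 := by
        intro h
        apply hne
        exact (mul_inv_eq_one.mp h).symm
      have h5 : ∀ n : ℕ, Θ ((q' * q⁻¹) ^ n) = Θ 1 := by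
        intro n
        induction n with
        | zero => rw [pow_zero]
        | succ n ih => rw [pow_succ', h4]; exact ih
      intro x
      obtain ⟨n, hn⟩ := mem_powers_of_prime_card (G := Q) rfl hr (g' := x)
      rw [← hn]
      exact h5 n
    have h6 := sum_charDegree_le hψ (Finset.univ.image (fun q : Q =>
        (⟨prodChar (fun y => Θ (q * y)), isIrrCharacter_prodChar _ (fun y => hΘirr (q * y))⟩ :
          Cfsg.IrrCharacter (Q → M)))) (by
      intro φ hφ
      rw [Finset.mem_image] at hφ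
      obtain ⟨q, -, rfl⟩ := hφ
      exact hshift q)
    rw [Finset.sum_image (fun a _ b _ h => hBinj h)] at h6
    have h7 : ∀ q : Q, Cfsg.charDegree (prodChar (fun y => Θ (q * y))) = ∏ x, (Hf x).index := by
      intro q
      have h8 := charDegree_prodChar_ind (fun y => Hf (q * y)) (fun y => lamf (q * y))
        (fun y => hθ (q * y))
      have h9 : (fun y => Θ (q * y)) = fun y => Cfsg.indFun (Hf (q * y))
          (fun h : Hf (q * y) => ((lamf (q * y) h : ℂˣ) : ℂ)) := funext (fun y => hΘ (q * y))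
      rw [h9, h8]
      exact Fintype.prod_equiv (Equiv.mulLeft q) _ _ (fun _ => rfl)
    have h10 : ∑ q : Q, Cfsg.charDegree (prodChar (fun y => Θ (q * y))) =
        Fintype.card Q * ∏ x, (Hf x).index := by
      rw [Finset.sum_congr rfl (fun q _ => h7 q), Finset.sum_const, Finset.card_univ, smul_eq_mul]
    have h11 : Cfsg.charDegree (fun f : Q → M => χ (SemidirectProduct.inl f)) =
        Cfsg.charDegree χ := by
      show ⌊(χ (SemidirectProduct.inl (1 : Q → M))).re⌋₊ = ⌊(χ 1).re⌋₊
      rw [map_one]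
    rw [hidx, Nat.card_eq_fintype_card, mul_comm, ← h10, ← h11]
    exact h6

/-- **Dade's lemma**: the wreath product of an M-group with a group of prime order is an
M-group. -/
theorem isMG_wreath (hQ : (Nat.card Q).Prime)
    (hM : ∀ χ : M → ℂ, Cfsg.IsIrrCharacter M χ →
      ∃ (H : Subgroup M) (lam : H →* ℂˣ), χ = Cfsg.indFun H (fun h : H => ((lam h : ℂˣ) : ℂ)))
    [Fintype (Wr81 M Q)] (χ : Wr81 M Q → ℂ) (hχ : Cfsg.IsIrrCharacter (Wr81 M Q) χ) :
    ∃ (U : Subgroup (Wr81 M Q)) (η : U →* ℂˣ),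
      χ = Cfsg.indFun U (fun u : U => ((η u : ℂˣ) : ℂ)) := by
  classical
  haveI : Fintype (Q → M) := Fintype.ofFinite _
  haveI : Fintype (Cfsg.IrrCharacter (Q → M)) := Fintype.ofFinite _
  have hχc := isCharacter_of_irr hχ
  have hψ : Cfsg.IsCharacter (Q → M) (fun f : Q → M => χ (SemidirectProduct.inl f)) :=
    Helper80.isCharacter_comp (SemidirectProduct.inl) hχc
  have hex : ∃ β : (Q → M) → ℂ, Cfsg.IsIrrCharacter (Q → M) β ∧
      Cfsg.classInner (fun f : Q → M => χ (SemidirectProduct.inl f)) β ≠ 0 := by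
    obtain ⟨m, hm, hsum⟩ := Helper80.character_expansion hψ
    by_contra hcon
    push Not at hcon
    have h0 : (fun f : Q → M => χ (SemidirectProduct.inl f)) = 0 := by
      rw [hsum]
      apply Finset.sum_eq_zero
      intro φ _
      have h1 := hcon φ φ.2
      rw [hm φ] at h1
      have hm0 : m φ = 0 := by exact_mod_cast h1
      rw [hm0, Nat.cast_zero, zero_smul]
    have h1 : χ 1 = 0 := by
      have h2 := congrFun h0 1
      simp only [map_one, Pi.zero_apply] at h2
      exact h2
    exact Helper80.char_one_ne_zero hχ h1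
  obtain ⟨β, hβirr, hβ⟩ := hex
  obtain ⟨Θ, hΘirr, rfl⟩ := exists_prodChar hβirr
  choose Hf lamf hHf using fun x => hM (Θ x) (hΘirr x)
  by_cases hconst : ∀ x, Θ x = Θ 1
  · have hcomm : ∀ a b : Q, a * b = b * a := by
      haveI : Fact (Nat.card Q).Prime := ⟨hQ⟩
      haveI : IsCyclic Q := isCyclic_of_prime_card (α := Q) rfl
      obtain ⟨g, hg⟩ := IsCyclic.exists_generator (α := Q)
      intro a b
      obtain ⟨i, rfl⟩ := Subgroup.mem_zpowers_iff.mp (hg a)
      obtain ⟨j, rfl⟩ := Subgroup.mem_zpowers_iff.mp (hg b)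
      exact zpow_mul_comm g i j
    have hΘc : Θ = fun _ : Q => Cfsg.indFun (Hf 1) (fun h : Hf 1 => ((lamf 1 h : ℂˣ) : ℂ)) := by
      funext x
      rw [hconst x, hHf 1]
    rw [hΘc] at hβ
    exact wreath_caseA hcomm hχ (Hf 1) (lamf 1) (hHf 1 ▸ hΘirr 1) hβ
  · exact wreath_caseB hQ hχ Hf lamf Θ hΘirr hHf hβ hconst

end Wreath

end Cfsg.Agent.Lib.Helper81
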