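import Mathlib
import Cfsg.Agent.Lib.Helper81.WreathM3
import Cfsg.Agent.Lib.Helper3.Monomial

/-!
# Dade's embedding: every finite solvable group embeds in an M-group

* `exists_normal_prime_index`: a nontrivial finite solvable group has a normal subgroup of prime
  index.
* `kkHom`: the Kaloujnine–Krasner embedding `G →* M₀ ≀ (G ⧸ N)` attached to an embedding of `N`.
* `solvable_embeds_MG`: a finite solvable group embeds in a finite M-group.
-/

set_option autoImplicit false
set_option linter.unusedSectionVars false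
set_option linter.style.haveILetI false

namespace Cfsg.Agent.Lib.Helper81

open scoped commutatorElement

universe u

/-- a nontrivial finite solvable group has a normal subgroup of prime index -/
theorem exists_normal_prime_index {G : Type u} [Group G] [Finite G] [Nontrivial G]
    (hsolv : Group.IsSolvable G) : ∃ N : Subgroup G, N.Normal ∧ N.index.Prime := by
  haveI := hsolv
  have h1 : commutator G < ⊤ := Group.IsSolvable.commutator_lt_top_of_nontrivial G
  obtain h2 | ⟨K, hK, hle⟩ := eq_top_or_exists_le_coatom (commutator G)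
  · exact absurd h2 h1.ne
  have hKn : K.Normal := by
    constructor
    intro k hk g
    have h3 : g * k * g⁻¹ = ⁅g, k⁆ * k := by
      rw [commutatorElement_def]; group
    rw [h3]
    refine K.mul_mem (hle ?_) hk
    rw [commutator_def]
    exact Subgroup.commutator_mem_commutator (Subgroup.mem_top g) (Subgroup.mem_top k)
  refine ⟨K, hKn, ?_⟩
  have h4 : ∀ L : Subgroup (G ⧸ K), L = ⊥ ∨ L = ⊤ := by
    intro L
    have h5 : K ≤ L.comap (QuotientGroup.mk' K) := by
      intro k hk
      rw [Subgroup.mem_comap]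
      have h51 : (QuotientGroup.mk' K) k = 1 := (QuotientGroup.eq_one_iff k).mpr hk
      rw [h51]; exact L.one_mem
    rcases eq_or_lt_of_le h5 with h6 | h6
    · left
      rw [eq_bot_iff]
      intro x hx
      obtain ⟨g, rfl⟩ := QuotientGroup.mk'_surjective K x
      have h61 : g ∈ L.comap (QuotientGroup.mk' K) := hx
      rw [← h6] at h61
      rw [Subgroup.mem_bot]
      exact (QuotientGroup.eq_one_iff g).mpr h61
    · right
      have h7 := hK.2 _ h6
      rw [eq_top_iff]
      intro x _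
      obtain ⟨g, rfl⟩ := QuotientGroup.mk'_surjective K x
      have h71 : g ∈ L.comap (QuotientGroup.mk' K) := by rw [h7]; exact Subgroup.mem_top g
      exact h71
  have hnt : Nontrivial (G ⧸ K) := by
    obtain ⟨g, hg⟩ : ∃ g, g ∉ K := by
      by_contra hcon
      push Not at hcon
      exact hK.1 (eq_top_iff.mpr fun g _ => hcon g)
    refine ⟨⟨(g : G ⧸ K), 1, ?_⟩⟩
    intro h
    exact hg ((QuotientGroup.eq_one_iff g).mp h)
  have hcard : 1 < Nat.card (G ⧸ K) := Finite.one_lt_card
  obtain ⟨p, hp, hpd⟩ := Nat.exists_prime_and_dvd hcard.ne'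
  haveI : Fact p.Prime := ⟨hp⟩
  obtain ⟨x, hx⟩ := exists_prime_orderOf_dvd_card' p hpd
  have h8 : Subgroup.zpowers x = ⊤ := by
    rcases h4 (Subgroup.zpowers x) with h | h
    · exfalso
      rw [Subgroup.zpowers_eq_bot] at h
      rw [h, orderOf_one] at hx
      exact hp.one_lt.ne hx
    · exact h
  have h9 : Nat.card (G ⧸ K) = p := by
    rw [← Subgroup.card_top, ← h8, Nat.card_zpowers, hx]
  rw [Subgroup.index_eq_card, h9]
  exact hp

section KK

variable {G : Type u} [Group G] (N : Subgroup G) [N.Normal] {M₀ : Type u} [Group M₀]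

theorem kk_mem (g : G) (x : G ⧸ N) :
    (Quotient.out x)⁻¹ * g * Quotient.out ((g : G ⧸ N)⁻¹ * x) ∈ N := by
  rw [← QuotientGroup.eq_one_iff]
  simp only [QuotientGroup.mk_mul, QuotientGroup.mk_inv, QuotientGroup.out_eq']
  group

theorem kk_mul (g h : G) (x : G ⧸ N) :
    (Quotient.out x)⁻¹ * (g * h) * Quotient.out (((g * h : G) : G ⧸ N)⁻¹ * x) =
      ((Quotient.out x)⁻¹ * g * Quotient.out ((g : G ⧸ N)⁻¹ * x)) *
        ((Quotient.out ((g : G ⧸ N)⁻¹ * x))⁻¹ * h *
          Quotient.out ((h : G ⧸ N)⁻¹ * ((g : G ⧸ N)⁻¹ * x))) := by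
  have e : ((g * h : G) : G ⧸ N)⁻¹ * x = (h : G ⧸ N)⁻¹ * ((g : G ⧸ N)⁻¹ * x) := by
    rw [QuotientGroup.mk_mul, mul_inv_rev, mul_assoc]
  rw [e]
  group

/-- the Kaloujnine–Krasner embedding into the wreath product -/
noncomputable def kkHom (ι : N →* M₀) : G →* Wr81 M₀ (G ⧸ N) where
  toFun g := ⟨fun x => ι ⟨(Quotient.out x)⁻¹ * g * Quotient.out ((g : G ⧸ N)⁻¹ * x),
    kk_mem N g x⟩, (g : G ⧸ N)⟩
  map_one' := by
    apply SemidirectProduct.ext
    · funext x
      show ι ⟨(Quotient.out x)⁻¹ * 1 * Quotient.out (((1 : G) : G ⧸ N)⁻¹ * x), kk_mem N 1 x⟩ = 1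
      have h1 : (⟨(Quotient.out x)⁻¹ * 1 * Quotient.out (((1 : G) : G ⧸ N)⁻¹ * x),
          kk_mem N 1 x⟩ : N) = 1 := by
        apply Subtype.ext
        simp
      rw [h1, map_one]
    · rfl
  map_mul' g h := by
    apply SemidirectProduct.ext
    · funext x
      show ι ⟨(Quotient.out x)⁻¹ * (g * h) * Quotient.out (((g * h : G) : G ⧸ N)⁻¹ * x),
          kk_mem N (g * h) x⟩ =
        ι ⟨(Quotient.out x)⁻¹ * g * Quotient.out ((g : G ⧸ N)⁻¹ * x), kk_mem N g x⟩ *
          ι ⟨(Quotient.out ((g : G ⧸ N)⁻¹ * x))⁻¹ * h *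
            Quotient.out ((h : G ⧸ N)⁻¹ * ((g : G ⧸ N)⁻¹ * x)), kk_mem N h _⟩
      rw [← map_mul]
      congr 1
      apply Subtype.ext
      exact kk_mul N g h x
    · rfl

theorem kkHom_injective (ι : N →* M₀) (hι : Function.Injective ι) :
    Function.Injective (kkHom N ι) := by
  rw [injective_iff_map_eq_one]
  intro g hg
  have h1 : (kkHom N ι g).left = 1 := by rw [hg]; rfl
  have h3 : (kkHom N ι g).right = 1 := by rw [hg]; rfl
  have h3' : (g : G ⧸ N) = 1 := h3
  have h2 : ι ⟨(Quotient.out (1 : G ⧸ N))⁻¹ * g * Quotient.out ((g : G ⧸ N)⁻¹ * 1),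
      kk_mem N g 1⟩ = 1 := congrFun h1 1
  have h4 : (⟨(Quotient.out (1 : G ⧸ N))⁻¹ * g * Quotient.out ((g : G ⧸ N)⁻¹ * 1),
      kk_mem N g 1⟩ : N) = 1 := hι (by rw [map_one]; exact h2)
  have h5 : (Quotient.out (1 : G ⧸ N))⁻¹ * g * Quotient.out ((g : G ⧸ N)⁻¹ * 1) = 1 :=
    congrArg Subtype.val h4
  have h6 : ((g : G ⧸ N))⁻¹ * 1 = 1 := by rw [h3']; simp
  rw [h6] at h5
  calc g = Quotient.out (1 : G ⧸ N) *
        ((Quotient.out (1 : G ⧸ N))⁻¹ * g * Quotient.out (1 : G ⧸ N)) *
        (Quotient.out (1 : G ⧸ N))⁻¹ := by group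
    _ = 1 := by rw [h5]; group

end KK

theorem solvable_embeds_MG_aux : ∀ (n : ℕ) (G : Type u) [Group G] [Finite G],
    Group.IsSolvable G → Nat.card G = n →
    ∃ (M : Type u) (_ : Group M) (_ : Fintype M),
      (∀ χ : M → ℂ, Cfsg.IsIrrCharacter M χ →
        ∃ (H : Subgroup M) (lam : ↥H →* ℂˣ), χ = Cfsg.indFun H (fun h => (lam h : ℂ))) ∧
      ∃ f : G →* M, Function.Injective f := by
  intro n
  induction n using Nat.strong_induction_on with
  | _ n ih =>
  intro G _ _ hsolv hn
  by_cases htriv : Subsingleton G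
  · haveI : Fintype G := Fintype.ofFinite G
    haveI : Group.IsNilpotent G := inferInstance
    exact ⟨G, inferInstance, inferInstance,
      fun χ hχ => Helper3.nilpotent_monomial_aux _ G rfl χ hχ, MonoidHom.id G,
      Function.injective_id⟩
  · rw [not_subsingleton_iff_nontrivial] at htriv
    obtain ⟨N, hN, hidx⟩ := exists_normal_prime_index hsolv
    have hlt : Nat.card N < n := by
      rw [← hn, ← N.card_mul_index]
      have h2 := hidx.one_lt
      have hpos : 0 < Nat.card N := Nat.card_pos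
      nlinarith
    haveI := hsolv
    obtain ⟨M₀, hgrp, hfin, hM, ι, hι⟩ := ih (Nat.card N) hlt N inferInstance rfl
    haveI : Fintype (G ⧸ N) := Fintype.ofFinite _
    haveI : Finite (Wr81 M₀ (G ⧸ N)) := Finite.of_equiv _ SemidirectProduct.equivProd.symm
    haveI : Fintype (Wr81 M₀ (G ⧸ N)) := Fintype.ofFinite _
    have hQ : (Nat.card (G ⧸ N)).Prime := by rw [← Subgroup.index_eq_card]; exact hidx
    exact ⟨Wr81 M₀ (G ⧸ N), inferInstance, inferInstance,
      fun χ hχ => isMG_wreath hQ hM χ hχ, kkHom N ι, kkHom_injective N ι hι⟩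

/-- **Dade**: every finite solvable group embeds in a finite M-group. -/
theorem solvable_embeds_MG {G : Type u} [Group G] [Finite G] (hsolv : Group.IsSolvable G) :
    ∃ (M : Type u) (_ : Group M) (_ : Fintype M),
      (∀ χ : M → ℂ, Cfsg.IsIrrCharacter M χ →
        ∃ (H : Subgroup M) (lam : ↥H →* ℂˣ), χ = Cfsg.indFun H (fun h => (lam h : ℂ))) ∧
      ∃ f : G →* M, Function.Injective f :=
  solvable_embeds_MG_aux _ G hsolv rfl

end Cfsg.Agent.Lib.Helper81
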