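import Mathlib
import Cfsg.Prelude.Def_Characters
import Cfsg.Agent.Lib.Helper81.GlaubRel
import Cfsg.Agent.S0868

/-!
# Tools for relative character correspondences

`GlaubCorrOn`: Glauberman-type data onto a subset of the irreducible characters of the target;
pull-back of inner products along surjections; characters constant on cosets of a normal subgroup;
the Gallagher isometry.
-/

set_option autoImplicit false
set_option linter.unusedSectionVars false
set_option linter.style.haveILetI false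

namespace Cfsg.Agent.Lib.Helper81

open scoped ComplexConjugate

universe u

/-- **Glauberman data modulo `p`** between the characters of `G` satisfying `Inv` and the
characters of `C` satisfying `Tgt` -/
def GlaubCorrOn (p : ℕ) {G : Type u} {C : Type u} [Group G] [Group C] [Fintype C] (ι : C →* G)
    (Inv : (G → ℂ) → Prop) (Tgt : (C → ℂ) → Prop) : Prop :=
  (∀ χ : G → ℂ, Cfsg.IsIrrCharacter G χ → Inv χ →
    ∃ (β : C → ℂ) (ε : ℤ), Cfsg.IsIrrCharacter C β ∧ Tgt β ∧ (ε = 1 ∨ ε = -1) ∧
      ∀ β₁ : C → ℂ, Cfsg.IsIrrCharacter C β₁ → Tgt β₁ →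
        ∃ m : ℕ, Cfsg.classInner (fun c => χ (ι c)) β₁ = (m : ℂ) ∧
          (β₁ = β → (m : ℤ) ≡ ε [ZMOD p]) ∧ (β₁ ≠ β → (p : ℤ) ∣ m)) ∧
  (∀ χ χ' : G → ℂ, Cfsg.IsIrrCharacter G χ → Cfsg.IsIrrCharacter G χ' → Inv χ → Inv χ' →
    ∀ β : C → ℂ, Cfsg.IsIrrCharacter C β → Tgt β → ∀ m m' : ℕ,
      Cfsg.classInner (fun c => χ (ι c)) β = (m : ℂ) → ¬ p ∣ m →
      Cfsg.classInner (fun c => χ' (ι c)) β = (m' : ℂ) → ¬ p ∣ m' → χ = χ') ∧
  (∀ β : C → ℂ, Cfsg.IsIrrCharacter C β → Tgt β →
    ∃ χ : G → ℂ, Cfsg.IsIrrCharacter G χ ∧ Inv χ ∧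
      ∃ m : ℕ, Cfsg.classInner (fun c => χ (ι c)) β = (m : ℂ) ∧ ¬ p ∣ m)

section Surj

variable {X Y : Type*} [Group X] [Group Y] [Fintype X] [Fintype Y]

/-- summing a function pulled back along a surjective homomorphism -/
theorem sum_comp_surj (φ : X →* Y) (hφ : Function.Surjective φ) (F : Y → ℂ) :
    ∑ x : X, F (φ x) = (Nat.card φ.ker : ℂ) * ∑ y : Y, F y := by
  classical
  rw [Finset.sum_comp F φ, Finset.image_univ_of_surjective hφ, Finset.mul_sum]
  refine Finset.sum_congr rfl fun y _ => ?_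
  have hc : (Finset.univ.filter (fun a => φ a = y)).card = Nat.card φ.ker := by
    rw [MonoidHom.card_fiber_eq_of_mem_range φ (hφ y) (hφ 1), Nat.card_eq_fintype_card,
      Fintype.card_subtype]
    congr 1
    ext g
    simp [MonoidHom.mem_ker]
  rw [hc, nsmul_eq_mul]

theorem card_eq_card_ker_mul (φ : X →* Y) (hφ : Function.Surjective φ) :
    (Nat.card X : ℂ) = (Nat.card φ.ker : ℂ) * (Nat.card Y : ℂ) := by
  have h := sum_comp_surj φ hφ (fun _ => (1 : ℂ))
  simp only [Finset.sum_const, Finset.card_univ, nsmul_eq_mul, mul_one] at h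
  rw [Nat.card_eq_fintype_card, Nat.card_eq_fintype_card (α := Y)]
  exact h

/-- inner products are unchanged by pulling back along a surjective homomorphism -/
theorem classInner_comp_surj (φ : X →* Y) (hφ : Function.Surjective φ) (f h : Y → ℂ) :
    Cfsg.classInner (fun x => f (φ x)) (fun x => h (φ x)) = Cfsg.classInner f h := by
  unfold Cfsg.classInner
  rw [sum_comp_surj φ hφ (fun y => f y * conj (h y)), card_eq_card_ker_mul φ hφ]
  have h1 : (Nat.card φ.ker : ℂ) ≠ 0 := by
    exact_mod_cast (Nat.card_pos (α := φ.ker)).ne'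
  have h2 : (Nat.card Y : ℂ) ≠ 0 := by
    exact_mod_cast (Nat.card_pos (α := Y)).ne'
  field_simp

omit [Fintype Y] in
/-- an irreducible character trivial on the kernel of a surjection descends -/
theorem exists_isIrrCharacter_descend (φ : X →* Y) (hφ : Function.Surjective φ)
    {χ : X → ℂ} (hχ : Cfsg.IsIrrCharacter X χ) (hker : ∀ x ∈ φ.ker, χ x = χ 1) :
    ∃ ψ : Y → ℂ, Cfsg.IsIrrCharacter Y ψ ∧ ∀ x : X, ψ (φ x) = χ x := by
  obtain ⟨ψ', hψ', h⟩ := Helper80.exists_isIrrCharacter_deflate φ.ker hχ hker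
  let e : X ⧸ φ.ker ≃* Y := QuotientGroup.quotientKerEquivOfSurjective φ hφ
  refine ⟨fun y => ψ' (e.symm y), Helper80.isIrrCharacter_comp_mulEquiv e.symm hψ', fun x => ?_⟩
  have h1 : e.symm (φ x) = (x : X ⧸ φ.ker) := by
    rw [MulEquiv.symm_apply_eq]
    rfl
  show ψ' (e.symm (φ x)) = χ x
  rw [h1, h]

omit [Fintype Y] in
/-- a character trivial on the kernel of a surjection descends -/
theorem exists_isCharacter_descend (φ : X →* Y) (hφ : Function.Surjective φ)
    {χ : X → ℂ} (hχ : Cfsg.IsCharacter X χ) (hker : ∀ x ∈ φ.ker, χ x = χ 1) :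
    ∃ ψ : Y → ℂ, Cfsg.IsCharacter Y ψ ∧ ∀ x : X, ψ (φ x) = χ x := by
  obtain ⟨ψ', hψ', h⟩ := Helper80.exists_isCharacter_deflate φ.ker hχ hker
  let e : X ⧸ φ.ker ≃* Y := QuotientGroup.quotientKerEquivOfSurjective φ hφ
  refine ⟨fun y => ψ' (e.symm y), Helper80.isCharacter_comp e.symm.toMonoidHom hψ', fun x => ?_⟩
  have h1 : e.symm (φ x) = (x : X ⧸ φ.ker) := by
    rw [MulEquiv.symm_apply_eq]
    rfl
  show ψ' (e.symm (φ x)) = χ x
  rw [h1, h]

end Surj

section Coset

variable {G : Type*} [Group G] [Finite G] (N : Subgroup G)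

/-- a character trivial on a subgroup is constant on its cosets -/
theorem char_mul_left_of_trivial {χ : G → ℂ} (hχ : Cfsg.IsCharacter G χ)
    (hN : ∀ n ∈ N, χ n = χ 1) (n : N) (g : G) : χ ((n : G) * g) = χ g := by
  obtain ⟨d, ρ, rfl⟩ := hχ
  have h1 := hN n n.2
  rw [Representation.char_one, Helper80.char_eq_finrank_iff] at h1
  unfold Representation.character
  rw [map_mul, h1, one_mul]

end Coset

section Gallagher

variable {G : Type*} [Group G] [Fintype G] (N : Subgroup G) [N.Normal] [Fintype N]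

/-- averaging over the cosets of `N` -/
theorem sum_eq_sum_coset (F : G → ℂ) :
    ∑ g : G, F g = (Nat.card N : ℂ)⁻¹ * ∑ g : G, ∑ n : N, F ((n : G) * g) := by
  rw [Finset.sum_comm]
  have h : ∀ n : N, ∑ g : G, F ((n : G) * g) = ∑ g : G, F g := fun n =>
    Fintype.sum_equiv (Equiv.mulLeft (n : G)) _ _ (fun g => rfl)
  rw [Finset.sum_congr rfl (fun n _ => h n), Finset.sum_const, Finset.card_univ, nsmul_eq_mul,
    ← Nat.card_eq_fintype_card, ← mul_assoc, inv_mul_cancel₀, one_mul]
  exact_mod_cast (Nat.card_pos (α := N)).ne'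

/-- **Gallagher isometry**: multiplication by a character restricting irreducibly to `N`
preserves inner products of functions constant on the cosets of `N` -/
theorem classInner_mul_ext {χ : G → ℂ} (hχ : Cfsg.IsIrrCharacter G χ)
    (hχN : Cfsg.IsIrrCharacter N (fun n : N => χ n)) {f h : G → ℂ}
    (hf : ∀ (n : N) (g : G), f ((n : G) * g) = f g)
    (hh : ∀ (n : N) (g : G), h ((n : G) * g) = h g) :
    Cfsg.classInner (f * χ) (h * χ) = Cfsg.classInner f h := by
  unfold Cfsg.classInner
  congr 1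
  have key := Cfsg.Agent.S0868.avg_self N χ hχ hχN
  rw [sum_eq_sum_coset N]
  have h1 : ∀ g : G, ∑ n : N, (f * χ) ((n : G) * g) * conj ((h * χ) ((n : G) * g)) =
      (Nat.card N : ℂ) * (f g * conj (h g)) := by
    intro g
    have h2 := congrFun key g
    have h3 : ∑ n : N, (f * χ) ((n : G) * g) * conj ((h * χ) ((n : G) * g)) =
        (f g * conj (h g)) * ∑ n : N, χ ((n : G) * g) * conj (χ ((n : G) * g)) := by
      rw [Finset.mul_sum]
      refine Finset.sum_congr rfl fun n _ => ?_
      simp only [Pi.mul_apply, map_mul]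
      rw [hf, hh]
      ring
    rw [h3]
    have hN0 : (Nat.card N : ℂ) ≠ 0 := by exact_mod_cast (Nat.card_pos (α := N)).ne'
    have h4 : ∑ n : N, χ ((n : G) * g) * conj (χ ((n : G) * g)) = (Nat.card N : ℂ) := by
      field_simp at h2
      linear_combination h2
    rw [h4]
    ring
  rw [Finset.sum_congr rfl (fun g _ => h1 g), ← Finset.mul_sum, ← mul_assoc, inv_mul_cancel₀,
    one_mul]
  exact_mod_cast (Nat.card_pos (α := N)).ne'

/-- a function constant on the cosets of `N` is orthogonal to every irreducible character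
that is not trivial on `N` -/
theorem classInner_eq_zero_of_nontrivial {η β : G → ℂ}
    (hη : ∀ (n : N) (g : G), η ((n : G) * g) = η g) (hβ : Cfsg.IsIrrCharacter G β)
    (hβN : ¬ ∀ n : N, β n = β 1) : Cfsg.classInner η β = 0 := by
  unfold Cfsg.classInner
  have hsum0 : ∑ n : N, β n = 0 := by
    by_contra hne
    apply hβN
    intro n
    have := Cfsg.Agent.S0868.translate_of_constituent N hβ hne n 1
    rwa [mul_one] at this
  have h0 : Cfsg.classInner (fun n : N => β n) (fun n : N => (fun _ : G => (1 : ℂ)) n) = 0 := by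
    unfold Cfsg.classInner
    simp only [map_one, mul_one]
    rw [hsum0, mul_zero]
  have hz := (Cfsg.Agent.S0868.result N (fun _ => (1 : ℂ)) Helper80.isIrrCharacter_one
    Helper80.isIrrCharacter_one β hβ _ rfl).2.1 h0
  have hz' : ∀ g : G, ∑ n : N, β ((n : G) * g) = 0 := by
    intro g
    have h1 := congrFun hz g
    simp only [map_one, mul_one, Pi.zero_apply] at h1
    have hN0 : (Nat.card N : ℂ)⁻¹ ≠ 0 :=
      inv_ne_zero (by exact_mod_cast (Nat.card_pos (α := N)).ne')
    exact (mul_eq_zero.1 h1).resolve_left hN0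
  rw [sum_eq_sum_coset N]
  have h1 : ∀ g : G, ∑ n : N, η ((n : G) * g) * conj (β ((n : G) * g)) = 0 := by
    intro g
    have h2 : ∑ n : N, η ((n : G) * g) * conj (β ((n : G) * g)) =
        η g * conj (∑ n : N, β ((n : G) * g)) := by
      rw [map_sum, Finset.mul_sum]
      refine Finset.sum_congr rfl fun n _ => ?_
      rw [hη]
    rw [h2, hz' g, map_zero, mul_zero]
  rw [Finset.sum_congr rfl (fun g _ => h1 g)]
  simp

end Gallagher

/-- if `θ` is a constituent of the restriction of `α` through `K`, some irreducible constituent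
of the restriction of `α` to `K` lies over `θ` -/
theorem exists_mid_constituent {H K Q : Type u} [Group H] [Fintype H] [Group K] [Fintype K]
    [Group Q] [Fintype Q] (f : K →* H) (g : Q →* K) {α : H → ℂ} {θ : Q → ℂ}
    (hα : Cfsg.IsCharacter H α)
    (h : Cfsg.classInner (fun q => α (f (g q))) θ ≠ 0) :
    ∃ ψ : K → ℂ, Cfsg.IsIrrCharacter K ψ ∧ Cfsg.classInner (fun k => α (f k)) ψ ≠ 0 ∧
      Cfsg.classInner (fun q => ψ (g q)) θ ≠ 0 := by
  classical
  haveI : Fintype (Cfsg.IrrCharacter K) := Fintype.ofFinite _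
  obtain ⟨m, hm, hsum⟩ := Helper80.character_expansion (Helper80.isCharacter_comp f hα)
  have h3 : Cfsg.classInner (fun q => α (f (g q))) θ =
      ∑ ψ : Cfsg.IrrCharacter K, (m ψ : ℂ) * Cfsg.classInner (fun q => (ψ : K → ℂ) (g q)) θ := by
    have h4 : (fun q => α (f (g q))) =
        ∑ ψ : Cfsg.IrrCharacter K, (m ψ : ℂ) • (fun q => (ψ : K → ℂ) (g q)) := by
      funext q
      have h5 := congrFun hsum (g q)
      simp only [Finset.sum_apply, Pi.smul_apply] at h5 ⊢
      exact h5
    rw [h4, Helper80.classInner_sum_left]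
    refine Finset.sum_congr rfl (fun ψ _ => ?_)
    rw [Helper80.classInner_smul_left]
  rw [h3] at h
  obtain ⟨ψ, -, hψ⟩ := Finset.exists_ne_zero_of_sum_ne_zero h
  refine ⟨ψ.1, ψ.2, ?_, ?_⟩
  · rw [hm ψ]
    intro h0
    apply hψ
    rw [h0, zero_mul]
  · intro h0
    apply hψ
    rw [h0, mul_zero]

end Cfsg.Agent.Lib.Helper81
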