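import Mathlib
import Cfsg.Prelude.Def_Characters
import Cfsg.Agent.Lib.Helper81.RelChar

/-!
# Operators on a quotient and the Glauberman correspondence modulo a normal subgroup

`A` acts on `Γ`, `Q ≤ T` are `A`-invariant subgroups with `T` normalising `Q`, `A` is a
`p`-group and `p ∤ |T : Q|`.  With `D / Q` the fixed points of `A` on `T / Q`, the Glauberman
correspondence for `T / Q` is transported to the characters of `T` and `D` that are trivial on `Q`.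
-/

set_option autoImplicit false
set_option linter.unusedSectionVars false
set_option linter.style.haveILetI false

namespace Cfsg.Agent.Lib.Helper81

open scoped ComplexConjugate

universe u

section QuotAct

variable {Γ : Type u} [Group Γ] (H Q : Subgroup Γ) [hn : (Q.subgroupOf H).Normal]
  (A : Subgroup (MulAut Γ)) (hAH : ∀ a ∈ A, ∀ h ∈ H, a h ∈ H) (hAQ : ∀ a ∈ A, ∀ q ∈ Q, a q ∈ Q)

/-- the endomorphism of `H / Q` induced by an element of `A` -/
def quotAutFun (a : A) : (H ⧸ Q.subgroupOf H) →* (H ⧸ Q.subgroupOf H) :=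
  QuotientGroup.map (Q.subgroupOf H) (Q.subgroupOf H) (resAut H A hAH a).toMonoidHom (by
    intro x hx
    exact hAQ a.1 a.2 _ hx)

theorem quotAutFun_mk (a : A) (h : H) :
    quotAutFun H Q A hAH hAQ a (h : H ⧸ Q.subgroupOf H) =
      ((resAut H A hAH a h : H) : H ⧸ Q.subgroupOf H) := rfl

/-- the action of `A` on `H / Q` -/
def quotAut : A →* MulAut (H ⧸ Q.subgroupOf H) where
  toFun a :=
    { toFun := quotAutFun H Q A hAH hAQ a
      invFun := quotAutFun H Q A hAH hAQ a⁻¹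
      left_inv := by
        intro x
        induction x using QuotientGroup.induction_on with | H y => ?_
        rw [quotAutFun_mk, quotAutFun_mk, map_inv]
        congr 1
        exact (resAut H A hAH a).symm_apply_apply y
      right_inv := by
        intro x
        induction x using QuotientGroup.induction_on with | H y => ?_
        rw [quotAutFun_mk, quotAutFun_mk, map_inv]
        congr 1
        exact (resAut H A hAH a).apply_symm_apply y
      map_mul' := map_mul _ }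
  map_one' := by
    apply MulEquiv.ext
    intro x
    induction x using QuotientGroup.induction_on with | H y => ?_
    show quotAutFun H Q A hAH hAQ 1 (y : H ⧸ Q.subgroupOf H) = _
    rw [quotAutFun_mk, map_one]
    rfl
  map_mul' := by
    intro a b
    apply MulEquiv.ext
    intro x
    induction x using QuotientGroup.induction_on with | H y => ?_
    show quotAutFun H Q A hAH hAQ (a * b) (y : H ⧸ Q.subgroupOf H) =
      quotAutFun H Q A hAH hAQ a (quotAutFun H Q A hAH hAQ b (y : H ⧸ Q.subgroupOf H))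
    rw [quotAutFun_mk, quotAutFun_mk, quotAutFun_mk, map_mul]
    rfl

theorem quotAut_mk (a : A) (h : H) :
    quotAut H Q A hAH hAQ a (h : H ⧸ Q.subgroupOf H) =
      ((resAut H A hAH a h : H) : H ⧸ Q.subgroupOf H) := rfl

end QuotAct

/-- **Glauberman correspondence** for a `p`-group of automorphisms of a `p'`-group -/
theorem glaub_abs {X : Type u} [Group X] [Finite X] (B : Subgroup (MulAut X)) (p : ℕ)
    (hp : p.Prime) (hpX : ¬ p ∣ Nat.card X) (hB : IsPGroup p B) [Fintype (fixSub B)] :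
    Helper75.GlaubCorr p (fixSub B).subtype (fun χ : X → ℂ => ∀ b ∈ B, ∀ x : X, χ (b x) = χ x) := by
  classical
  have hBG : ∀ b ∈ B, ∀ g ∈ (⊤ : Subgroup X), b g ∈ (⊤ : Subgroup X) :=
    fun _ _ _ _ => Subgroup.mem_top _
  have hpG : ¬ p ∣ Nat.card (⊤ : Subgroup X) := by
    rw [Subgroup.card_top]
    exact hpX
  have hQp : IsPGroup p (resAut (⊤ : Subgroup X) B hBG).range :=
    hB.of_surjective (resAut (⊤ : Subgroup X) B hBG).rangeRestrict
      (MonoidHom.rangeRestrict_surjective _)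
  haveI : Fintype ((⊤ : Subgroup X) ⊓ fixSub B : Subgroup X) := Fintype.ofFinite _
  have gl := glaub_rel (⊤ : Subgroup X) B hBG p hp hpG hQp
  refine Helper75.GlaubCorr.transport (Subgroup.topEquiv : (⊤ : Subgroup X) ≃* X)
    (MulEquiv.subgroupCongr (top_inf_eq (fixSub B))) (fun c' => rfl) ?_ ?_ gl
  · intro χ hχ b hb g h
    exact hχ b hb g
  · intro χ' hχ' b hb x
    exact hχ' b hb ⟨x, Subgroup.mem_top x⟩ (Subgroup.mem_top _)

section GlaubMod

variable {Γ : Type u} [Group Γ] [Fintype Γ]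

/-- **Glauberman correspondence modulo `Q`**: characters of `T` and `D` trivial on `Q` -/
theorem glaub_mod (T Q D : Subgroup Γ) (A : Subgroup (MulAut Γ)) [Fintype T] [Fintype D]
    (p : ℕ) (hp : p.Prime) (hA : IsPGroup p A)
    (hAT : ∀ a ∈ A, ∀ t ∈ T, a t ∈ T) (hAQ : ∀ a ∈ A, ∀ q ∈ Q, a q ∈ Q)
    (hQT : Q ≤ T) (hQn : ∀ t ∈ T, ∀ q ∈ Q, t * q * t⁻¹ ∈ Q)
    (hpT : ¬ p ∣ Q.relIndex T) (hDT : D ≤ T) (hQD : Q ≤ D)
    (hD : ∀ x : Γ, x ∈ D ↔ x ∈ T ∧ ∀ a ∈ A, a x * x⁻¹ ∈ Q) :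
    GlaubCorrOn p (Subgroup.inclusion hDT)
      (fun α : T → ℂ => InvR A T α ∧ ∀ q : Q, α ⟨q, hQT q.2⟩ = α 1)
      (fun β : D → ℂ => ∀ q : Q, β ⟨q, hQD q.2⟩ = β 1) := by
  classical
  haveI hn : (Q.subgroupOf T).Normal := by
    constructor
    intro n hn g
    rw [Subgroup.mem_subgroupOf] at hn ⊢
    exact hQn g g.2 n hn
  let ρ : A →* MulAut (T ⧸ Q.subgroupOf T) := quotAut T Q A hAT hAQ
  have hB : IsPGroup p ρ.range := hA.of_surjective ρ.rangeRestrict ρ.rangeRestrict_surjective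
  have hpX : ¬ p ∣ Nat.card (T ⧸ Q.subgroupOf T) := by
    rw [← Subgroup.index_eq_card]
    exact hpT
  haveI : Fintype (fixSub ρ.range) := Fintype.ofFinite _
  have gl := glaub_abs ρ.range p hp hpX hB
  let φ : T →* T ⧸ Q.subgroupOf T := QuotientGroup.mk' (Q.subgroupOf T)
  have hφs : Function.Surjective φ := QuotientGroup.mk'_surjective _
  have hφ1 : ∀ t : T, φ t = 1 ↔ (t : Γ) ∈ Q := fun t => QuotientGroup.eq_one_iff t
  have hρφ : ∀ (a : A) (t : T), ρ a (φ t) = φ (resAut T A hAT a t) := fun a t => rfl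
  have hfix : ∀ t : T, φ t ∈ fixSub ρ.range ↔ (t : Γ) ∈ D := by
    intro t
    rw [hD]
    constructor
    · intro h
      refine ⟨t.2, fun a ha => ?_⟩
      have h1 := h (ρ ⟨a, ha⟩) ⟨_, rfl⟩
      rw [hρφ] at h1
      have h2 : (resAut T A hAT ⟨a, ha⟩ t)⁻¹ * t ∈ Q.subgroupOf T := QuotientGroup.eq.1 h1
      rw [Subgroup.mem_subgroupOf] at h2
      have h3 : (a (t : Γ))⁻¹ * (t : Γ) ∈ Q := h2
      have h4 := hQn t t.2 _ (Q.inv_mem h3)
      have h5 : (t : Γ) * ((a (t : Γ))⁻¹ * (t : Γ))⁻¹ * (t : Γ)⁻¹ = a (t : Γ) * (t : Γ)⁻¹ := by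
        group
      rwa [h5] at h4
    · rintro ⟨-, h⟩ b ⟨a, rfl⟩
      rw [hρφ]
      apply QuotientGroup.eq.2
      rw [Subgroup.mem_subgroupOf]
      show (a.1 (t : Γ))⁻¹ * (t : Γ) ∈ Q
      have h1 := hQn (t : Γ)⁻¹ (T.inv_mem t.2) _ (Q.inv_mem (h a.1 a.2))
      have h2 : (t : Γ)⁻¹ * (a.1 (t : Γ) * (t : Γ)⁻¹)⁻¹ * (t : Γ)⁻¹⁻¹ =
          (a.1 (t : Γ))⁻¹ * (t : Γ) := by group
      rwa [h2] at h1
  let φD : D →* fixSub ρ.range :=
    (φ.comp (Subgroup.inclusion hDT)).codRestrict (fixSub ρ.range)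
      (fun d => (hfix (Subgroup.inclusion hDT d)).2 d.2)
  have hφD : ∀ d : D, ((φD d : fixSub ρ.range) : T ⧸ Q.subgroupOf T) =
      φ (Subgroup.inclusion hDT d) := fun d => rfl
  have hφDs : Function.Surjective φD := by
    rintro ⟨x, hx⟩
    obtain ⟨t, rfl⟩ := hφs x
    exact ⟨⟨t, (hfix t).1 hx⟩, Subtype.ext rfl⟩
  have hφDker : ∀ d : D, d ∈ φD.ker → (d : Γ) ∈ Q := by
    intro d hd
    rw [MonoidHom.mem_ker] at hd
    have h1 := congrArg Subtype.val hd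
    rw [hφD] at h1
    exact (hφ1 _).1 h1
  have hφDQ : ∀ q : Q, φD ⟨q, hQD q.2⟩ = 1 := by
    intro q
    apply Subtype.ext
    rw [hφD]
    exact (hφ1 _).2 q.2
  -- descent of characters of `D` trivial on `Q`
  have hdesc : ∀ β : D → ℂ, Cfsg.IsIrrCharacter D β → (∀ q : Q, β ⟨q, hQD q.2⟩ = β 1) →
      ∃ β' : fixSub ρ.range → ℂ, Cfsg.IsIrrCharacter _ β' ∧ ∀ d : D, β' (φD d) = β d := by
    intro β hβ hβQ
    exact exists_isIrrCharacter_descend φD hφDs hβ (fun d hd => hβQ ⟨d, hφDker d hd⟩)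
  -- descent of characters of `T` trivial on `Q`
  have hdescT : ∀ α : T → ℂ, Cfsg.IsIrrCharacter T α → (∀ q : Q, α ⟨q, hQT q.2⟩ = α 1) →
      ∃ α' : T ⧸ Q.subgroupOf T → ℂ, Cfsg.IsIrrCharacter _ α' ∧ ∀ t : T, α' (φ t) = α t := by
    intro α hα hαQ
    exact Helper80.exists_isIrrCharacter_deflate (Q.subgroupOf T) hα
      (fun x hx => hαQ ⟨x, hx⟩)
  have hinvT : ∀ (α : T → ℂ) (α' : T ⧸ Q.subgroupOf T → ℂ), (∀ t : T, α' (φ t) = α t) →
      InvR A T α → ∀ b ∈ ρ.range, ∀ x : T ⧸ Q.subgroupOf T, α' (b x) = α' x := by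
    rintro α α' hαα' hinv b ⟨a, rfl⟩ x
    obtain ⟨t, rfl⟩ := hφs x
    rw [hρφ, hαα', hαα']
    exact hinv a.1 a.2 t _
  have key : ∀ (α' : T ⧸ Q.subgroupOf T → ℂ) (β' : fixSub ρ.range → ℂ),
      Cfsg.classInner (fun d : D => α' (φ (Subgroup.inclusion hDT d))) (fun d => β' (φD d)) =
        Cfsg.classInner (fun c => α' ((fixSub ρ.range).subtype c)) β' :=
    fun α' β' => classInner_comp_surj φD hφDs (fun c => α' ((fixSub ρ.range).subtype c)) β'
  have key2 : ∀ (α : T → ℂ) (α' : T ⧸ Q.subgroupOf T → ℂ) (β : D → ℂ)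
      (β' : fixSub ρ.range → ℂ), (∀ t : T, α' (φ t) = α t) → (∀ d : D, β' (φD d) = β d) →
      Cfsg.classInner (fun d : D => α (Subgroup.inclusion hDT d)) β =
        Cfsg.classInner (fun c => α' ((fixSub ρ.range).subtype c)) β' := by
    intro α α' β β' h1 h2
    rw [← key α' β']
    congr 1
    · funext d
      rw [h1]
    · funext d
      rw [h2]
  refine ⟨?_, ?_, ?_⟩
  · rintro α hα ⟨hinv, hαQ⟩
    obtain ⟨α', hα', hαα'⟩ := hdescT α hα hαQ
    obtain ⟨β', ε, hβ', hε, hall⟩ := gl.1 α' hα' (hinvT α α' hαα' hinv)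
    refine ⟨fun d => β' (φD d), ε, Helper80.isIrrCharacter_comp φD hφDs hβ', ?_, hε, ?_⟩
    · intro q
      show β' (φD ⟨q, hQD q.2⟩) = β' (φD 1)
      rw [hφDQ, map_one]
    · intro β₁ hβ₁ hβ₁Q
      obtain ⟨β₁', hβ₁', hββ'⟩ := hdesc β₁ hβ₁ hβ₁Q
      obtain ⟨m, hm, hm1, hm2⟩ := hall β₁' hβ₁'
      refine ⟨m, ?_, ?_, ?_⟩
      · rw [key2 α α' β₁ β₁' hαα' hββ']
        exact hm
      · intro h
        apply hm1
        funext c
        obtain ⟨d, rfl⟩ := hφDs c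
        rw [hββ', h]
      · intro h
        apply hm2
        intro h'
        apply h
        funext d
        rw [← hββ', h']
  · rintro α₁ α₂ hα₁ hα₂ ⟨hinv₁, hαQ₁⟩ ⟨hinv₂, hαQ₂⟩ β hβ hβQ m m' hm hpm hm' hpm'
    obtain ⟨α₁', hα₁', hαα₁'⟩ := hdescT α₁ hα₁ hαQ₁
    obtain ⟨α₂', hα₂', hαα₂'⟩ := hdescT α₂ hα₂ hαQ₂
    obtain ⟨β', hβ', hββ'⟩ := hdesc β hβ hβQ
    rw [key2 α₁ α₁' β β' hαα₁' hββ'] at hm
    rw [key2 α₂ α₂' β β' hαα₂' hββ'] at hm'
    have h := gl.2.1 α₁' α₂' hα₁' hα₂' (hinvT α₁ α₁' hαα₁' hinv₁) (hinvT α₂ α₂' hαα₂' hinv₂) β'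
      hβ' m m' hm hpm hm' hpm'
    funext t
    rw [← hαα₁', ← hαα₂', h]
  · intro β hβ hβQ
    obtain ⟨β', hβ', hββ'⟩ := hdesc β hβ hβQ
    obtain ⟨α', hα', hinv', m, hm, hpm⟩ := gl.2.2 β' hβ'
    refine ⟨fun t => α' (φ t), Helper80.isIrrCharacter_comp φ hφs hα', ⟨?_, ?_⟩, m, ?_, hpm⟩
    · intro a ha t h
      show α' (φ ⟨a (t : Γ), h⟩) = α' (φ t)
      have h1 := hinv' (ρ ⟨a, ha⟩) ⟨_, rfl⟩ (φ t)
      rw [hρφ] at h1
      exact h1
    · intro q
      show α' (φ ⟨q, hQT q.2⟩) = α' (φ 1)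
      rw [(hφ1 _).2 q.2, map_one]
    · rw [key2 (fun t => α' (φ t)) α' β β' (fun t => rfl) hββ']
      exact hm

end GlaubMod

end Cfsg.Agent.Lib.Helper81
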