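import Mathlib
import Cfsg.Prelude.Def_Characters
import Cfsg.Prelude.Def_CharExt
import Cfsg.Agent.Lib.Helper81.QuotAct
import Cfsg.Agent.Lib.Helper75.CentExt7
import Cfsg.Agent.Lib.Helper75.Glaub2
import Cfsg.Agent.S0856

/-!
# Gallagher's correspondence in relative form and the Glauberman correspondence over an
invariant character of a normal Sylow subgroup
-/

set_option autoImplicit false
set_option linter.unusedSectionVars false
set_option linter.style.haveILetI false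

namespace Cfsg.Agent.Lib.Helper81

open scoped ComplexConjugate

universe u

/-- a character with an irreducible pull-back is irreducible -/
theorem isIrrCharacter_of_comp_irr {D Q' : Type u} [Group D] [Fintype D] [Group Q'] [Fintype Q']
    (φ : Q' →* D) {χ : D → ℂ} (hχ : Cfsg.IsCharacter D χ)
    (hirr : Cfsg.IsIrrCharacter Q' (fun q => χ (φ q))) : Cfsg.IsIrrCharacter D χ := by
  classical
  haveI : Fintype (Cfsg.IrrCharacter D) := Fintype.ofFinite _
  have h1 : χ 1 ≠ 0 := by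
    have := Helper80.char_one_ne_zero hirr
    simpa [map_one] using this
  obtain ⟨γ, hγ, hne⟩ := exists_constituent81 hχ h1
  have hγc := Helper80.isCharacter_of_isIrrCharacter hγ
  have hγφ : Cfsg.IsCharacter Q' (fun q => γ (φ q)) := Helper80.isCharacter_comp φ hγc
  have hγ1 : (fun q => γ (φ q)) 1 ≠ 0 := by
    have := Helper80.char_one_ne_zero hγ
    simpa [map_one] using this
  obtain ⟨δ, hδ, hne2⟩ := exists_constituent81 hγφ hγ1
  have h3 := constituent_trans φ hχ hγ (Helper80.isCharacter_of_isIrrCharacter hδ) hne hne2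
  have h4 : (fun q => χ (φ q)) = δ := by
    by_contra hcon
    rw [Helper80.classInner_irr_fun hirr hδ, if_neg hcon] at h3
    exact h3 rfl
  have h5 := charDegree_le_of_constituent hγφ hδ hne2
  have h6 : Cfsg.charDegree χ ≤ Cfsg.charDegree γ := by
    have e1 : Cfsg.charDegree δ = Cfsg.charDegree χ := by
      rw [← h4]
      show ⌊(χ (φ 1)).re⌋₊ = ⌊(χ 1).re⌋₊
      rw [map_one]
    have e2 : Cfsg.charDegree (fun q => γ (φ q)) = Cfsg.charDegree γ := by
      show ⌊(γ (φ 1)).re⌋₊ = ⌊(γ 1).re⌋₊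
      rw [map_one]
    rw [e1, e2] at h5
    exact h5
  rw [Helper80.eq_of_constituent_of_degree_le hχ hγ hne h6]
  exact hγ

section GallagherType

variable {G : Type u} [Group G] [Fintype G] (N : Subgroup G) [hN : N.Normal] [Fintype N]

/-- **Gallagher's correspondence**: if `χ` restricts irreducibly to the normal subgroup `N`,
multiplication by `χ` is a bijection from the irreducible characters trivial on `N` onto the
irreducible characters lying over `χ_N` -/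
theorem gallagher_bij {χ : G → ℂ} (hχ : Cfsg.IsIrrCharacter G χ)
    (hχN : Cfsg.IsIrrCharacter N (fun n : N => χ n)) :
    Set.BijOn (fun β : G → ℂ => β * χ)
      {β : G → ℂ | Cfsg.IsIrrCharacter G β ∧ ∀ n : N, β n = β 1}
      {ψ : G → ℂ | Cfsg.IsIrrCharacter G ψ ∧
        Cfsg.classInner (fun n : N => ψ n) (fun n : N => χ n) ≠ 0} := by
  classical
  have hχc := Helper80.isCharacter_of_isIrrCharacter hχ
  have h1irr : Cfsg.IsIrrCharacter N (fun _ : N => (1 : ℂ)) := Helper80.isIrrCharacter_one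
  have hmul : ((fun _ : N => (1 : ℂ)) * fun n : N => χ n) = fun n : N => χ n := by
    funext n; simp
  have hbij := Cfsg.Agent.S0856.result N (fun _ : N => (1 : ℂ)) (fun n : N => χ n) h1irr hχN
    (fun _ _ => rfl) (fun g n => Helper80.char_conj_eq hχc (n : G) g)
    (by rw [hmul]; exact hχN) χ hχ (fun _ => rfl)
  rw [hmul] at hbij
  have e1 : {β : G → ℂ | Cfsg.IsIrrCharacter G β ∧ ∀ n : N, β n = β 1} =
      {β : G → ℂ | Cfsg.IsIrrCharacter G β ∧
        Cfsg.classInner (Cfsg.indFun N (fun _ : N => (1 : ℂ))) β ≠ 0} := by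
    ext β
    simp only [Set.mem_ofPred_eq]
    refine and_congr_right (fun hβ => ?_)
    have hβc := Helper80.isCharacter_of_isIrrCharacter hβ
    have hβcf : Cfsg.IsClassFunction G β := fun g h => Helper80.char_conj_eq hβc g h
    rw [Helper80.frobenius_reciprocity N _ β hβcf]
    constructor
    · intro h
      have h2 : Cfsg.classInner (fun _ : N => (1 : ℂ)) (fun h : N => β h) = conj (β 1) := by
        show (Nat.card N : ℂ)⁻¹ * ∑ n : N, (1 : ℂ) * conj (β n) = conj (β 1)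
        have h3 : ∑ n : N, (1 : ℂ) * conj (β n) = (Nat.card N : ℂ) * conj (β 1) := by
          rw [Finset.sum_congr rfl (fun n _ => by rw [h n, one_mul]), Finset.sum_const,
            Finset.card_univ, nsmul_eq_mul, ← Nat.card_eq_fintype_card]
        rw [h3, ← mul_assoc, inv_mul_cancel₀ (by exact_mod_cast (Nat.card_pos (α := N)).ne'),
          one_mul]
      rw [h2]
      exact (map_ne_zero _).2 (Helper80.char_one_ne_zero hβ)
    · intro h n
      have hsum : ∑ n : N, β n ≠ 0 := by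
        intro h0
        apply h
        show (Nat.card N : ℂ)⁻¹ * ∑ n : N, (1 : ℂ) * conj (β n) = 0
        simp only [one_mul]
        rw [← map_sum, h0, map_zero, mul_zero]
      have := Cfsg.Agent.S0868.translate_of_constituent N hβ hsum n 1
      rwa [mul_one] at this
  have e2 : {ψ : G → ℂ | Cfsg.IsIrrCharacter G ψ ∧
      Cfsg.classInner (fun n : N => ψ n) (fun n : N => χ n) ≠ 0} =
      {ψ : G → ℂ | Cfsg.IsIrrCharacter G ψ ∧
        Cfsg.classInner (Cfsg.indFun N (fun n : N => χ n)) ψ ≠ 0} := by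
    ext ψ
    simp only [Set.mem_ofPred_eq]
    refine and_congr_right (fun hψ => ?_)
    have hψc := Helper80.isCharacter_of_isIrrCharacter hψ
    have hψcf : Cfsg.IsClassFunction G ψ := fun g h => Helper80.char_conj_eq hψc g h
    rw [Helper80.frobenius_reciprocity N _ ψ hψcf,
      ← Helper80.classInner_conj_symm (fun n : N => χ n) (fun n : N => ψ n)]
    exact (map_ne_zero _)
  rw [e1, e2]
  exact hbij

end GallagherType

section GallagherRel

variable {Γ : Type u} [Group Γ] [Fintype Γ] (H Q : Subgroup Γ) [Fintype H] [Fintype Q]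

/-- a character trivial on `Q ≤ H` is constant on the cosets of `Q` -/
theorem char_mul_left_of_trivial_rel (hQH : Q ≤ H) {χ : H → ℂ} (hχ : Cfsg.IsCharacter H χ)
    (hχQ : ∀ q : Q, χ ⟨q, hQH q.2⟩ = χ 1) (q : Γ) (hq : q ∈ Q) (h : H) :
    χ (⟨q, hQH hq⟩ * h) = χ h :=
  char_mul_left_of_trivial (Q.subgroupOf H) hχ (fun n hn => hχQ ⟨n, hn⟩)
    ⟨⟨q, hQH hq⟩, hq⟩ h

/-- **Gallagher's correspondence**, relative form -/
theorem gallagher_bij_rel (hQH : Q ≤ H) (hQn : ∀ h ∈ H, ∀ q ∈ Q, h * q * h⁻¹ ∈ Q)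
    {χ : H → ℂ} (hχ : Cfsg.IsIrrCharacter H χ)
    (hχQ : Cfsg.IsIrrCharacter Q (fun q : Q => χ ⟨q, hQH q.2⟩)) :
    Set.BijOn (fun β : H → ℂ => β * χ)
      {β : H → ℂ | Cfsg.IsIrrCharacter H β ∧ ∀ q : Q, β ⟨q, hQH q.2⟩ = β 1}
      {ψ : H → ℂ | Cfsg.IsIrrCharacter H ψ ∧
        Cfsg.classInner (fun q : Q => ψ ⟨q, hQH q.2⟩) (fun q : Q => χ ⟨q, hQH q.2⟩) ≠ 0} := by
  classical
  haveI hn : (Q.subgroupOf H).Normal := by
    constructor
    intro n hn g
    rw [Subgroup.mem_subgroupOf] at hn ⊢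
    exact hQn g g.2 n hn
  haveI : Fintype (Q.subgroupOf H) := Fintype.ofFinite _
  let e : Q.subgroupOf H ≃* Q := Subgroup.subgroupOfEquivOfLe hQH
  have hχN : Cfsg.IsIrrCharacter (Q.subgroupOf H) (fun n : Q.subgroupOf H => χ n) :=
    Helper80.isIrrCharacter_comp_mulEquiv e hχQ
  have hb := gallagher_bij (Q.subgroupOf H) hχ hχN
  have e1 : {β : H → ℂ | Cfsg.IsIrrCharacter H β ∧ ∀ q : Q, β ⟨q, hQH q.2⟩ = β 1} =
      {β : H → ℂ | Cfsg.IsIrrCharacter H β ∧ ∀ n : Q.subgroupOf H, β n = β 1} := by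
    ext β
    simp only [Set.mem_ofPred_eq]
    refine and_congr_right (fun _ => ⟨fun h n => h (e n), fun h q => h (e.symm q)⟩)
  have e2 : {ψ : H → ℂ | Cfsg.IsIrrCharacter H ψ ∧
      Cfsg.classInner (fun q : Q => ψ ⟨q, hQH q.2⟩) (fun q : Q => χ ⟨q, hQH q.2⟩) ≠ 0} =
      {ψ : H → ℂ | Cfsg.IsIrrCharacter H ψ ∧
        Cfsg.classInner (fun n : Q.subgroupOf H => ψ n) (fun n : Q.subgroupOf H => χ n) ≠ 0} := by
    ext ψ
    simp only [Set.mem_ofPred_eq]
    refine and_congr_right (fun _ => ?_)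
    have h1 : Cfsg.classInner (fun n : Q.subgroupOf H => ψ n) (fun n : Q.subgroupOf H => χ n) =
        Cfsg.classInner (fun q : Q => ψ ⟨q, hQH q.2⟩) (fun q : Q => χ ⟨q, hQH q.2⟩) :=
      classInner_comp_mulEquiv e (fun q : Q => ψ ⟨q, hQH q.2⟩) (fun q : Q => χ ⟨q, hQH q.2⟩)
    rw [h1]
  rw [e1, e2]
  exact hb

/-- **Gallagher isometry**, relative form -/
theorem classInner_mul_ext_rel (hQH : Q ≤ H) (hQn : ∀ h ∈ H, ∀ q ∈ Q, h * q * h⁻¹ ∈ Q)
    {χ : H → ℂ} (hχ : Cfsg.IsIrrCharacter H χ)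
    (hχQ : Cfsg.IsIrrCharacter Q (fun q : Q => χ ⟨q, hQH q.2⟩)) {f h : H → ℂ}
    (hf : Cfsg.IsCharacter H f) (hfQ : ∀ q : Q, f ⟨q, hQH q.2⟩ = f 1)
    (hh : Cfsg.IsCharacter H h) (hhQ : ∀ q : Q, h ⟨q, hQH q.2⟩ = h 1) :
    Cfsg.classInner (f * χ) (h * χ) = Cfsg.classInner f h := by
  classical
  haveI hn : (Q.subgroupOf H).Normal := by
    constructor
    intro n hn g
    rw [Subgroup.mem_subgroupOf] at hn ⊢
    exact hQn g g.2 n hn
  haveI : Fintype (Q.subgroupOf H) := Fintype.ofFinite _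
  let e : Q.subgroupOf H ≃* Q := Subgroup.subgroupOfEquivOfLe hQH
  have hχN : Cfsg.IsIrrCharacter (Q.subgroupOf H) (fun n : Q.subgroupOf H => χ n) :=
    Helper80.isIrrCharacter_comp_mulEquiv e hχQ
  exact classInner_mul_ext (Q.subgroupOf H) hχ hχN
    (fun n g => char_mul_left_of_trivial (Q.subgroupOf H) hf (fun n hn => hfQ ⟨n, hn⟩) n g)
    (fun n g => char_mul_left_of_trivial (Q.subgroupOf H) hh (fun n hn => hhQ ⟨n, hn⟩) n g)

end GallagherRel

/-- the determinantal order is unchanged by pulling back along an isomorphism -/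
theorem detOrder_comp_mulEquiv {G H : Type u} [Group G] [Finite G] [Group H] [Finite H]
    (σ : H ≃* G) {χ : G → ℂ} (hχ : Cfsg.IsCharacter G χ) :
    Cfsg.detOrder (fun h => χ (σ h)) = Cfsg.detOrder χ := by
  unfold Cfsg.detOrder
  have h1 : Cfsg.detChar (fun h => χ (σ h)) = fun h => Cfsg.detChar χ (σ h) :=
    Helper15.detChar_comp σ.toMonoidHom hχ
  rw [h1]
  let F : (G → ℂ) →* (H → ℂ) :=
    { toFun := fun f h => f (σ h), map_one' := rfl, map_mul' := fun _ _ => rfl }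
  have hF : Function.Injective F := by
    intro f g hfg
    funext x
    have h2 := congrFun hfg (σ.symm x)
    have h3 : ∀ f : G → ℂ, F f (σ.symm x) = f x := fun f => by
      show f (σ (σ.symm x)) = f x
      rw [σ.apply_symm_apply]
    rwa [h3, h3] at h2
  exact orderOf_injective F hF (Cfsg.detChar χ)

section Ext

variable {Γ : Type u} [Group Γ] [Fintype Γ] (T Q : Subgroup Γ) [Fintype T] [Fintype Q]
  (A : Subgroup (MulAut Γ))

/-- an invariant irreducible character of a normal subgroup `Q` of `T` whose order is prime to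
the index has an extension to `T` which is invariant under every group of automorphisms fixing
the character -/
theorem exists_inv_extension (hAT : ∀ a ∈ A, ∀ t ∈ T, a t ∈ T)
    (hAQ : ∀ a ∈ A, ∀ q ∈ Q, a q ∈ Q) (hQT : Q ≤ T) (hQn : ∀ t ∈ T, ∀ q ∈ Q, t * q * t⁻¹ ∈ Q)
    (hcop : (Q.relIndex T).Coprime (Nat.card Q))
    {θ : Q → ℂ} (hθ : Cfsg.IsIrrCharacter Q θ)
    (hθT : ∀ t ∈ T, ∀ (q : Q) (h : t * (q : Γ) * t⁻¹ ∈ Q), θ ⟨t * q * t⁻¹, h⟩ = θ q)
    (hθA : InvR A Q θ) :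
    ∃ θ' : T → ℂ, Cfsg.IsIrrCharacter T θ' ∧ (∀ q : Q, θ' ⟨q, hQT q.2⟩ = θ q) ∧
      InvR A T θ' := by
  classical
  haveI hn : (Q.subgroupOf T).Normal := by
    constructor
    intro n hn g
    rw [Subgroup.mem_subgroupOf] at hn ⊢
    exact hQn g g.2 n hn
  haveI : Fintype (Q.subgroupOf T) := Fintype.ofFinite _
  let e : Q.subgroupOf T ≃* Q := Subgroup.subgroupOfEquivOfLe hQT
  have hθN : Cfsg.IsIrrCharacter (Q.subgroupOf T) (fun n => θ (e n)) :=
    Helper80.isIrrCharacter_comp_mulEquiv e hθ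
  obtain ⟨d, Y, hY, hYθ⟩ := hθN
  haveI := hY
  have hinv : ∀ (g : T) (n : Q.subgroupOf T),
      Y.character (MulAut.conjNormal g n) = Y.character n := by
    intro g n
    rw [hYθ]
    exact hθT g g.2 (e n) (hQn g g.2 _ (e n).2)
  have hcard : Nat.card (Q.subgroupOf T) = Nat.card Q := Nat.card_congr e.toEquiv
  have hdd : d ∣ Nat.card Q := by
    have h1 := Helper80.charDegree_dvd_card
      (⟨d, Y, hY, rfl⟩ : Cfsg.IsIrrCharacter (Q.subgroupOf T) Y.character)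
    rwa [Helper80.charDegree_char, hcard] at h1
  have hdet : Cfsg.detOrder Y.character ∣ Nat.card Q := by
    have h1 := Helper75.detOrder_dvd_card Y.character
    rwa [hcard] at h1
  have hc : Nat.Coprime (Q.subgroupOf T).index (Cfsg.detOrder Y.character * d) :=
    Nat.Coprime.mul_right (Nat.Coprime.coprime_dvd_right hdet hcop)
      (Nat.Coprime.coprime_dvd_right hdd hcop)
  obtain ⟨χ, ⟨hχ, hχN, hχdet⟩, huniq⟩ :=
    Helper75.exists_unique_extension_of_coprime (Q.subgroupOf T) Y hinv hc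
  have hχc := Helper80.isCharacter_of_isIrrCharacter hχ
  refine ⟨χ, hχ, ?_, ?_⟩
  · intro q
    have h1 := hχN (e.symm q)
    rw [hYθ] at h1
    have h2 : θ (e (e.symm q)) = θ q := by rw [e.apply_symm_apply]
    rw [← h2]
    exact h1
  · intro a ha t h
    let σ : T ≃* T := resAut T A hAT ⟨a, ha⟩
    have h1 : (fun t => χ (σ t)) = χ := by
      apply huniq
      · exact Helper80.isIrrCharacter_comp_mulEquiv σ hχ
      · intro n
        have hmem : σ (n : T) ∈ Q.subgroupOf T := by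
          rw [Subgroup.mem_subgroupOf]
          exact hAQ a ha _ n.2
        have h2 := hχN ⟨σ (n : T), hmem⟩
        rw [hYθ] at h2 ⊢
        show χ (σ (n : T)) = θ (e n)
        rw [h2]
        exact hθA a ha (e n) _
      · rw [detOrder_comp_mulEquiv σ hχc, hχdet]
        exact Nat.Coprime.coprime_dvd_right hdet hcop
    exact congrFun h1 t

end Ext

section Over

variable {Γ : Type u} [Group Γ] [Fintype Γ] (T Q D : Subgroup Γ) [Fintype T] [Fintype Q]
  [Fintype D] (A : Subgroup (MulAut Γ)) (p : ℕ)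

/-- **Glauberman correspondence over an invariant character**: `θ'` is an `A`-invariant
irreducible character of `T` restricting irreducibly to the normal subgroup `Q`; the
`A`-invariant irreducible characters of `T` over `θ'_Q` correspond to the irreducible characters
of `D` over `θ'_Q`, where `D / Q` is the group of fixed points of `A` on `T / Q` -/
theorem glaub_over_ext (hp : p.Prime) (hA : IsPGroup p A)
    (hAT : ∀ a ∈ A, ∀ t ∈ T, a t ∈ T) (hAQ : ∀ a ∈ A, ∀ q ∈ Q, a q ∈ Q)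
    (hQT : Q ≤ T) (hQn : ∀ t ∈ T, ∀ q ∈ Q, t * q * t⁻¹ ∈ Q)
    (hpT : ¬ p ∣ Q.relIndex T) (hDT : D ≤ T) (hQD : Q ≤ D)
    (hD : ∀ x : Γ, x ∈ D ↔ x ∈ T ∧ ∀ a ∈ A, a x * x⁻¹ ∈ Q)
    {θ' : T → ℂ} (hθ' : Cfsg.IsIrrCharacter T θ')
    (hθ'Q : Cfsg.IsIrrCharacter Q (fun q : Q => θ' ⟨q, hQT q.2⟩)) (hθ'A : InvR A T θ') :
    GlaubCorrOn p (Subgroup.inclusion hDT)
      (fun ψ : T → ℂ => InvR A T ψ ∧
        Cfsg.classInner (fun q : Q => ψ ⟨q, hQT q.2⟩) (fun q : Q => θ' ⟨q, hQT q.2⟩) ≠ 0)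
      (fun η : D → ℂ =>
        Cfsg.classInner (fun q : Q => η ⟨q, hQD q.2⟩) (fun q : Q => θ' ⟨q, hQT q.2⟩) ≠ 0) := by
  classical
  have gm := glaub_mod T Q D A p hp hA hAT hAQ hQT hQn hpT hDT hQD hD
  have gT := gallagher_bij_rel T Q hQT hQn hθ' hθ'Q
  set θD : D → ℂ := fun d => θ' (Subgroup.inclusion hDT d) with hθD
  have hθDc : Cfsg.IsCharacter D θD :=
    Helper80.isCharacter_comp _ (Helper80.isCharacter_of_isIrrCharacter hθ')
  have hθDirr : Cfsg.IsIrrCharacter D θD :=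
    isIrrCharacter_of_comp_irr (Subgroup.inclusion hQD) hθDc hθ'Q
  have hQnD : ∀ d ∈ D, ∀ q ∈ Q, d * q * d⁻¹ ∈ Q := fun d hd => hQn d (hDT hd)
  have gD := gallagher_bij_rel D Q hQD hQnD hθDirr hθ'Q
  -- isometry
  have hiso : ∀ (α : T → ℂ) (β : D → ℂ), Cfsg.IsCharacter T α →
      (∀ q : Q, α ⟨q, hQT q.2⟩ = α 1) → Cfsg.IsCharacter D β →
      (∀ q : Q, β ⟨q, hQD q.2⟩ = β 1) →
      Cfsg.classInner (fun d : D => (α * θ') (Subgroup.inclusion hDT d)) (β * θD) =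
        Cfsg.classInner (fun d : D => α (Subgroup.inclusion hDT d)) β := by
    intro α β hα hαQ hβ hβQ
    exact classInner_mul_ext_rel D Q hQD hQnD hθDirr hθ'Q
      (Helper80.isCharacter_comp (Subgroup.inclusion hDT) hα) (fun q => hαQ q) hβ hβQ
  -- invariance of the Gallagher factor
  have hinvα : ∀ α : T → ℂ, Cfsg.IsIrrCharacter T α → (∀ q : Q, α ⟨q, hQT q.2⟩ = α 1) →
      InvR A T (α * θ') → InvR A T α := by
    intro α hα hαQ hinv a ha
    let σ : T ≃* T := resAut T A hAT ⟨a, ha⟩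
    have h1 : (fun t => α (σ t)) ∈
        {β : T → ℂ | Cfsg.IsIrrCharacter T β ∧ ∀ q : Q, β ⟨q, hQT q.2⟩ = β 1} := by
      refine ⟨Helper80.isIrrCharacter_comp_mulEquiv σ hα, fun q => ?_⟩
      show α (σ ⟨q, hQT q.2⟩) = α (σ 1)
      rw [map_one]
      exact hαQ ⟨a q, hAQ a ha q q.2⟩
    have h2 : (fun t => α (σ t)) * θ' = α * θ' := by
      funext t
      show α (σ t) * θ' t = α t * θ' t
      have h5 : α (σ t) * θ' (σ t) = α t * θ' t := hinv a ha t (hAT a ha t t.2)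
      have h6 : θ' (σ t) = θ' t := hθ'A a ha t (hAT a ha t t.2)
      rw [h6] at h5
      exact h5
    have h3 := gT.injOn h1 ⟨hα, hαQ⟩ h2
    intro t h
    exact congrFun h3 t
  refine ⟨?_, ?_, ?_⟩
  · rintro ψ hψ ⟨hψA, hψθ⟩
    obtain ⟨α, ⟨hα, hαQ⟩, rfl⟩ := gT.surjOn ⟨hψ, hψθ⟩
    have hαA := hinvα α hα hαQ hψA
    obtain ⟨β, ε, hβ, hβQ, hε, hall⟩ := gm.1 α hα ⟨hαA, hαQ⟩
    have hη := gD.mapsTo ⟨hβ, hβQ⟩
    refine ⟨β * θD, ε, hη.1, hη.2, hε, ?_⟩
    intro η₁ hη₁ hη₁θ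
    obtain ⟨β₁, ⟨hβ₁, hβ₁Q⟩, rfl⟩ := gD.surjOn ⟨hη₁, hη₁θ⟩
    obtain ⟨m, hm, hm1, hm2⟩ := hall β₁ hβ₁ hβ₁Q
    refine ⟨m, ?_, ?_, ?_⟩
    · have h1 := hiso α β₁ (Helper80.isCharacter_of_isIrrCharacter hα) hαQ
        (Helper80.isCharacter_of_isIrrCharacter hβ₁) hβ₁Q
      exact h1.trans hm
    · intro h
      exact hm1 (gD.injOn ⟨hβ₁, hβ₁Q⟩ ⟨hβ, hβQ⟩ h)
    · intro h
      exact hm2 (fun h' => h (by rw [h']))
  · rintro ψ ψ' hψ hψ' ⟨hψA, hψθ⟩ ⟨hψ'A, hψ'θ⟩ η hη hηθ m m' hm hpm hm' hpm'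
    obtain ⟨α, ⟨hα, hαQ⟩, rfl⟩ := gT.surjOn ⟨hψ, hψθ⟩
    obtain ⟨α', ⟨hα', hα'Q⟩, rfl⟩ := gT.surjOn ⟨hψ', hψ'θ⟩
    obtain ⟨β, ⟨hβ, hβQ⟩, rfl⟩ := gD.surjOn ⟨hη, hηθ⟩
    have h1 := hiso α β (Helper80.isCharacter_of_isIrrCharacter hα) hαQ
      (Helper80.isCharacter_of_isIrrCharacter hβ) hβQ
    have h2 := hiso α' β (Helper80.isCharacter_of_isIrrCharacter hα') hα'Q
      (Helper80.isCharacter_of_isIrrCharacter hβ) hβQ
    have h3 := gm.2.1 α α' hα hα' ⟨hinvα α hα hαQ hψA, hαQ⟩ ⟨hinvα α' hα' hα'Q hψ'A, hα'Q⟩ β hβ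
      hβQ m m' (h1.symm.trans hm) hpm (h2.symm.trans hm') hpm'
    show α * θ' = α' * θ'
    rw [h3]
  · intro η hη hηθ
    obtain ⟨β, ⟨hβ, hβQ⟩, rfl⟩ := gD.surjOn ⟨hη, hηθ⟩
    obtain ⟨α, hα, ⟨hαA, hαQ⟩, m, hm, hpm⟩ := gm.2.2 β hβ hβQ
    have hψ := gT.mapsTo ⟨hα, hαQ⟩
    refine ⟨α * θ', hψ.1, ⟨?_, hψ.2⟩, m, ?_, hpm⟩
    · intro a ha t h
      show α ⟨a t, h⟩ * θ' ⟨a t, h⟩ = α t * θ' t
      rw [hαA a ha t h, hθ'A a ha t h]
    · have h1 := hiso α β (Helper80.isCharacter_of_isIrrCharacter hα) hαQ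
        (Helper80.isCharacter_of_isIrrCharacter hβ) hβQ
      exact h1.trans hm

/-- every irreducible character of `D` over the invariant character is `A`-invariant -/
theorem inv_of_over_ext (hQT : Q ≤ T) (hQn : ∀ t ∈ T, ∀ q ∈ Q, t * q * t⁻¹ ∈ Q)
    (hDT : D ≤ T) (hQD : Q ≤ D)
    (hD : ∀ x : Γ, x ∈ D ↔ x ∈ T ∧ ∀ a ∈ A, a x * x⁻¹ ∈ Q)
    {θ' : T → ℂ} (hθ' : Cfsg.IsIrrCharacter T θ')
    (hθ'Q : Cfsg.IsIrrCharacter Q (fun q : Q => θ' ⟨q, hQT q.2⟩)) (hθ'A : InvR A T θ')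
    {η : D → ℂ} (hη : Cfsg.IsIrrCharacter D η)
    (hηθ : Cfsg.classInner (fun q : Q => η ⟨q, hQD q.2⟩) (fun q : Q => θ' ⟨q, hQT q.2⟩) ≠ 0) :
    InvR A D η := by
  classical
  set θD : D → ℂ := fun d => θ' (Subgroup.inclusion hDT d) with hθD
  have hθDc : Cfsg.IsCharacter D θD :=
    Helper80.isCharacter_comp _ (Helper80.isCharacter_of_isIrrCharacter hθ')
  have hθDirr : Cfsg.IsIrrCharacter D θD :=
    isIrrCharacter_of_comp_irr (Subgroup.inclusion hQD) hθDc hθ'Q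
  have hQnD : ∀ d ∈ D, ∀ q ∈ Q, d * q * d⁻¹ ∈ Q := fun d hd => hQn d (hDT hd)
  have gD := gallagher_bij_rel D Q hQD hQnD hθDirr hθ'Q
  obtain ⟨β, ⟨hβ, hβQ⟩, rfl⟩ := gD.surjOn ⟨hη, hηθ⟩
  intro a ha d h
  show β ⟨a d, h⟩ * θD ⟨a d, h⟩ = β d * θD d
  have h1 : θD ⟨a d, h⟩ = θD d := hθ'A a ha (Subgroup.inclusion hDT d) _
  have h2 : β ⟨a d, h⟩ = β d := by
    have hq : a (d : Γ) * (d : Γ)⁻¹ ∈ Q := ((hD d).1 d.2).2 a ha
    have h3 := char_mul_left_of_trivial_rel D Q hQD (Helper80.isCharacter_of_isIrrCharacter hβ)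
      hβQ (a (d : Γ) * (d : Γ)⁻¹) hq d
    have e : (⟨a (d : Γ) * (d : Γ)⁻¹, hQD hq⟩ * d : D) = ⟨a d, h⟩ := Subtype.ext (by simp)
    rw [e] at h3
    exact h3
  rw [h1, h2]

end Over

end Cfsg.Agent.Lib.Helper81
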