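import Mathlib
import Cfsg.Prelude.Def_Blocks
import Cfsg.Agent.Lib.Helper16.LocalRing
import Cfsg.Agent.Lib.Helper16.Osima
import Cfsg.Agent.Lib.Helper72.Kazarin
import Cfsg.Agent.Lib.Helper79.IsaacsSmith
import Cfsg.Agent.Lib.Helper79.Linear
import Cfsg.Agent.Lib.Helper15.LinIrr
import Cfsg.Agent.Lib.Helper75.OddBlock
import Cfsg.Agent.Lib.Helper74.LemmaL
import Cfsg.Agent.Lib.Helper77.IrrMap
import Cfsg.Agent.Lib.Helper81.GallRel
import Cfsg.Agent.Lib.Helper81.RelChar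

set_option autoImplicit false
set_option linter.style.haveILetI false
set_option linter.unusedSectionVars false

/-!
# Alperin–Dade: basic tools

Restriction of the principal block to a normal subgroup of index prime to `p` all of whose
cosets contain an element with class size prime to `p`.
-/

namespace Cfsg.Agent.Lib.Helper81

open scoped ComplexConjugate

universe u

/-- the principal block is transported by group isomorphisms -/
theorem principalBlock_mapIrr {H H' : Type u} [Group H] [Group H'] (M : Ideal Cfsg.AlgInt)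
    (α : H ≃* H') (χ : Cfsg.IrrCharacter H) :
    Helper77.mapIrr α χ ∈ Cfsg.principalBlock M H' ↔ χ ∈ Cfsg.principalBlock M H := by
  show Cfsg.SameBlock M (fun _ : H' => (1 : ℂ)) (Helper77.mapIrr α χ : H' → ℂ) ↔
    Cfsg.SameBlock M (fun _ : H => (1 : ℂ)) (χ : H → ℂ)
  have h1 : ∀ h : H, Cfsg.centralChar (fun _ : H' => (1 : ℂ)) (α h) =
      Cfsg.centralChar (fun _ : H => (1 : ℂ)) h := by
    intro h
    unfold Cfsg.centralChar
    rw [Helper77.index_centralizer_map]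
  constructor
  · intro hh g
    have := hh (α g)
    rwa [Helper77.centralChar_mapIrr, h1] at this
  · intro hh g'
    have := hh (α.symm g')
    rw [← Helper77.centralChar_mapIrr α χ, ← h1, α.apply_symm_apply] at this
    exact this

/-- the basic congruence: two members of the principal block whose central characters at an
element of class size prime to `p` differ by the factor `u` force `u ≡ 1` -/
theorem ad_key0 {G : Type u} [Group G] {p : ℕ} {M : Ideal Cfsg.AlgInt}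
    (hM : Cfsg.IsPModular p M) {Θ χ : G → ℂ}
    (hΘ : Cfsg.SameBlock M (fun _ : G => (1 : ℂ)) Θ)
    (hχ : Cfsg.SameBlock M (fun _ : G => (1 : ℂ)) χ) (c : G) (u : ℂ)
    (hu : Cfsg.MemLocalRing M u)
    (hcc : Cfsg.centralChar χ c = Cfsg.centralChar Θ c * u)
    (hc : ¬ p ∣ (Subgroup.centralizer ({c} : Set G)).index) :
    Cfsg.MemLocalIdeal M (1 - u) := by
  have hMp := Helper16.isPrime_of_isPModular hM
  have h1 := hΘ c
  have h2 := hχ c
  rw [hcc] at h2
  have h3 := Helper16.memLocalIdeal_mul_right hMp h1 hu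
  have h4 := Helper16.memLocalIdeal_sub hMp h2 h3
  apply Helper16.memLocalIdeal_of_natCast_mul hM hc
  have e : ((Subgroup.centralizer ({c} : Set G)).index : ℂ) * (1 - u) =
      (Cfsg.centralChar (fun _ : G => (1 : ℂ)) c - Cfsg.centralChar Θ c * u) -
        (Cfsg.centralChar (fun _ : G => (1 : ℂ)) c - Cfsg.centralChar Θ c) * u := by
    have hk : Cfsg.centralChar (fun _ : G => (1 : ℂ)) c =
        ((Subgroup.centralizer ({c} : Set G)).index : ℂ) := by
      unfold Cfsg.centralChar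
      simp
    rw [hk]
    ring
  rw [e]
  exact h4

/-- a linear character trivial on `N` which fixes the principal block is trivial at every element
of class size prime to `p` -/
theorem ad_lin_eq_one {G : Type u} [Group G] [Finite G] {p : ℕ} {M : Ideal Cfsg.AlgInt}
    (hM : Cfsg.IsPModular p M) (N : Subgroup G) [N.Normal] (hidx : ¬ p ∣ N.index)
    {χ : G → ℂ} (hχB : Cfsg.SameBlock M (fun _ : G => (1 : ℂ)) χ)
    (ν : G →* ℂˣ) (hν : ∀ n ∈ N, ν n = 1)
    (hνB : Cfsg.SameBlock M (fun _ : G => (1 : ℂ)) (fun g => ((ν g : ℂˣ) : ℂ) * χ g))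
    (c : G) (hc : ¬ p ∣ (Subgroup.centralizer ({c} : Set G)).index) : ν c = 1 := by
  have hMp := Helper16.isPrime_of_isPModular hM
  have h0 := ad_key0 hM hχB hνB c ((ν c : ℂˣ) : ℂ) (Helper79.memLocalRing_hom hMp ν c) (by
      unfold Cfsg.centralChar
      simp only [map_one, Units.val_one, one_mul]
      ring) hc
  have hpow : ((ν c : ℂˣ) : ℂ) ^ N.index = 1 := by
    rw [← Units.val_pow_eq_pow_val, ← map_pow, hν _ (Subgroup.pow_index_mem N c), Units.val_one]
  have hpos : 0 < N.index := Nat.pos_of_ne_zero Subgroup.index_ne_zero_of_finite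
  have h1 := Helper72.Kazarin.eq_one_of_memLocalIdeal hM _ N.index hpos hpow hidx h0
  exact Units.ext h1

/-- **uniqueness**: a member of the principal block lying over the irreducible restriction of
another member equals it -/
theorem ad_unique {G : Type u} [Group G] [Fintype G] {p : ℕ} {M : Ideal Cfsg.AlgInt}
    (hM : Cfsg.IsPModular p M) (N : Subgroup G) [N.Normal] [Fintype N] (hidx : ¬ p ∣ N.index)
    (hcos : ∀ g : G, ∃ c : G, c⁻¹ * g ∈ N ∧ ¬ p ∣ (Subgroup.centralizer ({c} : Set G)).index)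
    {Θ χ : G → ℂ} (hΘ : Cfsg.IsIrrCharacter G Θ) (hχ : Cfsg.IsIrrCharacter G χ)
    (hΘB : Cfsg.SameBlock M (fun _ : G => (1 : ℂ)) Θ)
    (hχB : Cfsg.SameBlock M (fun _ : G => (1 : ℂ)) χ)
    (hΘN : Cfsg.IsIrrCharacter N (fun n : N => Θ n))
    (hover : Cfsg.classInner (fun n : N => χ n) (fun n : N => Θ n) ≠ 0) : χ = Θ := by
  classical
  have hMp := Helper16.isPrime_of_isPModular hM
  obtain ⟨β, ⟨hβ, hβN⟩, hβχ⟩ := (gallagher_bij N hΘ hΘN).surjOn ⟨hχ, hover⟩
  have hβχ' : β * Θ = χ := hβχ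
  have hβc := Helper80.isCharacter_of_isIrrCharacter hβ
  have hβ1 : β 1 = (Cfsg.charDegree β : ℂ) := Helper80.char_one_eq_charDegree hβc
  have hβ10 : β 1 ≠ 0 := Helper80.char_one_ne_zero hβ
  have hΘ10 : Θ 1 ≠ 0 := Helper80.char_one_ne_zero hΘ
  have hcong : ∀ c : G, ¬ p ∣ (Subgroup.centralizer ({c} : Set G)).index →
      Cfsg.MemLocalIdeal M (β 1 - β c) := by
    intro c hc
    have hk : ((Subgroup.centralizer ({c} : Set G)).index : ℂ) ≠ 0 := by
      exact_mod_cast (Subgroup.index_ne_zero_of_finite (H := Subgroup.centralizer ({c} : Set G)))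
    have hu : Cfsg.MemLocalRing M (β c / β 1) := by
      have h1 := Helper16.memLocalRing_centralChar hMp ⟨β, hβ⟩ c
      have h2 := Helper16.memLocalRing_inv_natCast hM hc
      have h3 := Helper16.memLocalRing_mul hMp h2 h1
      have e : ((Subgroup.centralizer ({c} : Set G)).index : ℂ)⁻¹ *
          Cfsg.centralChar ((⟨β, hβ⟩ : Cfsg.IrrCharacter G) : G → ℂ) c = β c / β 1 := by
        unfold Cfsg.centralChar
        field_simp
      rw [e] at h3
      exact h3
    have hχB' : Cfsg.SameBlock M (fun _ : G => (1 : ℂ)) (β * Θ) := by rw [hβχ']; exact hχB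
    have h0 := ad_key0 hM hΘB hχB' c (β c / β 1) hu (by
      unfold Cfsg.centralChar
      simp only [Pi.mul_apply]
      field_simp) hc
    have h5 := Helper16.memLocalIdeal_mul_left hMp
      (Helper16.memLocalRing_natCast hMp (Cfsg.charDegree β)) h0
    have e2 : (Cfsg.charDegree β : ℂ) * (1 - β c / β 1) = β 1 - β c := by
      rw [← hβ1]
      field_simp
    rw [e2] at h5
    exact h5
  obtain ⟨ψ, hψ, hψβ⟩ := Helper80.exists_isIrrCharacter_deflate N hβ (fun x hx => hβN ⟨x, hx⟩)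
  haveI : Fintype (G ⧸ N) := Fintype.ofFinite _
  have h1Q : Cfsg.IsIrrCharacter (G ⧸ N) (fun _ => (1 : ℂ)) := Helper80.isIrrCharacter_one
  have hinner := Helper80.classInner_irr_fun hψ h1Q
  have hQ0 : (Nat.card (G ⧸ N) : ℂ) ≠ 0 := by
    exact_mod_cast (Nat.card_pos (α := G ⧸ N)).ne'
  have hsum : Cfsg.MemLocalIdeal M ((Nat.card (G ⧸ N) : ℂ) *
      (Cfsg.classInner ψ (fun _ => (1 : ℂ)) - β 1)) := by
    have e : (Nat.card (G ⧸ N) : ℂ) * (Cfsg.classInner ψ (fun _ => (1 : ℂ)) - β 1) =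
        ∑ q : G ⧸ N, (ψ q - β 1) := by
      have e1 : Cfsg.classInner ψ (fun _ => (1 : ℂ)) =
          (Nat.card (G ⧸ N) : ℂ)⁻¹ * ∑ q : G ⧸ N, ψ q := by
        unfold Cfsg.classInner
        simp
      rw [e1, Finset.sum_sub_distrib, Finset.sum_const, Finset.card_univ, nsmul_eq_mul,
        ← Nat.card_eq_fintype_card, mul_sub, ← mul_assoc, mul_inv_cancel₀ hQ0, one_mul]
    rw [e]
    apply Helper16.memLocalIdeal_sum hMp
    intro q _
    obtain ⟨g, rfl⟩ := QuotientGroup.mk_surjective q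
    obtain ⟨c, hcg, hc⟩ := hcos g
    have hq : (g : G ⧸ N) = (c : G ⧸ N) := by
      rw [eq_comm, QuotientGroup.eq]
      exact hcg
    rw [hq, hψβ c]
    have h' := Helper16.memLocalIdeal_neg (hcong c hc)
    rwa [neg_sub] at h'
  have hcardQ : Nat.card (G ⧸ N) = N.index := rfl
  have h6 := Helper16.memLocalIdeal_of_natCast_mul hM (by rw [hcardQ]; exact hidx) hsum
  by_cases hψ1 : ψ = fun _ => (1 : ℂ)
  · have hβeq : β = fun _ => (1 : ℂ) := by
      funext g
      rw [← hψβ g, hψ1]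
    rw [← hβχ', hβeq]
    funext g
    simp
  · exfalso
    rw [hinner, if_neg hψ1, zero_sub] at h6
    have h7 := Helper16.memLocalIdeal_neg h6
    rw [neg_neg, hβ1] at h7
    have h8 := (Helper16.memLocalIdeal_natCast_iff hM _).mp h7
    have h9 := Helper80.charDegree_dvd_card hψ
    have h10 : Cfsg.charDegree ψ = Cfsg.charDegree β := by
      unfold Cfsg.charDegree
      rw [← hψβ 1]
      rfl
    rw [h10, hcardQ] at h9
    exact hidx (dvd_trans h8 h9)

/-- a Sylow `p`-subgroup lies in every normal subgroup of index prime to `p` -/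
theorem sylow_le_of_normal_of_not_dvd_index {G : Type u} [Group G] [Finite G] {p : ℕ}
    [Fact p.Prime] (N : Subgroup G) [N.Normal] (hidx : ¬ p ∣ N.index) (P : Sylow p G) :
    (P : Subgroup G) ≤ N := by
  rw [← Subgroup.relIndex_eq_one]
  obtain ⟨n, hn⟩ := IsPGroup.index P.2 (N.subgroupOf P)
  have h1 : N.relIndex P = p ^ n := hn
  have h2 : N.relIndex P ∣ N.index := Subgroup.relIndex_dvd_index_of_normal N P
  rw [h1] at h2 ⊢
  cases n with
  | zero => rfl
  | succ k => exact absurd (dvd_trans (dvd_pow_self p (Nat.succ_ne_zero k)) h2) hidx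

/-- restriction along `ι` is a bijection from the principal block of `G` onto that of `H` -/
def ADc (M : Ideal Cfsg.AlgInt) {H G : Type u} [Group H] [Group G] (ι : H →* G) : Prop :=
  (∀ χ ∈ Cfsg.principalBlock M G, ∃ θ ∈ Cfsg.principalBlock M H,
    ∀ h : H, (χ : G → ℂ) (ι h) = (θ : H → ℂ) h) ∧
  ∀ θ ∈ Cfsg.principalBlock M H, ∃ χ ∈ Cfsg.principalBlock M G,
    (∀ h : H, (χ : G → ℂ) (ι h) = (θ : H → ℂ) h) ∧
    ∀ χ' ∈ Cfsg.principalBlock M G, (∀ h : H, (χ' : G → ℂ) (ι h) = (θ : H → ℂ) h) → χ' = χ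

theorem ADc.comp {M : Ideal Cfsg.AlgInt} {H G₁ G : Type u} [Group H] [Group G₁] [Group G]
    {ι₁ : H →* G₁} {ι₂ : G₁ →* G} (h₁ : ADc M ι₁) (h₂ : ADc M ι₂) : ADc M (ι₂.comp ι₁) := by
  refine ⟨fun χ hχ => ?_, fun θ hθ => ?_⟩
  · obtain ⟨θ₂, hθ₂, h2⟩ := h₂.1 χ hχ
    obtain ⟨θ₁, hθ₁, h1⟩ := h₁.1 θ₂ hθ₂
    exact ⟨θ₁, hθ₁, fun h => by rw [MonoidHom.comp_apply, h2, h1]⟩
  · obtain ⟨χ₁, hχ₁, h1, hu1⟩ := h₁.2 θ hθ
    obtain ⟨χ, hχ, h2, hu2⟩ := h₂.2 χ₁ hχ₁
    refine ⟨χ, hχ, fun h => by rw [MonoidHom.comp_apply, h2, h1], fun χ' hχ' h' => ?_⟩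
    obtain ⟨θ₂, hθ₂, h3⟩ := h₂.1 χ' hχ'
    have h4 : θ₂ = χ₁ := hu1 θ₂ hθ₂ (fun h => by rw [← h3, ← h' h, MonoidHom.comp_apply])
    exact hu2 χ' hχ' (fun g => by rw [h3, h4])

theorem ADc.of_mulEquiv (M : Ideal Cfsg.AlgInt) {H G : Type u} [Group H] [Group G]
    (e : H ≃* G) : ADc M e.toMonoidHom := by
  refine ⟨fun χ hχ => ?_, fun θ hθ => ?_⟩
  · refine ⟨Helper77.mapIrr e.symm χ, (principalBlock_mapIrr M e.symm χ).2 hχ, fun h => ?_⟩
    rw [Helper77.mapIrr_apply]
    rfl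
  · refine ⟨Helper77.mapIrr e θ, (principalBlock_mapIrr M e θ).2 hθ, fun h => ?_, ?_⟩
    · exact Helper77.mapIrr_apply_apply e θ h
    · intro χ' _ h'
      apply Subtype.ext
      funext g
      rw [Helper77.mapIrr_apply, ← h' (e.symm g)]
      show (χ' : G → ℂ) g = (χ' : G → ℂ) (e (e.symm g))
      rw [e.apply_symm_apply]

/-- sum of the values at `1` of the linear characters of a finite abelian group -/
theorem sum_hom_units_one {A : Type u} [CommGroup A] [Finite A] [Fintype (A →* ℂˣ)] :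
    ∑ φ : A →* ℂˣ, ((φ 1 : ℂˣ) : ℂ) = (Nat.card A : ℂ) := by
  have hne : (Monoid.exponent A : ℂ) ≠ 0 := by
    exact_mod_cast Monoid.exponent_ne_zero_of_finite
  haveI : NeZero ((Monoid.exponent A : ℕ) : ℂ) := ⟨hne⟩
  simp only [map_one, Units.val_one, Finset.sum_const, Finset.card_univ, nsmul_eq_mul, mul_one]
  rw [← Nat.card_eq_fintype_card, CommGroup.card_monoidHom_of_hasEnoughRootsOfUnity A ℂ]

/-- sum of the values at `a ≠ 1` of the linear characters of a finite abelian group -/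
theorem sum_hom_units_ne {A : Type u} [CommGroup A] [Finite A] [Fintype (A →* ℂˣ)] {a : A}
    (h : a ≠ 1) : ∑ φ : A →* ℂˣ, ((φ a : ℂˣ) : ℂ) = 0 := by
  have hne : (Monoid.exponent A : ℂ) ≠ 0 := by
    exact_mod_cast Monoid.exponent_ne_zero_of_finite
  haveI : NeZero ((Monoid.exponent A : ℕ) : ℂ) := ⟨hne⟩
  obtain ⟨φ₀, hφ₀⟩ := CommGroup.exists_apply_ne_one_of_hasEnoughRootsOfUnity A ℂ h
  have h1 : ∑ φ : A →* ℂˣ, ((φ a : ℂˣ) : ℂ) =
      ((φ₀ a : ℂˣ) : ℂ) * ∑ φ : A →* ℂˣ, ((φ a : ℂˣ) : ℂ) := by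
    rw [Finset.mul_sum]
    exact (Fintype.sum_equiv (Equiv.mulLeft φ₀) (fun φ => ((φ₀ a : ℂˣ) : ℂ) * ((φ a : ℂˣ) : ℂ))
      (fun φ => ((φ a : ℂˣ) : ℂ)) (fun φ => by simp)).symm
  have h2 : ((φ₀ a : ℂˣ) : ℂ) ≠ 1 := fun h3 => hφ₀ (Units.ext h3)
  have h3 : (1 - ((φ₀ a : ℂˣ) : ℂ)) * ∑ φ : A →* ℂˣ, ((φ a : ℂˣ) : ℂ) = 0 := by
    rw [sub_mul, one_mul, ← h1, sub_self]
  rcases mul_eq_zero.1 h3 with h4 | h4
  · exact absurd (sub_eq_zero.1 h4).symm h2
  · exact h4

end Cfsg.Agent.Lib.Helper81
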