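import Mathlib
import Cfsg.Prelude.Def_Blocks
import Cfsg.Agent.Lib.Helper81.ADBasic

set_option autoImplicit false
set_option linter.style.haveILetI false
set_option linter.unusedSectionVars false

/-!
# Alperin–Dade: the abelian step
-/

namespace Cfsg.Agent.Lib.Helper81

open scoped ComplexConjugate

universe u

/-- in the abelian step every member of the principal block restricts irreducibly -/
theorem ad_abelian_irr {G : Type u} [Group G] [Fintype G] {p : ℕ} {M : Ideal Cfsg.AlgInt}
    (hM : Cfsg.IsPModular p M) (N : Subgroup G) [N.Normal] [Fintype N]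
    {A : Type u} [CommGroup A] [Finite A] (π : G →* A) (hπ : Function.Surjective π)
    (hker : ∀ g : G, π g = 1 ↔ g ∈ N) (hcard : Nat.card A = N.index)
    (hidx : ¬ p ∣ N.index)
    (hcos : ∀ g : G, ∃ c : G, c⁻¹ * g ∈ N ∧ ¬ p ∣ (Subgroup.centralizer ({c} : Set G)).index)
    {χ : G → ℂ} (hχ : Cfsg.IsIrrCharacter G χ)
    (hχB : Cfsg.SameBlock M (fun _ : G => (1 : ℂ)) χ) :
    Cfsg.IsIrrCharacter N (fun n : N => χ n) := by
  classical
  haveI : Finite (A →* ℂˣ) := Helper79.finite_monoidHom_units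
  haveI : Fintype (A →* ℂˣ) := Fintype.ofFinite _
  have hχc := Helper80.isCharacter_of_isIrrCharacter hχ
  let F : (A →* ℂˣ) → G → ℂ := fun φ g => ((φ (π g) : ℂˣ) : ℂ) * χ g
  have hFirr : ∀ φ, Cfsg.IsIrrCharacter G (F φ) := by
    intro φ
    have h1 := Helper80.isIrrCharacter_of_hom (φ.comp π)
    exact Helper15.isIrrCharacter_lin_mul (Helper80.isCharacter_of_isIrrCharacter h1)
      (by simp) hχ
  have hFeq : ∀ φ, F φ = χ ↔ φ = 1 := by
    intro φ
    constructor
    · intro h
      have hνB : Cfsg.SameBlock M (fun _ : G => (1 : ℂ))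
          (fun g => (((φ.comp π) g : ℂˣ) : ℂ) * χ g) := by
        have : (fun g => (((φ.comp π) g : ℂˣ) : ℂ) * χ g) = F φ := rfl
        rw [this, h]
        exact hχB
      have hν : ∀ n ∈ N, (φ.comp π) n = 1 := by
        intro n hn
        rw [MonoidHom.comp_apply, (hker n).2 hn, map_one]
      apply MonoidHom.ext
      intro a
      obtain ⟨g, rfl⟩ := hπ a
      obtain ⟨c, hcg, hc⟩ := hcos g
      have h1 := ad_lin_eq_one hM N hidx hχB (φ.comp π) hν hνB c hc
      have h2 : π g = π c := by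
        have h3 : π (c⁻¹ * g) = 1 := (hker _).2 hcg
        rw [map_mul, map_inv, inv_mul_eq_one] at h3
        exact h3.symm
      rw [h2]
      exact h1
    · intro h
      rw [h]
      funext g
      simp [F]
  have hsumφ : ∀ g : G, ∑ φ : A →* ℂˣ, ((φ (π g) : ℂˣ) : ℂ) =
      if g ∈ N then (N.index : ℂ) else 0 := by
    intro g
    by_cases hg : g ∈ N
    · rw [if_pos hg, (hker g).2 hg, sum_hom_units_one, hcard]
    · rw [if_neg hg]
      exact sum_hom_units_ne (fun h => hg ((hker g).1 h))
  have h1 : ∑ φ : A →* ℂˣ, Cfsg.classInner (F φ) χ =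
      Cfsg.classInner (fun n : N => χ n) (fun n : N => χ n) := by
    unfold Cfsg.classInner
    rw [← Finset.mul_sum, Finset.sum_comm]
    have h2 : ∀ g : G, ∑ φ : A →* ℂˣ, F φ g * conj (χ g) =
        (if g ∈ N then (N.index : ℂ) * (χ g * conj (χ g)) else 0) := by
      intro g
      have h3 : ∑ φ : A →* ℂˣ, F φ g * conj (χ g) =
          (∑ φ : A →* ℂˣ, ((φ (π g) : ℂˣ) : ℂ)) * (χ g * conj (χ g)) := by
        rw [Finset.sum_mul]
        refine Finset.sum_congr rfl fun φ _ => ?_
        simp only [F]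
        ring
      rw [h3, hsumφ g]
      split_ifs
      · rfl
      · rw [zero_mul]
    rw [Finset.sum_congr rfl (fun g _ => h2 g), ← Finset.sum_filter]
    rw [Finset.sum_subtype (Finset.univ.filter (· ∈ N)) (p := (· ∈ N)) (by simp)
      (fun g => (N.index : ℂ) * (χ g * conj (χ g)))]
    rw [← Finset.mul_sum, ← mul_assoc]
    congr 1
    have h3 : (Nat.card G : ℂ) = (Nat.card N : ℂ) * (N.index : ℂ) := by
      exact_mod_cast (Subgroup.card_mul_index N).symm
    have hN0 : (Nat.card N : ℂ) ≠ 0 := by exact_mod_cast (Nat.card_pos (α := N)).ne'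
    have hi0 : (N.index : ℂ) ≠ 0 := by
      exact_mod_cast (Subgroup.index_ne_zero_of_finite (H := N))
    rw [h3]
    field_simp
  have h4 : ∑ φ : A →* ℂˣ, Cfsg.classInner (F φ) χ = 1 := by
    rw [Finset.sum_congr rfl (fun φ _ => Helper80.classInner_irr_fun (hFirr φ) hχ)]
    simp only [hFeq]
    simp
  haveI : Fintype (Cfsg.IrrCharacter N) := Fintype.ofFinite _
  exact Helper80.isIrrCharacter_of_classInner_eq_one (Helper80.isCharacter_restrict N hχc)
    (by rw [← h1, h4])

/-- **the abelian step**: if `G / N` is abelian, restriction is a bijection between the principal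
blocks -/
theorem adc_of_abelian {G : Type u} [Group G] [Finite G] {p : ℕ} [Fact p.Prime]
    {M : Ideal Cfsg.AlgInt} (hM : Cfsg.IsPModular p M) (N : Subgroup G) [hN : N.Normal]
    (hcomm : commutator G ≤ N) (hidx : ¬ p ∣ N.index)
    (hcos : ∀ g : G, ∃ c : G, c⁻¹ * g ∈ N ∧ ¬ p ∣ (Subgroup.centralizer ({c} : Set G)).index) :
    ADc M N.subtype := by
  classical
  haveI : Fintype G := Fintype.ofFinite G
  haveI : Fintype N := Fintype.ofFinite N
  have hMp := Helper16.isPrime_of_isPModular hM
  have hcommQ : IsMulCommutative (G ⧸ N) :=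
    Subgroup.Normal.quotient_commutative_iff_commutator_le.2 hcomm
  letI : CommGroup (G ⧸ N) :=
    { (inferInstance : Group (G ⧸ N)) with mul_comm := fun a b => mul_comm' a b }
  have hirr : ∀ χ : Cfsg.IrrCharacter G, χ ∈ Cfsg.principalBlock M G →
      Cfsg.IsIrrCharacter N (fun n : N => (χ : G → ℂ) n) := by
    intro χ hχ
    exact ad_abelian_irr hM N (QuotientGroup.mk' N) (QuotientGroup.mk'_surjective N)
      (fun g => QuotientGroup.eq_one_iff g) rfl hidx hcos χ.2 hχ
  refine ⟨fun χ hχ => ?_, fun θ hθ => ?_⟩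
  · have h1 := hirr χ hχ
    refine ⟨⟨_, h1⟩, ?_, fun n => rfl⟩
    exact Helper75.principal_of_over N hMp χ.2 h1
      (by rw [Helper80.classInner_irr_fun h1 h1, if_pos rfl]; exact one_ne_zero) hχ
  · obtain ⟨χ, hχ, hover⟩ := Helper74.LemmaL.exists_over p M hM (default : Sylow p G) N
      (fun x _ l hl => hN.conj_mem l hl x) θ hθ
    have h1 := hirr χ hχ
    have h2 : (fun n : N => (χ : G → ℂ) n) = (θ : N → ℂ) := by
      by_contra hne
      rw [Helper80.classInner_irr_fun h1 θ.2, if_neg hne] at hover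
      exact hover rfl
    refine ⟨χ, hχ, fun n => congrFun h2 n, fun χ' hχ' h' => ?_⟩
    apply Subtype.ext
    apply ad_unique hM N hidx hcos χ.2 χ'.2 hχ hχ' h1
    have h3 : (fun n : N => (χ' : G → ℂ) n) = (fun n : N => (χ : G → ℂ) n) := by
      funext n
      rw [congrFun h2 n]
      exact h' n
    rw [h3, Helper80.classInner_irr_fun h1 h1, if_pos rfl]
    exact one_ne_zero

end Cfsg.Agent.Lib.Helper81
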