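import Mathlib
import Cfsg.Prelude.Def_Blocks
import Cfsg.Agent.Lib.Helper81.ADAbel

set_option autoImplicit false
set_option linter.style.haveILetI false
set_option linter.unusedSectionVars false

/-!
# Alperin–Dade: solvable quotients
-/

namespace Cfsg.Agent.Lib.Helper81

open scoped ComplexConjugate commutatorElement

universe u

/-- decomposition of the elements of `N ⊔ D` for normal `N` -/
theorem exists_mul_of_mem_sup_normal {G : Type u} [Group G] (N D : Subgroup G) [N.Normal]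
    {a : G} (ha : a ∈ N ⊔ D) : ∃ n ∈ N, ∃ d ∈ D, n * d = a := by
  have h : a ∈ (↑(N ⊔ D) : Set G) := ha
  rw [Subgroup.normal_mul] at h
  obtain ⟨n, hn, d, hd, rfl⟩ := Set.mem_mul.1 h
  exact ⟨n, hn, d, hd, rfl⟩

/-- the hypotheses of the Alperin–Dade theorem pass to subgroups containing `N` -/
theorem ad_hyp_subgroup {G : Type u} [Group G] [Finite G] {p : ℕ} [hp : Fact p.Prime]
    (N : Subgroup G) [N.Normal] (hidx : ¬ p ∣ N.index)
    (hcos : ∀ g : G, ∃ c : G, c⁻¹ * g ∈ N ∧ ¬ p ∣ (Subgroup.centralizer ({c} : Set G)).index)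
    (A : Subgroup G) (hNA : N ≤ A) :
    (¬ p ∣ (N.subgroupOf A).index) ∧
    ∀ g : A, ∃ c : A, c⁻¹ * g ∈ N.subgroupOf A ∧
      ¬ p ∣ (Subgroup.centralizer ({c} : Set A)).index := by
  refine ⟨fun h => hidx (dvd_trans h (Subgroup.relIndex_dvd_index_of_normal N A)), ?_⟩
  intro g
  obtain ⟨c, hcg, hc⟩ := hcos g
  have hcA : c ∈ A := by
    have h1 : c = (g : G) * (c⁻¹ * g)⁻¹ := by group
    rw [h1]
    exact A.mul_mem g.2 (A.inv_mem (hNA hcg))
  refine ⟨⟨c, hcA⟩, ?_, ?_⟩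
  · rw [Subgroup.mem_subgroupOf]
    exact hcg
  · set C := Subgroup.centralizer ({c} : Set G) with hC
    have hcent : Subgroup.centralizer ({(⟨c, hcA⟩ : A)} : Set A) = C.subgroupOf A := by
      ext x
      rw [Subgroup.mem_subgroupOf, Subgroup.mem_centralizer_iff, Subgroup.mem_centralizer_iff]
      constructor
      · intro h y hy
        rw [Set.mem_singleton_iff] at hy
        rw [hy]
        have := h ⟨c, hcA⟩ (Set.mem_singleton _)
        exact congrArg Subtype.val this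
      · intro h y hy
        rw [Set.mem_singleton_iff] at hy
        rw [hy]
        apply Subtype.ext
        exact h c (Set.mem_singleton _)
    rw [hcent]
    show ¬ p ∣ C.relIndex A
    have h1 : C.relIndex A ∣ (N ⊓ C).relIndex A := Subgroup.relIndex_dvd_of_le_left A inf_le_right
    have h2 : (N ⊓ C).relIndex A ∣ (N ⊓ C).index :=
      Dvd.intro _ (Subgroup.relIndex_mul_index (inf_le_of_left_le hNA))
    have h3 : (N ⊓ C).relIndex C * C.index = (N ⊓ C).index :=
      Subgroup.relIndex_mul_index inf_le_right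
    rw [Subgroup.inf_relIndex_right] at h3
    have h4 : N.relIndex C ∣ N.index := Subgroup.relIndex_dvd_index_of_normal N C
    intro h
    have h5 := dvd_trans (dvd_trans h h1) h2
    rw [← h3] at h5
    rcases (Nat.Prime.dvd_mul hp.out).1 h5 with h6 | h6
    · exact hidx (dvd_trans h6 h4)
    · exact hc h6

/-- **solvable quotients**, in terms of the derived series -/
theorem adc_of_derivedSeries {G : Type u} [Group G] [Finite G] {p : ℕ} [Fact p.Prime]
    {M : Ideal Cfsg.AlgInt} (hM : Cfsg.IsPModular p M) :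
    ∀ (k : ℕ) (N : Subgroup G) [N.Normal], derivedSeries G k ≤ N → ¬ p ∣ N.index →
      (∀ g : G, ∃ c : G, c⁻¹ * g ∈ N ∧ ¬ p ∣ (Subgroup.centralizer ({c} : Set G)).index) →
      ADc M N.subtype := by
  intro k
  induction k with
  | zero =>
    intro N _ hle hidx hcos
    have hN : N = ⊤ := top_le_iff.1 hle
    subst hN
    exact ADc.of_mulEquiv M Subgroup.topEquiv
  | succ k ih =>
    intro N hNn hle hidx hcos
    set D := derivedSeries G k with hD
    have hNG₁ : N ≤ N ⊔ D := le_sup_left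
    have h1 : ADc M (N ⊔ D).subtype := ih (N ⊔ D) le_sup_right
      (fun h => hidx (dvd_trans h (Subgroup.index_dvd_of_le hNG₁)))
      (fun g => by
        obtain ⟨c, hc1, hc2⟩ := hcos g
        exact ⟨c, hNG₁ hc1, hc2⟩)
    obtain ⟨hidx', hcos'⟩ := ad_hyp_subgroup N hidx hcos (N ⊔ D) hNG₁
    have hπ : ∀ n ∈ N, ((n : G) : G ⧸ N) = 1 := fun n hn => (QuotientGroup.eq_one_iff n).2 hn
    have hcomm : commutator ↥(N ⊔ D) ≤ N.subgroupOf (N ⊔ D) := by
      rw [commutator_def, Subgroup.commutator_le]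
      intro a _ b _
      rw [Subgroup.mem_subgroupOf]
      obtain ⟨n₁, hn₁, d₁, hd₁, h₁⟩ := exists_mul_of_mem_sup_normal N D a.2
      obtain ⟨n₂, hn₂, d₂, hd₂, h₂⟩ := exists_mul_of_mem_sup_normal N D b.2
      have hd : ⁅d₁, d₂⁆ ∈ N := hle (by
        rw [derivedSeries_succ]
        exact Subgroup.commutator_mem_commutator hd₁ hd₂)
      rw [← QuotientGroup.eq_one_iff]
      have e : (((⁅a, b⁆ : ↥(N ⊔ D)) : G) : G ⧸ N) = ((⁅d₁, d₂⁆ : G) : G ⧸ N) := by
        have e0 : ((⁅a, b⁆ : ↥(N ⊔ D)) : G) = ⁅(a : G), (b : G)⁆ := rfl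
        rw [e0, ← h₁, ← h₂]
        simp only [commutatorElement_def, QuotientGroup.mk_mul, QuotientGroup.mk_inv,
          hπ n₁ hn₁, hπ n₂ hn₂, one_mul]
      rw [e]
      exact (QuotientGroup.eq_one_iff _).2 hd
    have h2 : ADc M (N.subgroupOf (N ⊔ D)).subtype :=
      adc_of_abelian hM (N.subgroupOf (N ⊔ D)) hcomm hidx' hcos'
    have h3 : ADc M (Subgroup.subgroupOfEquivOfLe hNG₁).symm.toMonoidHom := ADc.of_mulEquiv M _
    have h4 := (h3.comp h2).comp h1
    have e : (N ⊔ D).subtype.comp ((N.subgroupOf (N ⊔ D)).subtype.comp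
        (Subgroup.subgroupOfEquivOfLe hNG₁).symm.toMonoidHom) = N.subtype := by
      ext n
      rfl
    rw [e] at h4
    exact h4

/-- **solvable supplements**: restriction from `N H` to `N` for a solvable subgroup `H` -/
theorem adc_sup_of_solvable {G : Type u} [Group G] [Finite G] {p : ℕ} [Fact p.Prime]
    {M : Ideal Cfsg.AlgInt} (hM : Cfsg.IsPModular p M) (N : Subgroup G) [hN : N.Normal]
    (hidx : ¬ p ∣ N.index)
    (hcos : ∀ g : G, ∃ c : G, c⁻¹ * g ∈ N ∧ ¬ p ∣ (Subgroup.centralizer ({c} : Set G)).index)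
    (H : Subgroup G) [Group.IsSolvable H] :
    ADc M (Subgroup.inclusion (le_sup_left : N ≤ N ⊔ H)) := by
  have hNA : N ≤ N ⊔ H := le_sup_left
  obtain ⟨hidx', hcos'⟩ := ad_hyp_subgroup N hidx hcos (N ⊔ H) hNA
  obtain ⟨k, hk⟩ : ∃ k, derivedSeries ↥(N ⊔ H) k ≤ N.subgroupOf (N ⊔ H) := by
    let π : ↥(N ⊔ H) →* ↥(N ⊔ H) ⧸ N.subgroupOf (N ⊔ H) := QuotientGroup.mk' _
    let f : ↥H →* ↥(N ⊔ H) ⧸ N.subgroupOf (N ⊔ H) :=
      π.comp (Subgroup.inclusion (le_sup_right : H ≤ N ⊔ H))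
    have hf : Function.Surjective f := by
      intro q
      obtain ⟨a, rfl⟩ := QuotientGroup.mk'_surjective _ q
      obtain ⟨n, hn, h, hh, hnh⟩ := exists_mul_of_mem_sup_normal N H a.2
      refine ⟨⟨h, hh⟩, ?_⟩
      show ((Subgroup.inclusion (le_sup_right : H ≤ N ⊔ H) ⟨h, hh⟩ : ↥(N ⊔ H)) :
        ↥(N ⊔ H) ⧸ N.subgroupOf (N ⊔ H)) = (a : ↥(N ⊔ H) ⧸ N.subgroupOf (N ⊔ H))
      rw [QuotientGroup.eq, Subgroup.mem_subgroupOf]
      have e : (((Subgroup.inclusion (le_sup_right : H ≤ N ⊔ H) ⟨h, hh⟩)⁻¹ * a : ↥(N ⊔ H)) : G) =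
          h⁻¹ * n * h⁻¹⁻¹ := by
        show h⁻¹ * (a : G) = h⁻¹ * n * h⁻¹⁻¹
        rw [← hnh]
        group
      rw [e]
      exact hN.conj_mem n hn h⁻¹
    haveI : Group.IsSolvable (↥(N ⊔ H) ⧸ N.subgroupOf (N ⊔ H)) :=
      Group.isSolvable_of_surjective hf
    obtain ⟨k, hk⟩ := Group.IsSolvable.solvable (G := ↥(N ⊔ H) ⧸ N.subgroupOf (N ⊔ H))
    refine ⟨k, ?_⟩
    have h1 := _root_.map_derivedSeries_eq (f := π) (QuotientGroup.mk'_surjective _) k
    rw [hk] at h1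
    intro x hx
    have h2 : π x ∈ (derivedSeries ↥(N ⊔ H) k).map π := Subgroup.mem_map_of_mem _ hx
    rw [h1, Subgroup.mem_bot] at h2
    exact (QuotientGroup.eq_one_iff x).1 h2
  have h2 := adc_of_derivedSeries hM k (N.subgroupOf (N ⊔ H)) hk hidx' hcos'
  have h3 : ADc M (Subgroup.subgroupOfEquivOfLe hNA).symm.toMonoidHom := ADc.of_mulEquiv M _
  have h4 := h3.comp h2
  have e : (N.subgroupOf (N ⊔ H)).subtype.comp
      (Subgroup.subgroupOfEquivOfLe hNA).symm.toMonoidHom = Subgroup.inclusion hNA := by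
    ext n
    rfl
  rw [e] at h4
  exact h4

end Cfsg.Agent.Lib.Helper81
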