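import Mathlib
import Cfsg.Prelude.Def_Blocks
import Cfsg.Agent.Lib.Helper81.ADSolv
import Cfsg.Agent.Lib.Helper82.Elementary
import Cfsg.Agent.Lib.Helper3.BrauerMain
import Cfsg.Agent.Lib.Lead.Frobenius
import Cfsg.Agent.S0868

set_option autoImplicit false
set_option linter.style.haveILetI false
set_option linter.unusedSectionVars false

/-!
# Alperin–Dade: the general case

`N` normal in `G` of index prime to `p`, every coset of `N` containing an element of class size
prime to `p` (e.g. `G = N C_G(P)` for a Sylow `p`-subgroup `P`).  Then restriction is a bijection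
from the principal block of `G` onto the principal block of `N`.  The extension of `θ` is glued
from the extensions to the subgroups `N⟨g⟩` and is a character by Brauer's characterization.
-/

namespace Cfsg.Agent.Lib.Helper81

open scoped ComplexConjugate

universe u

section

variable {G : Type u} [Group G] [Finite G] {p : ℕ} [Fact p.Prime] {M : Ideal Cfsg.AlgInt}

omit [Finite G] [Fact p.Prime] in
/-- the centralizer of an element of a subgroup, inside the subgroup -/
theorem centralizer_subtype_eq (A : Subgroup G) (c : G) (hc : c ∈ A) :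
    Subgroup.centralizer ({(⟨c, hc⟩ : A)} : Set A) =
      (Subgroup.centralizer ({c} : Set G)).subgroupOf A := by
  ext x
  rw [Subgroup.mem_subgroupOf, Subgroup.mem_centralizer_iff, Subgroup.mem_centralizer_iff]
  constructor
  · intro h y hy
    rw [Set.mem_singleton_iff] at hy
    rw [hy]
    have := h ⟨c, hc⟩ (Set.mem_singleton _)
    exact congrArg Subtype.val this
  · intro h y hy
    rw [Set.mem_singleton_iff] at hy
    rw [hy]
    apply Subtype.ext
    exact h c (Set.mem_singleton _)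

/-- **compatibility with restriction**: the member of the principal block of `A` extending `θ`
restricts on an intermediate subgroup `L` to any member of the principal block of `L` extending
`θ` -/
theorem ad_restrict_eq (hM : Cfsg.IsPModular p M) (N : Subgroup G) [hN : N.Normal]
    (hidx : ¬ p ∣ N.index) {L A : Subgroup G} (hNL : N ≤ L) (hLA : L ≤ A)
    (hA : ADc M (Subgroup.inclusion (hNL.trans hLA)))
    (θ : Cfsg.IrrCharacter N)
    (ψ : Cfsg.IrrCharacter L) (hψ : ψ ∈ Cfsg.principalBlock M L)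
    (hψθ : ∀ n : N, (ψ : L → ℂ) (Subgroup.inclusion hNL n) = (θ : N → ℂ) n)
    (χ : Cfsg.IrrCharacter A) (hχ : χ ∈ Cfsg.principalBlock M A)
    (hχθ : ∀ n : N, (χ : A → ℂ) (Subgroup.inclusion (hNL.trans hLA) n) = (θ : N → ℂ) n)
    (l : L) : (χ : A → ℂ) (Subgroup.inclusion hLA l) = (ψ : L → ℂ) l := by
  classical
  haveI : Fintype A := Fintype.ofFinite _
  haveI : Fintype N := Fintype.ofFinite _
  haveI : Fintype (L.subgroupOf A) := Fintype.ofFinite _
  let e : L.subgroupOf A ≃* L := Subgroup.subgroupOfEquivOfLe hLA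
  let ψ' : Cfsg.IrrCharacter (L.subgroupOf A) := Helper77.mapIrr e.symm ψ
  have hψ' : ψ' ∈ Cfsg.principalBlock M (L.subgroupOf A) :=
    (principalBlock_mapIrr M e.symm ψ).2 hψ
  have hψ'v : ∀ x : L.subgroupOf A, (ψ' : _ → ℂ) x = (ψ : L → ℂ) (e x) := fun x => rfl
  let P : Sylow p A := default
  have hidxA : ¬ p ∣ (N.subgroupOf A).index :=
    fun h => hidx (dvd_trans h (Subgroup.relIndex_dvd_index_of_normal N A))
  have hPN : (P : Subgroup A) ≤ N.subgroupOf A :=
    sylow_le_of_normal_of_not_dvd_index _ hidxA P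
  have hNL' : N.subgroupOf A ≤ L.subgroupOf A := fun x hx => by
    rw [Subgroup.mem_subgroupOf] at hx ⊢
    exact hNL hx
  obtain ⟨χ₁, hχ₁, hover⟩ := Helper74.LemmaL.exists_over p M hM P (L.subgroupOf A)
    (fun x hx l hl => (L.subgroupOf A).mul_mem ((L.subgroupOf A).mul_mem (hNL' (hPN hx)) hl)
      ((L.subgroupOf A).inv_mem (hNL' (hPN hx)))) ψ' hψ'
  obtain ⟨θ₁, hθ₁, h1⟩ := hA.1 χ₁ hχ₁
  let φ : N →* L.subgroupOf A := e.symm.toMonoidHom.comp (Subgroup.inclusion hNL)
  have hφ : ∀ n : N, ((φ n : L.subgroupOf A) : A) = Subgroup.inclusion (hNL.trans hLA) n :=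
    fun n => rfl
  have hξc : Cfsg.IsCharacter (L.subgroupOf A) (fun x : L.subgroupOf A => (χ₁ : A → ℂ) x) :=
    Helper80.isCharacter_restrict (L.subgroupOf A) (Helper80.isCharacter_of_isIrrCharacter χ₁.2)
  have hξirr : Cfsg.IsIrrCharacter (L.subgroupOf A)
      (fun x : L.subgroupOf A => (χ₁ : A → ℂ) x) := by
    apply isIrrCharacter_of_comp_irr φ hξc
    have h3 : (fun q : N => (χ₁ : A → ℂ) ((φ q : L.subgroupOf A) : A)) = (θ₁ : N → ℂ) := by
      funext n
      rw [hφ n]
      exact h1 n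
    rw [h3]
    exact θ₁.2
  have hξ : (fun x : L.subgroupOf A => (χ₁ : A → ℂ) x) = (ψ' : _ → ℂ) := by
    by_contra hne
    rw [Helper80.classInner_irr_fun hξirr ψ'.2, if_neg hne] at hover
    exact hover rfl
  have h2 : ∀ n : N, (χ₁ : A → ℂ) (Subgroup.inclusion (hNL.trans hLA) n) = (θ : N → ℂ) n := by
    intro n
    have h3 := congrFun hξ (φ n)
    rw [hψ'v] at h3
    have he : e (φ n) = Subgroup.inclusion hNL n := e.apply_symm_apply _
    rw [he, hψθ n] at h3
    exact h3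
  have hθ : θ ∈ Cfsg.principalBlock M N := by
    have h3 : θ₁ = θ := by
      apply Subtype.ext
      funext n
      rw [← h1 n, h2 n]
    rw [← h3]
    exact hθ₁
  obtain ⟨χ₀, -, -, hu⟩ := hA.2 θ hθ
  have e1 : χ = χ₁ := by rw [hu χ hχ hχθ, hu χ₁ hχ₁ h2]
  rw [e1]
  have h3 := congrFun hξ (e.symm l)
  rw [hψ'v, e.apply_symm_apply] at h3
  exact h3

/-- **existence of the extension in the principal block** -/
theorem ad_exists_ext (hM : Cfsg.IsPModular p M) (N : Subgroup G) [hN : N.Normal]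
    (hidx : ¬ p ∣ N.index)
    (hcos : ∀ g : G, ∃ c : G, c⁻¹ * g ∈ N ∧ ¬ p ∣ (Subgroup.centralizer ({c} : Set G)).index)
    (θ : Cfsg.IrrCharacter N) (hθ : θ ∈ Cfsg.principalBlock M N) :
    ∃ Θ : Cfsg.IrrCharacter G, Θ ∈ Cfsg.principalBlock M G ∧
      ∀ n : N, (Θ : G → ℂ) n = (θ : N → ℂ) n := by
  classical
  haveI : Fintype G := Fintype.ofFinite G
  haveI : Fintype N := Fintype.ofFinite N
  haveI : Fintype (Cfsg.IrrCharacter G) := Fintype.ofFinite _
  have hMp := Helper16.isPrime_of_isPModular hM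
  have hS : ∀ (H : Subgroup G), Group.IsSolvable H →
      ADc M (Subgroup.inclusion (le_sup_left : N ≤ N ⊔ H)) :=
    fun H hH => by
      haveI := hH
      exact adc_sup_of_solvable hM N hidx hcos H
  have hzsolv : ∀ g : G, Group.IsSolvable ↥(Subgroup.zpowers g) := by
    intro g
    apply Group.isSolvable_of_comm
    intro a b
    obtain ⟨i, hi⟩ := Subgroup.mem_zpowers_iff.1 a.2
    obtain ⟨j, hj⟩ := Subgroup.mem_zpowers_iff.1 b.2
    apply Subtype.ext
    show (a : G) * (b : G) = (b : G) * (a : G)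
    rw [← hi, ← hj, ← zpow_add, ← zpow_add, add_comm]
  have hAD : ∀ g : G, ADc M (Subgroup.inclusion (le_sup_left : N ≤ N ⊔ Subgroup.zpowers g)) :=
    fun g => hS _ (hzsolv g)
  choose X hX1 hX2 hX3 using fun g => (hAD g).2 θ hθ
  have hmem : ∀ g : G, g ∈ N ⊔ Subgroup.zpowers g :=
    fun g => (le_sup_right : Subgroup.zpowers g ≤ N ⊔ Subgroup.zpowers g) (Subgroup.mem_zpowers g)
  let Θ : G → ℂ := fun g => (X g : ↥(N ⊔ Subgroup.zpowers g) → ℂ) ⟨g, hmem g⟩
  have hchar : ∀ (A : Subgroup G) (hNA : N ≤ A), ADc M (Subgroup.inclusion hNA) →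
      ∀ χ : Cfsg.IrrCharacter A, χ ∈ Cfsg.principalBlock M A →
      (∀ n : N, (χ : A → ℂ) (Subgroup.inclusion hNA n) = (θ : N → ℂ) n) →
      ∀ (a : G) (ha : a ∈ A), Θ a = (χ : A → ℂ) ⟨a, ha⟩ := by
    intro A hNA hA χ hχ hχθ a ha
    have hLA : N ⊔ Subgroup.zpowers a ≤ A := sup_le hNA ((Subgroup.zpowers_le).2 ha)
    exact (ad_restrict_eq hM N hidx le_sup_left hLA hA θ (X a) (hX1 a) (hX2 a) χ hχ hχθ
      ⟨a, hmem a⟩).symm
  have hΘN : ∀ n : N, Θ (n : G) = (θ : N → ℂ) n := fun n => hX2 (n : G) n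
  -- `θ` is invariant in `G`
  have hinv : ∀ (x : G) (n m : N), (m : G) = x * n * x⁻¹ →
      (θ : N → ℂ) m = (θ : N → ℂ) n := by
    intro x n m hm
    have hc := Helper80.isCharacter_of_isIrrCharacter (X x).2
    have h1 := Helper80.char_conj_eq hc (Subgroup.inclusion le_sup_left n) ⟨x, hmem x⟩
    have h2 : (⟨x, hmem x⟩ : ↥(N ⊔ Subgroup.zpowers x)) * Subgroup.inclusion le_sup_left n *
        (⟨x, hmem x⟩ : ↥(N ⊔ Subgroup.zpowers x))⁻¹ = Subgroup.inclusion le_sup_left m := by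
      apply Subtype.ext
      show x * (n : G) * x⁻¹ = (m : G)
      exact hm.symm
    rw [h2, hX2 x m, hX2 x n] at h1
    exact h1
  -- `Θ` is a class function
  have hcf : Cfsg.IsClassFunction G Θ := by
    intro g x
    have hmap : ∀ a ∈ N ⊔ Subgroup.zpowers g,
        x * a * x⁻¹ ∈ N ⊔ Subgroup.zpowers (x * g * x⁻¹) := by
      have h1 : N ⊔ Subgroup.zpowers g ≤
          (N ⊔ Subgroup.zpowers (x * g * x⁻¹)).comap (MulAut.conj x).toMonoidHom := by
        refine sup_le (fun n hn => ?_) ((Subgroup.zpowers_le).2 ?_)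
        · rw [Subgroup.mem_comap]
          exact (le_sup_left : N ≤ _) (hN.conj_mem n hn x)
        · rw [Subgroup.mem_comap]
          exact hmem (x * g * x⁻¹)
      intro a ha
      exact h1 ha
    have hmap' : ∀ b ∈ N ⊔ Subgroup.zpowers (x * g * x⁻¹),
        x⁻¹ * b * x ∈ N ⊔ Subgroup.zpowers g := by
      have h1 : N ⊔ Subgroup.zpowers (x * g * x⁻¹) ≤
          (N ⊔ Subgroup.zpowers g).comap (MulAut.conj x⁻¹).toMonoidHom := by
        refine sup_le (fun n hn => ?_) ((Subgroup.zpowers_le).2 ?_)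
        · rw [Subgroup.mem_comap]
          exact (le_sup_left : N ≤ _) (hN.conj_mem n hn x⁻¹)
        · rw [Subgroup.mem_comap]
          have e : (MulAut.conj x⁻¹).toMonoidHom (x * g * x⁻¹) = g := by
            show x⁻¹ * (x * g * x⁻¹) * x⁻¹⁻¹ = g
            group
          rw [e]
          exact hmem g
      intro b hb
      have h := h1 hb
      rw [Subgroup.mem_comap] at h
      have e : (MulAut.conj x⁻¹).toMonoidHom b = x⁻¹ * b * x := by
        show x⁻¹ * b * x⁻¹⁻¹ = x⁻¹ * b * x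
        rw [inv_inv]
      rwa [e] at h
    let α : ↥(N ⊔ Subgroup.zpowers g) ≃* ↥(N ⊔ Subgroup.zpowers (x * g * x⁻¹)) :=
      { toFun := fun a => ⟨x * a * x⁻¹, hmap a a.2⟩
        invFun := fun b => ⟨x⁻¹ * b * x, hmap' b b.2⟩
        left_inv := fun a => by
          apply Subtype.ext
          show x⁻¹ * (x * (a : G) * x⁻¹) * x = a
          group
        right_inv := fun b => by
          apply Subtype.ext
          show x * (x⁻¹ * (b : G) * x) * x⁻¹ = b
          group
        map_mul' := fun a b => by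
          apply Subtype.ext
          show x * ((a : G) * (b : G)) * x⁻¹ = (x * a * x⁻¹) * (x * b * x⁻¹)
          group }
    have hχ' : Helper77.mapIrr α (X g) ∈ Cfsg.principalBlock M _ :=
      (principalBlock_mapIrr M α (X g)).2 (hX1 g)
    have hχ'θ : ∀ n : N, (Helper77.mapIrr α (X g) : ↥(N ⊔ Subgroup.zpowers (x * g * x⁻¹)) → ℂ) (Subgroup.inclusion le_sup_left n) =
        (θ : N → ℂ) n := by
      intro n
      rw [Helper77.mapIrr_apply]
      have hm : x⁻¹ * (n : G) * x ∈ N := by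
        have := hN.conj_mem n n.2 x⁻¹
        rwa [inv_inv] at this
      have e1 : α.symm (Subgroup.inclusion le_sup_left n) =
          Subgroup.inclusion le_sup_left (⟨x⁻¹ * n * x, hm⟩ : N) := by
        apply Subtype.ext
        rfl
      rw [e1, hX2 g]
      exact hinv x⁻¹ n ⟨x⁻¹ * n * x, hm⟩ (by
        show x⁻¹ * (n : G) * x = x⁻¹ * n * x⁻¹⁻¹
        rw [inv_inv])
    have h1 := hchar _ le_sup_left (hAD (x * g * x⁻¹)) (Helper77.mapIrr α (X g)) hχ' hχ'θ
      (x * g * x⁻¹) (hmem _)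
    rw [h1, Helper77.mapIrr_apply]
    show (X g : ↥(N ⊔ Subgroup.zpowers g) → ℂ) (α.symm ⟨x * g * x⁻¹, hmem _⟩) = (X g : ↥(N ⊔ Subgroup.zpowers g) → ℂ) ⟨g, hmem g⟩
    refine congrArg _ (Subtype.ext ?_)
    show x⁻¹ * (x * g * x⁻¹) * x = g
    group
  -- `Θ` is a generalized character
  have hgen : Cfsg.IsGeneralizedCharacter G Θ := by
    apply Helper3.brauer_characterization Θ hcf
    intro E q hq hE
    haveI : Group.IsNilpotent E := Helper82.isNilpotent_of_isElementary hq hE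
    have hA := hS E inferInstance
    obtain ⟨χ, hχ, hχθ, -⟩ := hA.2 θ hθ
    have h1 : (fun e : E => Θ e) =
        fun e : E => (χ : ↥(N ⊔ E) → ℂ) (Subgroup.inclusion (le_sup_right : E ≤ N ⊔ E) e) := by
      funext e
      exact hchar _ le_sup_left hA χ hχ hχθ (e : G) ((le_sup_right : E ≤ N ⊔ E) e.2)
    refine ⟨fun e : E => (χ : ↥(N ⊔ E) → ℂ) (Subgroup.inclusion (le_sup_right : E ≤ N ⊔ E) e),
      0, ?_, Helper80.isCharacter_zero, ?_⟩
    · exact Helper80.isCharacter_comp (Subgroup.inclusion (le_sup_right : E ≤ N ⊔ E))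
        (Helper80.isCharacter_of_isIrrCharacter χ.2)
    · rw [sub_zero]
      exact h1
  have hint : ∀ ψ : Cfsg.IrrCharacter G, ∃ m : ℤ, Cfsg.classInner Θ (ψ : G → ℂ) = m := by
    intro ψ
    obtain ⟨a, b, ha, hb, hab⟩ := hgen
    obtain ⟨m₁, hm₁⟩ := Helper80.classInner_nat ha (Helper80.isCharacter_of_isIrrCharacter ψ.2)
    obtain ⟨m₂, hm₂⟩ := Helper80.classInner_nat hb (Helper80.isCharacter_of_isIrrCharacter ψ.2)
    refine ⟨(m₁ : ℤ) - m₂, ?_⟩
    have h1 : Cfsg.classInner Θ (ψ : G → ℂ) =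
        Cfsg.classInner a (ψ : G → ℂ) - Cfsg.classInner b (ψ : G → ℂ) := by
      rw [hab]
      unfold Cfsg.classInner
      simp only [Pi.sub_apply, sub_mul, Finset.sum_sub_distrib, mul_sub]
    rw [h1, hm₁, hm₂]
    push_cast
    ring
  have hN0 : (Nat.card N : ℂ) ≠ 0 := by exact_mod_cast (Nat.card_pos (α := N)).ne'
  have hG0 : (Nat.card G : ℂ) ≠ 0 := by exact_mod_cast (Nat.card_pos (α := G)).ne'
  -- the norm of `Θ`
  have hnorm : Cfsg.classInner Θ Θ = 1 := by
    unfold Cfsg.classInner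
    rw [sum_eq_sum_coset N]
    have hcoset : ∀ g : G, ∑ n : N, Θ ((n : G) * g) * conj (Θ ((n : G) * g)) =
        (Nat.card N : ℂ) := by
      intro g
      haveI : Fintype ↥(N ⊔ Subgroup.zpowers g) := Fintype.ofFinite _
      haveI : Fintype ↥(N.subgroupOf (N ⊔ Subgroup.zpowers g)) := Fintype.ofFinite _
      let e : N.subgroupOf (N ⊔ Subgroup.zpowers g) ≃* N := Subgroup.subgroupOfEquivOfLe le_sup_left
      have hχN : Cfsg.IsIrrCharacter (N.subgroupOf (N ⊔ Subgroup.zpowers g))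
          (fun n' : N.subgroupOf (N ⊔ Subgroup.zpowers g) => (X g : ↥(N ⊔ Subgroup.zpowers g) → ℂ) n') := by
        have h1 := Helper80.isIrrCharacter_comp_mulEquiv e θ.2
        have h2 : (fun n' : N.subgroupOf (N ⊔ Subgroup.zpowers g) => (X g : ↥(N ⊔ Subgroup.zpowers g) → ℂ) n') =
            fun n' => (θ : N → ℂ) (e n') := by
          funext n'
          exact hX2 g (e n')
        rw [h2]
        exact h1
      have key := congrFun (Cfsg.Agent.S0868.avg_self (N.subgroupOf (N ⊔ Subgroup.zpowers g))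
        (X g : ↥(N ⊔ Subgroup.zpowers g) → ℂ) (X g).2 hχN) ⟨g, hmem g⟩
      have hsum : ∑ n : N, Θ ((n : G) * g) * conj (Θ ((n : G) * g)) =
          ∑ n' : N.subgroupOf (N ⊔ Subgroup.zpowers g),
            (X g : ↥(N ⊔ Subgroup.zpowers g) → ℂ) ((n' : ↥(N ⊔ Subgroup.zpowers g)) * ⟨g, hmem g⟩) *
              conj ((X g : ↥(N ⊔ Subgroup.zpowers g) → ℂ) ((n' : ↥(N ⊔ Subgroup.zpowers g)) * ⟨g, hmem g⟩)) := by
        refine (Fintype.sum_equiv e.toEquiv _ _ (fun n' => ?_)).symm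
        have h3 : Θ (((e n' : N) : G) * g) =
            (X g : ↥(N ⊔ Subgroup.zpowers g) → ℂ) ((n' : ↥(N ⊔ Subgroup.zpowers g)) * ⟨g, hmem g⟩) := by
          rw [hchar _ le_sup_left (hAD g) (X g) (hX1 g) (hX2 g) _
            ((N ⊔ Subgroup.zpowers g).mul_mem ((le_sup_left : N ≤ _) (e n').2) (hmem g))]
          exact congrArg _ (Subtype.ext rfl)
        show _ = Θ (((e n' : N) : G) * g) * conj (Θ (((e n' : N) : G) * g))
        rw [h3]
      rw [hsum]
      have hcard : Nat.card (N.subgroupOf (N ⊔ Subgroup.zpowers g)) = Nat.card N :=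
        Nat.card_congr e.toEquiv
      rw [hcard] at key
      field_simp at key
      linear_combination key
    rw [Finset.sum_congr rfl (fun g _ => hcoset g), Finset.sum_const, Finset.card_univ,
      nsmul_eq_mul, ← Nat.card_eq_fintype_card]
    field_simp
  have hΘ1 : Θ 1 = (θ : N → ℂ) 1 := hΘN 1
  have hpos : 0 < (Θ 1).re := by
    rw [hΘ1, Helper80.char_one_eq_charDegree (Helper80.isCharacter_of_isIrrCharacter θ.2)]
    simp only [Complex.natCast_re]
    exact_mod_cast Helper80.charDegree_pos θ.2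
  have hΘirr : Cfsg.IsIrrCharacter G Θ := Lead.isIrrCharacter_of_int hcf hint hnorm hpos
  -- `Θ` lies in the principal block
  have hΘB : Cfsg.SameBlock M (fun _ : G => (1 : ℂ)) Θ := by
    intro g
    set C := Subgroup.centralizer ({g} : Set G) with hC
    have h1 := hX1 g ⟨g, hmem g⟩
    have hcent := centralizer_subtype_eq (N ⊔ Subgroup.zpowers g) g (hmem g)
    have ha : (Subgroup.centralizer
        ({(⟨g, hmem g⟩ : ↥(N ⊔ Subgroup.zpowers g))} : Set ↥(N ⊔ Subgroup.zpowers g))).index =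
        C.relIndex (N ⊔ Subgroup.zpowers g) := by
      rw [hcent]
      rfl
    have hX1' : (X g : ↥(N ⊔ Subgroup.zpowers g) → ℂ) 1 = Θ 1 := by
      rw [hΘ1]
      exact hX2 g 1
    have e0 : Cfsg.centralChar (fun _ : ↥(N ⊔ Subgroup.zpowers g) => (1 : ℂ)) ⟨g, hmem g⟩ =
        (C.relIndex (N ⊔ Subgroup.zpowers g) : ℂ) := by
      unfold Cfsg.centralChar
      rw [ha]
      simp
    have e1 : Cfsg.centralChar (X g : ↥(N ⊔ Subgroup.zpowers g) → ℂ) ⟨g, hmem g⟩ =
        (C.relIndex (N ⊔ Subgroup.zpowers g) : ℂ) * Θ g / Θ 1 := by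
      unfold Cfsg.centralChar
      rw [ha, hX1']
    rw [e0, e1] at h1
    have e2 : Cfsg.centralChar (fun _ : G => (1 : ℂ)) g - Cfsg.centralChar Θ g =
        (C.index : ℂ) * (1 - Θ g / Θ 1) := by
      unfold Cfsg.centralChar
      ring
    rw [e2]
    have hr : (N ⊔ Subgroup.zpowers g).relIndex C * C.index =
        C.relIndex (N ⊔ Subgroup.zpowers g) * (N ⊔ Subgroup.zpowers g).index := by
      have h3 : (C ⊓ (N ⊔ Subgroup.zpowers g)).relIndex (N ⊔ Subgroup.zpowers g) *
          (N ⊔ Subgroup.zpowers g).index = (C ⊓ (N ⊔ Subgroup.zpowers g)).index :=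
        Subgroup.relIndex_mul_index inf_le_right
      have h4 : (C ⊓ (N ⊔ Subgroup.zpowers g)).relIndex C * C.index =
          (C ⊓ (N ⊔ Subgroup.zpowers g)).index :=
        Subgroup.relIndex_mul_index inf_le_left
      rw [Subgroup.inf_relIndex_right] at h3
      rw [Subgroup.inf_relIndex_left] at h4
      rw [h3, h4]
    have hpr : ¬ p ∣ (N ⊔ Subgroup.zpowers g).relIndex C := fun h =>
      hidx (dvd_trans (dvd_trans h (Subgroup.relIndex_dvd_of_le_left C
        (le_sup_left : N ≤ N ⊔ Subgroup.zpowers g))) (Subgroup.relIndex_dvd_index_of_normal N C))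
    apply Helper16.memLocalIdeal_of_natCast_mul hM hpr
    have e3 : ((N ⊔ Subgroup.zpowers g).relIndex C : ℂ) * ((C.index : ℂ) * (1 - Θ g / Θ 1)) =
        ((N ⊔ Subgroup.zpowers g).index : ℂ) *
          ((C.relIndex (N ⊔ Subgroup.zpowers g) : ℂ) -
            (C.relIndex (N ⊔ Subgroup.zpowers g) : ℂ) * Θ g / Θ 1) := by
      have h5 : ((N ⊔ Subgroup.zpowers g).relIndex C : ℂ) * (C.index : ℂ) =
          (C.relIndex (N ⊔ Subgroup.zpowers g) : ℂ) * ((N ⊔ Subgroup.zpowers g).index : ℂ) := by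
        exact_mod_cast hr
      linear_combination (1 - Θ g / Θ 1) * h5
    rw [e3]
    exact Helper16.memLocalIdeal_mul_left hMp (Helper16.memLocalRing_natCast hMp _) h1
  exact ⟨⟨Θ, hΘirr⟩, hΘB, hΘN⟩

/-- **Alperin–Dade**, character-theoretic form -/
theorem alperin_dade (hM : Cfsg.IsPModular p M) (N : Subgroup G) [hN : N.Normal]
    (hidx : ¬ p ∣ N.index)
    (hcos : ∀ g : G, ∃ c : G, c⁻¹ * g ∈ N ∧ ¬ p ∣ (Subgroup.centralizer ({c} : Set G)).index) :
    ADc M N.subtype := by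
  classical
  haveI : Fintype G := Fintype.ofFinite G
  haveI : Fintype N := Fintype.ofFinite N
  have hMp := Helper16.isPrime_of_isPModular hM
  have huniq : ∀ (θ : Cfsg.IrrCharacter N) (Θ : Cfsg.IrrCharacter G),
      Θ ∈ Cfsg.principalBlock M G → (∀ n : N, (Θ : G → ℂ) n = (θ : N → ℂ) n) →
      ∀ χ : Cfsg.IrrCharacter G, χ ∈ Cfsg.principalBlock M G →
      Cfsg.classInner (fun n : N => (χ : G → ℂ) n) (θ : N → ℂ) ≠ 0 → χ = Θ := by
    intro θ Θ hΘ hΘθ χ hχ hover
    have hΘN : (fun n : N => (Θ : G → ℂ) n) = (θ : N → ℂ) := funext hΘθ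
    apply Subtype.ext
    exact ad_unique hM N hidx hcos Θ.2 χ.2 hΘ hχ (by rw [hΘN]; exact θ.2)
      (by rw [hΘN]; exact hover)
  refine ⟨fun χ hχ => ?_, fun θ hθ => ?_⟩
  · have hχc := Helper80.isCharacter_of_isIrrCharacter χ.2
    obtain ⟨θ, hθirr, hover⟩ := exists_constituent81 (Helper80.isCharacter_restrict N hχc)
      (Helper80.char_one_ne_zero χ.2)
    have hθB : (⟨θ, hθirr⟩ : Cfsg.IrrCharacter N) ∈ Cfsg.principalBlock M N :=
      Helper75.principal_of_over N hMp χ.2 hθirr hover hχ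
    obtain ⟨Θ, hΘ, hΘθ⟩ := ad_exists_ext hM N hidx hcos ⟨θ, hθirr⟩ hθB
    have h1 := huniq ⟨θ, hθirr⟩ Θ hΘ hΘθ χ hχ hover
    exact ⟨⟨θ, hθirr⟩, hθB, fun n => by rw [h1]; exact hΘθ n⟩
  · obtain ⟨Θ, hΘ, hΘθ⟩ := ad_exists_ext hM N hidx hcos θ hθ
    refine ⟨Θ, hΘ, hΘθ, fun χ' hχ' h' => ?_⟩
    apply huniq θ Θ hΘ hΘθ χ' hχ'
    have h2 : (fun n : N => (χ' : G → ℂ) n) = (θ : N → ℂ) := funext h'
    rw [h2, Helper80.classInner_irr_fun θ.2 θ.2, if_pos rfl]
    exact one_ne_zero

end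

end Cfsg.Agent.Lib.Helper81
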