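import Mathlib
import Cfsg.Prelude.Def_Characters
import Cfsg.Agent.Lib.Helper81.GallRel
import Cfsg.Agent.Lib.Helper75.CliffordCorr2

/-!
# The Clifford correspondence in relative form

`Q ≤ S ≤ H` are subgroups of an ambient finite group `Γ`, `H` normalises `Q`, and `S` is the
stabiliser in `H` of an irreducible character `θ` of `Q`.  Conjugation of `θ` is expressed through
its extension by zero to `Γ`.
-/

set_option autoImplicit false
set_option linter.unusedSectionVars false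
set_option linter.style.haveILetI false

namespace Cfsg.Agent.Lib.Helper81

open scoped ComplexConjugate

universe u

/-- multiplicities through an intermediate group -/
theorem classInner_res_expand {H K Q : Type u} [Group H] [Fintype H] [Group K] [Fintype K]
    [Group Q] [Fintype Q] [Fintype (Cfsg.IrrCharacter K)] (f : K →* H) (g : Q →* K)
    {α : H → ℂ} {θ : Q → ℂ} (hα : Cfsg.IsCharacter H α) (hθ : Cfsg.IsCharacter Q θ) :
    ∃ (m n : Cfsg.IrrCharacter K → ℕ) (e : ℕ),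
      (∀ ψ : Cfsg.IrrCharacter K, Cfsg.classInner (fun k => α (f k)) (ψ : K → ℂ) = (m ψ : ℂ)) ∧
      (∀ ψ : Cfsg.IrrCharacter K, Cfsg.classInner (fun q => (ψ : K → ℂ) (g q)) θ = (n ψ : ℂ)) ∧
      Cfsg.classInner (fun q => α (f (g q))) θ = (e : ℂ) ∧ e = ∑ ψ, m ψ * n ψ := by
  classical
  obtain ⟨m, hm, hsum⟩ := Helper80.character_expansion (Helper80.isCharacter_comp f hα)
  have hn : ∀ ψ : Cfsg.IrrCharacter K, ∃ n : ℕ,
      Cfsg.classInner (fun q => (ψ : K → ℂ) (g q)) θ = (n : ℂ) :=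
    fun ψ => Helper80.classInner_nat
      (Helper80.isCharacter_comp g (Helper80.isCharacter_of_isIrrCharacter ψ.2)) hθ
  choose n hn using hn
  refine ⟨m, n, ∑ ψ, m ψ * n ψ, hm, hn, ?_, rfl⟩
  have h4 : (fun q => α (f (g q))) =
      ∑ ψ : Cfsg.IrrCharacter K, (m ψ : ℂ) • (fun q => (ψ : K → ℂ) (g q)) := by
    funext q
    have h5 := congrFun hsum (g q)
    simp only [Finset.sum_apply, Pi.smul_apply] at h5 ⊢
    exact h5
  rw [h4, Helper80.classInner_sum_left]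
  push_cast
  refine Finset.sum_congr rfl (fun ψ _ => ?_)
  rw [Helper80.classInner_smul_left, hn ψ]

section TypeLevel

variable {G : Type u} [Group G] [Fintype G] (N : Subgroup G) [hN : N.Normal] [Fintype N]
  (T : Subgroup G) [Fintype T] (hNT : N ≤ T)

/-- **Clifford correspondence** with uniqueness: the irreducible character of the stabiliser `T`
over `θ` under `χ` induces `χ` and is the only irreducible constituent of `χ_T` over `θ` -/
theorem clifford_pkg {χ : G → ℂ} (hχ : Cfsg.IsIrrCharacter G χ) {θ : N → ℂ}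
    (hθ : Cfsg.IsIrrCharacter N θ) (hT : ∀ g : G, g ∈ T ↔ Helper75.conjChar N θ g = θ)
    (h : Cfsg.classInner (fun n : N => χ n) θ ≠ 0) :
    ∃ ψ₀ : T → ℂ, Cfsg.IsIrrCharacter T ψ₀ ∧ Cfsg.indFun T ψ₀ = χ ∧
      Cfsg.classInner (fun n : N => ψ₀ ⟨n, hNT n.2⟩) θ = Cfsg.classInner (fun n : N => χ n) θ ∧
      ∀ ψ : T → ℂ, Cfsg.IsIrrCharacter T ψ →
        Cfsg.classInner (fun n : N => ψ ⟨n, hNT n.2⟩) θ ≠ 0 →
        Cfsg.classInner (fun t : T => χ t) ψ ≠ 0 → ψ = ψ₀ := by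
  classical
  haveI : Fintype (Cfsg.IrrCharacter T) := Fintype.ofFinite _
  obtain ⟨ψ₀, hψ₀, hind, hmult⟩ := Helper75.clifford_correspondence N T hNT hχ hθ hT h
  refine ⟨ψ₀, hψ₀, hind, hmult, ?_⟩
  intro ψ hψ h1 h2
  by_contra hne
  have hχc := Helper80.isCharacter_of_isIrrCharacter hχ
  obtain ⟨m, n, e, hm, hn, he, hsum⟩ := classInner_res_expand T.subtype (Subgroup.inclusion hNT)
    hχc (Helper80.isCharacter_of_isIrrCharacter hθ)
  have hm0 : m ⟨ψ₀, hψ₀⟩ = 1 := by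
    have h3 := hm ⟨ψ₀, hψ₀⟩
    have h4 : Cfsg.classInner (fun t : T => χ t) ψ₀ = 1 := by
      rw [← Helper80.classInner_conj_symm, ← Helper80.frobenius_reciprocity T ψ₀ χ
        (Helper80.isClassFunction_of_isCharacter hχc), hind, Helper80.classInner_irr_fun hχ hχ,
        if_pos rfl, map_one]
    have h5 : ((m ⟨ψ₀, hψ₀⟩ : ℕ) : ℂ) = 1 := h3.symm.trans h4
    exact_mod_cast h5
  have hn0 : n ⟨ψ₀, hψ₀⟩ = e := by
    have h3 := hn ⟨ψ₀, hψ₀⟩
    have h5 : ((n ⟨ψ₀, hψ₀⟩ : ℕ) : ℂ) = (e : ℂ) := (h3.symm.trans hmult).trans he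
    exact_mod_cast h5
  have hm1 : m ⟨ψ, hψ⟩ ≠ 0 := by
    intro h0
    apply h2
    have h3 := hm ⟨ψ, hψ⟩
    rw [h0, Nat.cast_zero] at h3
    exact h3
  have hn1 : n ⟨ψ, hψ⟩ ≠ 0 := by
    intro h0
    apply h1
    have h3 := hn ⟨ψ, hψ⟩
    rw [h0, Nat.cast_zero] at h3
    exact h3
  have hne' : (⟨ψ, hψ⟩ : Cfsg.IrrCharacter T) ≠ ⟨ψ₀, hψ₀⟩ :=
    fun h' => hne (congrArg Subtype.val h')
  have hlt : e < ∑ ψ, m ψ * n ψ := by
    calc e < m ⟨ψ₀, hψ₀⟩ * n ⟨ψ₀, hψ₀⟩ + m ⟨ψ, hψ⟩ * n ⟨ψ, hψ⟩ := by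
          rw [hm0, hn0, one_mul]
          exact Nat.lt_add_of_pos_right
            (Nat.mul_pos (Nat.pos_of_ne_zero hm1) (Nat.pos_of_ne_zero hn1))
      _ ≤ ∑ ψ, m ψ * n ψ := by
          rw [← Finset.add_sum_erase Finset.univ (fun ψ => m ψ * n ψ)
            (Finset.mem_univ (⟨ψ₀, hψ₀⟩ : Cfsg.IrrCharacter T))]
          exact Nat.add_le_add_left (Finset.single_le_sum (f := fun ψ => m ψ * n ψ)
            (fun _ _ => Nat.zero_le _) (Finset.mem_erase.2 ⟨hne', Finset.mem_univ _⟩)) _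
  omega

end TypeLevel

section Rel

variable {Γ : Type u} [Group Γ] [Fintype Γ] (H Q S : Subgroup Γ) [Fintype H] [Fintype Q]
  [Fintype S]

/-- conjugation of characters of `Q` by elements of `H`, expressed through extension by zero -/
theorem conjChar_rel_iff (hQH : Q ≤ H) (hQn : ∀ h ∈ H, ∀ q ∈ Q, h * q * h⁻¹ ∈ Q)
    [hn : (Q.subgroupOf H).Normal] (θ θ₁ : Q → ℂ) (g : H) :
    Helper75.conjChar (Q.subgroupOf H)
        (fun n : Q.subgroupOf H => θ (Subgroup.subgroupOfEquivOfLe hQH n)) g =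
      (fun n : Q.subgroupOf H => θ₁ (Subgroup.subgroupOfEquivOfLe hQH n)) ↔
    ∀ y : Γ, Cfsg.extendByZero Q θ ((g : Γ)⁻¹ * y * (g : Γ)) = Cfsg.extendByZero Q θ₁ y := by
  have hmem : ∀ n : Q.subgroupOf H, g⁻¹ * (n : H) * g ∈ Q.subgroupOf H := by
    intro n
    rw [Subgroup.mem_subgroupOf]
    have h1 := hQn (g : Γ)⁻¹ (H.inv_mem g.2) _ n.2
    rw [inv_inv] at h1
    exact h1
  have key : ∀ n : Q.subgroupOf H,
      Helper75.conjChar (Q.subgroupOf H)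
        (fun n : Q.subgroupOf H => θ (Subgroup.subgroupOfEquivOfLe hQH n)) g n =
      Cfsg.extendByZero Q θ ((g : Γ)⁻¹ * ((n : H) : Γ) * (g : Γ)) := by
    intro n
    rw [Helper75.conjChar_val (Q.subgroupOf H) _ g n (hmem n)]
    exact (Helper80.extendByZero_apply_mem Q θ
      (Subgroup.subgroupOfEquivOfLe hQH ⟨g⁻¹ * (n : H) * g, hmem n⟩)).symm
  have key₁ : ∀ n : Q.subgroupOf H,
      θ₁ (Subgroup.subgroupOfEquivOfLe hQH n) = Cfsg.extendByZero Q θ₁ ((n : H) : Γ) :=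
    fun n => (Helper80.extendByZero_apply_mem Q θ₁ (Subgroup.subgroupOfEquivOfLe hQH n)).symm
  constructor
  · intro hc y
    by_cases hyQ : y ∈ Q
    · have h1 := congrFun hc ⟨⟨y, hQH hyQ⟩, hyQ⟩
      rw [key] at h1
      exact h1.trans (key₁ _)
    · have hnm : (g : Γ)⁻¹ * y * (g : Γ) ∉ Q := by
        intro hm
        apply hyQ
        have h1 := hQn (g : Γ) g.2 _ hm
        have e : (g : Γ) * ((g : Γ)⁻¹ * y * (g : Γ)) * (g : Γ)⁻¹ = y := by group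
        rwa [e] at h1
      rw [Helper80.extendByZero_apply_not_mem Q θ hnm, Helper80.extendByZero_apply_not_mem Q θ₁ hyQ]
  · intro hy
    funext n
    rw [key, key₁]
    exact hy _

/-- **Clifford correspondence**, relative form -/
theorem clifford_rel (hQH : Q ≤ H) (hQn : ∀ h ∈ H, ∀ q ∈ Q, h * q * h⁻¹ ∈ Q) (hSH : S ≤ H)
    (hQS : Q ≤ S) {θ : Q → ℂ} (hθ : Cfsg.IsIrrCharacter Q θ)
    (hS : ∀ k ∈ H, k ∈ S ↔
      ∀ y : Γ, Cfsg.extendByZero Q θ (k⁻¹ * y * k) = Cfsg.extendByZero Q θ y)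
    {χ : H → ℂ} (hχ : Cfsg.IsIrrCharacter H χ)
    (h : Cfsg.classInner (fun q : Q => χ ⟨q, hQH q.2⟩) θ ≠ 0) :
    ∃ ψ₀ : S → ℂ, Cfsg.IsIrrCharacter S ψ₀ ∧
      (∀ f : H → ℂ, Cfsg.IsClassFunction H f →
        Cfsg.classInner f χ = Cfsg.classInner (fun s : S => f ⟨s, hSH s.2⟩) ψ₀) ∧
      Cfsg.classInner (fun q : Q => ψ₀ ⟨q, hQS q.2⟩) θ =
        Cfsg.classInner (fun q : Q => χ ⟨q, hQH q.2⟩) θ ∧
      ∀ ψ : S → ℂ, Cfsg.IsIrrCharacter S ψ →
        Cfsg.classInner (fun q : Q => ψ ⟨q, hQS q.2⟩) θ ≠ 0 →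
        Cfsg.classInner (fun s : S => χ ⟨s, hSH s.2⟩) ψ ≠ 0 → ψ = ψ₀ := by
  classical
  haveI hn : (Q.subgroupOf H).Normal := by
    constructor
    intro n hn g
    rw [Subgroup.mem_subgroupOf] at hn ⊢
    exact hQn g g.2 n hn
  haveI : Fintype (Q.subgroupOf H) := Fintype.ofFinite _
  haveI : Fintype (S.subgroupOf H) := Fintype.ofFinite _
  let eQ : Q.subgroupOf H ≃* Q := Subgroup.subgroupOfEquivOfLe hQH
  let eS : S.subgroupOf H ≃* S := Subgroup.subgroupOfEquivOfLe hSH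
  have hNT : Q.subgroupOf H ≤ S.subgroupOf H := fun x hx => hQS hx
  have hθNirr : Cfsg.IsIrrCharacter (Q.subgroupOf H) (fun n => θ (eQ n)) :=
    Helper80.isIrrCharacter_comp_mulEquiv eQ hθ
  have hT : ∀ g : H, g ∈ S.subgroupOf H ↔
      Helper75.conjChar (Q.subgroupOf H) (fun n => θ (eQ n)) g = (fun n => θ (eQ n)) := by
    intro g
    rw [Subgroup.mem_subgroupOf, hS g g.2]
    exact (conjChar_rel_iff H Q hQH hQn θ θ g).symm
  have h' : Cfsg.classInner (fun n : Q.subgroupOf H => χ n) (fun n => θ (eQ n)) ≠ 0 := by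
    have h1 : Cfsg.classInner (fun n : Q.subgroupOf H => χ n) (fun n => θ (eQ n)) =
        Cfsg.classInner (fun q : Q => χ ⟨q, hQH q.2⟩) θ :=
      classInner_comp_mulEquiv eQ (fun q : Q => χ ⟨q, hQH q.2⟩) θ
    rw [h1]
    exact h
  obtain ⟨ψ₀', hψ₀', hind, hmult, huniq⟩ :=
    clifford_pkg (Q.subgroupOf H) (S.subgroupOf H) hNT hχ hθNirr hT h'
  refine ⟨fun s => ψ₀' (eS.symm s), Helper80.isIrrCharacter_comp_mulEquiv eS.symm hψ₀', ?_, ?_, ?_⟩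
  · intro f hf
    have h1 := Helper80.frobenius_reciprocity (S.subgroupOf H) ψ₀' f hf
    rw [hind] at h1
    have h2 : Cfsg.classInner (fun t : S.subgroupOf H => f t) ψ₀' =
        Cfsg.classInner (fun s : S => f ⟨s, hSH s.2⟩) (fun s => ψ₀' (eS.symm s)) := by
      have h3 := classInner_comp_mulEquiv eS (fun s : S => f ⟨s, hSH s.2⟩)
        (fun s => ψ₀' (eS.symm s))
      rw [← h3]
      congr 1
    have h3 := congrArg (starRingEnd ℂ) h1
    rw [Helper80.classInner_conj_symm, Helper80.classInner_conj_symm] at h3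
    rw [h3, h2]
  · have h1 := classInner_comp_mulEquiv eQ (fun q : Q => ψ₀' (eS.symm ⟨q, hQS q.2⟩)) θ
    have h2 : (fun n : Q.subgroupOf H => ψ₀' (eS.symm ⟨(eQ n : Γ), hQS (eQ n).2⟩)) =
        fun n : Q.subgroupOf H => ψ₀' ⟨n, hNT n.2⟩ := by
      funext n
      congr 1
    rw [h2] at h1
    have h4 := classInner_comp_mulEquiv eQ (fun q : Q => χ ⟨q, hQH q.2⟩) θ
    rw [← h1, ← h4]
    exact hmult
  · intro ψ hψ h1 h2
    have h3 := huniq (fun t => ψ (eS t)) (Helper80.isIrrCharacter_comp_mulEquiv eS hψ)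
      (by
        have h4 := classInner_comp_mulEquiv eQ (fun q : Q => ψ ⟨q, hQS q.2⟩) θ
        exact fun h0 => h1 (h4.symm.trans h0))
      (by
        have h4 := classInner_comp_mulEquiv eS (fun s : S => χ ⟨s, hSH s.2⟩) ψ
        exact fun h0 => h2 (h4.symm.trans h0))
    funext s
    have h4 := congrFun h3 (eS.symm s)
    have h5 : ψ (eS (eS.symm s)) = ψ₀' (eS.symm s) := h4
    rw [eS.apply_symm_apply] at h5
    exact h5

/-- **Clifford correspondence**, relative form, for a given character of the stabiliser -/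
theorem clifford_rel_of (hQH : Q ≤ H) (hQn : ∀ h ∈ H, ∀ q ∈ Q, h * q * h⁻¹ ∈ Q) (hSH : S ≤ H)
    (hQS : Q ≤ S) {θ : Q → ℂ} (hθ : Cfsg.IsIrrCharacter Q θ)
    (hS : ∀ k ∈ H, k ∈ S ↔
      ∀ y : Γ, Cfsg.extendByZero Q θ (k⁻¹ * y * k) = Cfsg.extendByZero Q θ y)
    {χ : H → ℂ} (hχ : Cfsg.IsIrrCharacter H χ) {ψ : S → ℂ} (hψ : Cfsg.IsIrrCharacter S ψ)
    (h1 : Cfsg.classInner (fun q : Q => ψ ⟨q, hQS q.2⟩) θ ≠ 0)
    (h2 : Cfsg.classInner (fun s : S => χ ⟨s, hSH s.2⟩) ψ ≠ 0) :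
    (∀ f : H → ℂ, Cfsg.IsClassFunction H f →
      Cfsg.classInner f χ = Cfsg.classInner (fun s : S => f ⟨s, hSH s.2⟩) ψ) ∧
    ∀ ψ₁ : S → ℂ, Cfsg.IsIrrCharacter S ψ₁ →
      Cfsg.classInner (fun q : Q => ψ₁ ⟨q, hQS q.2⟩) θ ≠ 0 →
      Cfsg.classInner (fun s : S => χ ⟨s, hSH s.2⟩) ψ₁ ≠ 0 → ψ₁ = ψ := by
  have hχc := Helper80.isCharacter_of_isIrrCharacter hχ
  have h3 : Cfsg.classInner (fun q : Q => χ ⟨q, hQH q.2⟩) θ ≠ 0 :=
    constituent_trans (Subgroup.inclusion hQS)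
      (Helper80.isCharacter_comp (Subgroup.inclusion hSH) hχc) hψ
      (Helper80.isCharacter_of_isIrrCharacter hθ) h2 h1
  obtain ⟨ψ₀, hψ₀, hf, hmult, huniq⟩ := clifford_rel H Q S hQH hQn hSH hQS hθ hS hχ h3
  have h4 := huniq ψ hψ h1 h2
  subst h4
  exact ⟨hf, huniq⟩

/-- the Clifford correspondent occurs with multiplicity one -/
theorem clifford_rel_mult_one (hQH : Q ≤ H) (hQn : ∀ h ∈ H, ∀ q ∈ Q, h * q * h⁻¹ ∈ Q)
    (hSH : S ≤ H) (hQS : Q ≤ S) {θ : Q → ℂ} (hθ : Cfsg.IsIrrCharacter Q θ)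
    (hS : ∀ k ∈ H, k ∈ S ↔
      ∀ y : Γ, Cfsg.extendByZero Q θ (k⁻¹ * y * k) = Cfsg.extendByZero Q θ y)
    {χ : H → ℂ} (hχ : Cfsg.IsIrrCharacter H χ) {ψ : S → ℂ} (hψ : Cfsg.IsIrrCharacter S ψ)
    (h1 : Cfsg.classInner (fun q : Q => ψ ⟨q, hQS q.2⟩) θ ≠ 0)
    (h2 : Cfsg.classInner (fun s : S => χ ⟨s, hSH s.2⟩) ψ ≠ 0) :
    Cfsg.classInner (fun s : S => χ ⟨s, hSH s.2⟩) ψ = 1 := by
  have h3 := (clifford_rel_of H Q S hQH hQn hSH hQS hθ hS hχ hψ h1 h2).1 χ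
    (Helper80.isClassFunction_of_isCharacter (Helper80.isCharacter_of_isIrrCharacter hχ))
  rw [← h3, Helper80.classInner_irr_fun hχ hχ, if_pos rfl]

/-- an irreducible character of the stabiliser over `θ` lies under a unique irreducible
character -/
theorem clifford_rel_unique_above (hQH : Q ≤ H) (hQn : ∀ h ∈ H, ∀ q ∈ Q, h * q * h⁻¹ ∈ Q)
    (hSH : S ≤ H) (hQS : Q ≤ S) {θ : Q → ℂ} (hθ : Cfsg.IsIrrCharacter Q θ)
    (hS : ∀ k ∈ H, k ∈ S ↔
      ∀ y : Γ, Cfsg.extendByZero Q θ (k⁻¹ * y * k) = Cfsg.extendByZero Q θ y)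
    {χ χ₂ : H → ℂ} (hχ : Cfsg.IsIrrCharacter H χ) (hχ₂ : Cfsg.IsIrrCharacter H χ₂)
    {ψ : S → ℂ} (hψ : Cfsg.IsIrrCharacter S ψ)
    (h1 : Cfsg.classInner (fun q : Q => ψ ⟨q, hQS q.2⟩) θ ≠ 0)
    (h2 : Cfsg.classInner (fun s : S => χ ⟨s, hSH s.2⟩) ψ ≠ 0)
    (h2' : Cfsg.classInner (fun s : S => χ₂ ⟨s, hSH s.2⟩) ψ ≠ 0) : χ₂ = χ := by
  classical
  have h3 := (clifford_rel_of H Q S hQH hQn hSH hQS hθ hS hχ hψ h1 h2).1 χ₂
    (Helper80.isClassFunction_of_isCharacter (Helper80.isCharacter_of_isIrrCharacter hχ₂))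
  by_contra hne
  rw [Helper80.classInner_irr_fun hχ₂ hχ, if_neg hne] at h3
  exact h2' h3.symm

/-- **Clifford**: the irreducible constituents of the restriction to `Q` are conjugate -/
theorem clifford_conj_rel (hQH : Q ≤ H) (hQn : ∀ h ∈ H, ∀ q ∈ Q, h * q * h⁻¹ ∈ Q)
    {χ : H → ℂ} (hχ : Cfsg.IsIrrCharacter H χ) {θ θ₁ : Q → ℂ}
    (hθ : Cfsg.IsIrrCharacter Q θ) (hθ₁ : Cfsg.IsIrrCharacter Q θ₁)
    (h : Cfsg.classInner (fun q : Q => χ ⟨q, hQH q.2⟩) θ ≠ 0)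
    (h₁ : Cfsg.classInner (fun q : Q => χ ⟨q, hQH q.2⟩) θ₁ ≠ 0) :
    ∃ k ∈ H, ∀ y : Γ, Cfsg.extendByZero Q θ₁ y = Cfsg.extendByZero Q θ (k⁻¹ * y * k) := by
  classical
  haveI hn : (Q.subgroupOf H).Normal := by
    constructor
    intro n hn g
    rw [Subgroup.mem_subgroupOf] at hn ⊢
    exact hQn g g.2 n hn
  haveI : Fintype (Q.subgroupOf H) := Fintype.ofFinite _
  let eQ : Q.subgroupOf H ≃* Q := Subgroup.subgroupOfEquivOfLe hQH
  have hθN : Cfsg.IsIrrCharacter (Q.subgroupOf H) (fun n => θ (eQ n)) :=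
    Helper80.isIrrCharacter_comp_mulEquiv eQ hθ
  have hθ₁N : Cfsg.IsIrrCharacter (Q.subgroupOf H) (fun n => θ₁ (eQ n)) :=
    Helper80.isIrrCharacter_comp_mulEquiv eQ hθ₁
  have h' : Cfsg.classInner (fun n : Q.subgroupOf H => χ n) (fun n => θ (eQ n)) ≠ 0 := by
    have h1 : Cfsg.classInner (fun n : Q.subgroupOf H => χ n) (fun n => θ (eQ n)) =
        Cfsg.classInner (fun q : Q => χ ⟨q, hQH q.2⟩) θ :=
      classInner_comp_mulEquiv eQ (fun q : Q => χ ⟨q, hQH q.2⟩) θ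
    rw [h1]
    exact h
  have h₁' : Cfsg.classInner (fun n : Q.subgroupOf H => χ n) (fun n => θ₁ (eQ n)) ≠ 0 := by
    have h1 : Cfsg.classInner (fun n : Q.subgroupOf H => χ n) (fun n => θ₁ (eQ n)) =
        Cfsg.classInner (fun q : Q => χ ⟨q, hQH q.2⟩) θ₁ :=
      classInner_comp_mulEquiv eQ (fun q : Q => χ ⟨q, hQH q.2⟩) θ₁
    rw [h1]
    exact h₁
  obtain ⟨g, hg⟩ := Helper75.clifford_conj (Q.subgroupOf H) hχ hθN hθ₁N h' h₁'
  exact ⟨g, g.2, fun y => ((conjChar_rel_iff H Q hQH hQn θ θ₁ g).1 hg y).symm⟩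

/-- the multiplicities of conjugate characters in the restriction of a class function agree -/
theorem classInner_res_conj_rel (hQH : Q ≤ H) (hQn : ∀ h ∈ H, ∀ q ∈ Q, h * q * h⁻¹ ∈ Q)
    {f : H → ℂ} (hf : Cfsg.IsClassFunction H f) {θ θ₁ : Q → ℂ} (c : Γ) (hc : c ∈ H)
    (hconj : ∀ y : Γ, Cfsg.extendByZero Q θ₁ y = Cfsg.extendByZero Q θ (c⁻¹ * y * c)) :
    Cfsg.classInner (fun q : Q => f ⟨q, hQH q.2⟩) θ₁ =
      Cfsg.classInner (fun q : Q => f ⟨q, hQH q.2⟩) θ := by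
  have hcQ : ∀ q ∈ Q, c⁻¹ * q * c ∈ Q := by
    intro q hq
    have h1 := hQn c⁻¹ (H.inv_mem hc) q hq
    rwa [inv_inv] at h1
  let σ : Q ≃ Q :=
    { toFun := fun q => ⟨c⁻¹ * q * c, hcQ q q.2⟩
      invFun := fun q => ⟨c * q * c⁻¹, hQn c hc q q.2⟩
      left_inv := fun q => Subtype.ext (by simp [mul_assoc])
      right_inv := fun q => Subtype.ext (by simp [mul_assoc]) }
  unfold Cfsg.classInner
  congr 1
  refine Fintype.sum_equiv σ _ _ (fun q => ?_)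
  have h1 : θ₁ q = θ (σ q) := by
    rw [← Helper80.extendByZero_apply_mem Q θ₁ q, hconj]
    exact Helper80.extendByZero_apply_mem Q θ (σ q)
  have h2 : f ⟨(σ q : Γ), hQH (σ q).2⟩ = f ⟨q, hQH q.2⟩ := by
    have h3 := hf ⟨q, hQH q.2⟩ ⟨c⁻¹, H.inv_mem hc⟩
    rw [← h3]
    congr 1
    apply Subtype.ext
    simp [σ]
  show f ⟨q, hQH q.2⟩ * conj (θ₁ q) = f ⟨(σ q : Γ), hQH (σ q).2⟩ * conj (θ (σ q))
  rw [h1, h2]

end Rel

/-- **conjugacy of invariant points**: `A` is a `p`-group of automorphisms preserving `Q ≤ K`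
with `p ∤ |K : Q|`, and `C / Q` is the group of fixed points of `A` on `K / Q`.  If `F` and its
`K`-conjugate `F₁` are both `A`-invariant (and `F` is `Q`-invariant), they are `C`-conjugate. -/
theorem exists_conj_fix {Γ : Type u} [Group Γ] [Finite Γ] (K Q C : Subgroup Γ)
    (A : Subgroup (MulAut Γ)) (p : ℕ) [Fact p.Prime] (hA : IsPGroup p A)
    (hAK : ∀ a ∈ A, ∀ k ∈ K, a k ∈ K) (hAQ : ∀ a ∈ A, ∀ q ∈ Q, a q ∈ Q)
    (hQn : ∀ k ∈ K, ∀ q ∈ Q, k * q * k⁻¹ ∈ Q) (hpK : ¬ p ∣ Q.relIndex K)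
    (hC : ∀ x : Γ, x ∈ C ↔ x ∈ K ∧ ∀ a ∈ A, a x * x⁻¹ ∈ Q)
    {X : Type*} (F F₁ : Γ → X) (hFA : ∀ a ∈ A, ∀ y, F (a y) = F y)
    (hF₁A : ∀ a ∈ A, ∀ y, F₁ (a y) = F₁ y) (hFQ : ∀ q ∈ Q, ∀ y, F (q⁻¹ * y * q) = F y)
    (k : Γ) (hk : k ∈ K) (hconj : ∀ y, F₁ y = F (k⁻¹ * y * k)) :
    ∃ c ∈ C, ∀ y, F₁ y = F (c⁻¹ * y * c) := by
  classical
  haveI hn : (Q.subgroupOf K).Normal := by
    constructor
    intro n hn g
    rw [Subgroup.mem_subgroupOf] at hn ⊢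
    exact hQn g g.2 n hn
  let π : K →* K ⧸ Q.subgroupOf K := QuotientGroup.mk' _
  let ρ := quotAut K Q A hAK hAQ
  let T : Subgroup K :=
    { carrier := {t | ∀ y : Γ, F ((t : Γ)⁻¹ * y * (t : Γ)) = F y}
      one_mem' := by
        intro y
        simp
      mul_mem' := by
        intro s t hs ht y
        have e : ((s * t : K) : Γ)⁻¹ * y * ((s * t : K) : Γ) =
            (t : Γ)⁻¹ * ((s : Γ)⁻¹ * y * (s : Γ)) * (t : Γ) := by
          push_cast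
          group
        rw [e, ht, hs]
      inv_mem' := by
        intro t ht y
        have h1 := ht ((t : Γ) * y * (t : Γ)⁻¹)
        have e : (t : Γ)⁻¹ * ((t : Γ) * y * (t : Γ)⁻¹) * (t : Γ) = y := by group
        rw [e] at h1
        have e2 : ((t⁻¹ : K) : Γ)⁻¹ * y * ((t⁻¹ : K) : Γ) = (t : Γ) * y * (t : Γ)⁻¹ := by simp
        rw [e2]
        exact h1.symm }
  let Sbar : Subgroup (K ⧸ Q.subgroupOf K) := T.map π
  let k' : K := ⟨k, hk⟩
  let Xbar : Set (K ⧸ Q.subgroupOf K) := (fun y => π k' * y) '' (Sbar : Set _)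
  have hchar : ∀ x : K, π x ∈ Xbar ↔ ∀ y, F₁ y = F ((x : Γ)⁻¹ * y * (x : Γ)) := by
    intro x
    constructor
    · rintro ⟨_, ⟨t, ht, rfl⟩, hx⟩
      have hx' : π (k' * t) = π x := by
        rw [map_mul]
        exact hx
      have h1 : (k' * t)⁻¹ * x ∈ Q.subgroupOf K := QuotientGroup.eq.1 hx'
      have hqQ : (k * (t : Γ))⁻¹ * (x : Γ) ∈ Q := h1
      intro y
      have e : (x : Γ)⁻¹ * y * (x : Γ) = ((k * (t : Γ))⁻¹ * (x : Γ))⁻¹ *
          ((t : Γ)⁻¹ * (k⁻¹ * y * k) * (t : Γ)) * ((k * (t : Γ))⁻¹ * (x : Γ)) := by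
        group
      rw [e, hFQ _ hqQ, ht, hconj]
    · intro hx
      have ht : k'⁻¹ * x ∈ T := by
        intro y
        have e : ((k'⁻¹ * x : K) : Γ)⁻¹ * y * ((k'⁻¹ * x : K) : Γ) =
            (x : Γ)⁻¹ * (k * y * k⁻¹) * (x : Γ) := by
          have hk' : ((k' : K) : Γ) = k := rfl
          push_cast
          rw [hk']
          group
        rw [e, ← hx, hconj]
        congr 1
        group
      refine ⟨π (k'⁻¹ * x), ⟨k'⁻¹ * x, ht, rfl⟩, ?_⟩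
      show π k' * π (k'⁻¹ * x) = π x
      rw [← map_mul, mul_inv_cancel_left]
  have hinv : ∀ (a : A) (x : K ⧸ Q.subgroupOf K), x ∈ Xbar → ρ a x ∈ Xbar := by
    intro a x hx
    obtain ⟨x, rfl⟩ := QuotientGroup.mk'_surjective _ x
    have h1 := (hchar x).1 hx
    have h2 : ρ a (π x) = π (resAut K A hAK a x) := rfl
    rw [h2, hchar]
    intro y
    have e : ((resAut K A hAK a x : K) : Γ)⁻¹ * y * ((resAut K A hAK a x : K) : Γ) =
        a.1 ((x : Γ)⁻¹ * (a.1⁻¹ y) * (x : Γ)) := by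
      rw [resAut_apply, map_mul, map_mul, map_inv, MulAut.apply_inv_self]
    rw [e, hFA a.1 a.2, ← h1]
    have h3 := hF₁A a.1 a.2 (a.1⁻¹ y)
    rw [MulAut.apply_inv_self] at h3
    exact h3
  have hcard : ¬ p ∣ Nat.card Xbar := by
    have h1 : Nat.card Xbar = Nat.card Sbar :=
      Nat.card_image_of_injective (mul_right_injective (π k')) _
    rw [h1]
    intro hdvd
    apply hpK
    have h2 : Nat.card Sbar ∣ Nat.card (K ⧸ Q.subgroupOf K) := Subgroup.card_subgroup_dvd_card Sbar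
    rw [← Subgroup.index_eq_card] at h2
    exact dvd_trans hdvd h2
  letI : MulAction A Xbar :=
    { smul := fun a x => ⟨ρ a x.1, hinv a x.1 x.2⟩
      one_smul := fun x => Subtype.ext (by
        show ρ 1 x.1 = x.1
        rw [map_one]
        rfl)
      mul_smul := fun a b x => Subtype.ext (by
        show ρ (a * b) x.1 = ρ a (ρ b x.1)
        rw [map_mul]
        rfl) }
  obtain ⟨⟨x, hx⟩, hfix⟩ := hA.nonempty_fixed_point_of_prime_not_dvd_card Xbar hcard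
  obtain ⟨x, rfl⟩ := QuotientGroup.mk'_surjective _ x
  refine ⟨(x : Γ), ?_, (hchar x).1 hx⟩
  rw [hC]
  refine ⟨x.2, fun a ha => ?_⟩
  have h1 := hfix ⟨a, ha⟩
  have h2 : ρ ⟨a, ha⟩ (π x) = π x := congrArg Subtype.val h1
  have h3 : π (resAut K A hAK ⟨a, ha⟩ x) = π x := h2
  have h4 : x⁻¹ * (resAut K A hAK ⟨a, ha⟩ x) ∈ Q.subgroupOf K := QuotientGroup.eq.1 h3.symm
  have h5 : (x : Γ)⁻¹ * a (x : Γ) ∈ Q := h4
  have h6 := hQn x x.2 _ h5
  have e : (x : Γ) * ((x : Γ)⁻¹ * a (x : Γ)) * (x : Γ)⁻¹ = a (x : Γ) * (x : Γ)⁻¹ := by group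
  rwa [e] at h6

section Stab

variable {Γ : Type u} [Group Γ] (H Q : Subgroup Γ)

/-- the stabiliser in `H` of a function on `Q`, through its extension by zero -/
def stabSub (θ : Q → ℂ) : Subgroup Γ where
  carrier := {t | t ∈ H ∧
    ∀ y : Γ, Cfsg.extendByZero Q θ (t⁻¹ * y * t) = Cfsg.extendByZero Q θ y}
  one_mem' := ⟨H.one_mem, fun y => by simp⟩
  mul_mem' := by
    rintro s t ⟨hs, hs'⟩ ⟨ht, ht'⟩
    refine ⟨H.mul_mem hs ht, fun y => ?_⟩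
    have e : (s * t)⁻¹ * y * (s * t) = t⁻¹ * (s⁻¹ * y * s) * t := by group
    rw [e, ht', hs']
  inv_mem' := by
    rintro t ⟨ht, ht'⟩
    refine ⟨H.inv_mem ht, fun y => ?_⟩
    have h1 := ht' (t * y * t⁻¹)
    have e : t⁻¹ * (t * y * t⁻¹) * t = y := by group
    rw [e] at h1
    rw [inv_inv]
    exact h1.symm

theorem mem_stabSub (θ : Q → ℂ) (t : Γ) : t ∈ stabSub H Q θ ↔ t ∈ H ∧
    ∀ y : Γ, Cfsg.extendByZero Q θ (t⁻¹ * y * t) = Cfsg.extendByZero Q θ y := Iff.rfl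

theorem stabSub_le (θ : Q → ℂ) : stabSub H Q θ ≤ H := fun _ ht => ht.1

/-- the extension by zero of a class function of `Q` is invariant under conjugation by `Q` -/
theorem extendByZero_conj_mem {θ : Q → ℂ} (hθ : Cfsg.IsClassFunction Q θ) (q : Γ) (hq : q ∈ Q)
    (y : Γ) : Cfsg.extendByZero Q θ (q⁻¹ * y * q) = Cfsg.extendByZero Q θ y := by
  by_cases hy : y ∈ Q
  · have h1 := hθ ⟨y, hy⟩ ⟨q, hq⟩⁻¹
    have h2 := Helper80.extendByZero_apply_mem Q θ ((⟨q, hq⟩ : Q)⁻¹ * ⟨y, hy⟩ * (⟨q, hq⟩ : Q)⁻¹⁻¹)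
    have h3 := Helper80.extendByZero_apply_mem Q θ ⟨y, hy⟩
    have e : (((⟨q, hq⟩ : Q)⁻¹ * ⟨y, hy⟩ * (⟨q, hq⟩ : Q)⁻¹⁻¹ : Q) : Γ) = q⁻¹ * y * q := by simp
    rw [e] at h2
    rw [h2, h1]
    exact h3.symm
  · have hnm : q⁻¹ * y * q ∉ Q := by
      intro hm
      apply hy
      have h1 := Q.mul_mem (Q.mul_mem hq hm) (Q.inv_mem hq)
      have e : q * (q⁻¹ * y * q) * q⁻¹ = y := by group
      rwa [e] at h1
    rw [Helper80.extendByZero_apply_not_mem Q θ hnm, Helper80.extendByZero_apply_not_mem Q θ hy]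

theorem le_stabSub (hQH : Q ≤ H) {θ : Q → ℂ} (hθ : Cfsg.IsClassFunction Q θ) :
    Q ≤ stabSub H Q θ :=
  fun q hq => ⟨hQH hq, fun y => extendByZero_conj_mem Q hθ q hq y⟩

variable (A : Subgroup (MulAut Γ))

/-- the extension by zero of an invariant function is invariant -/
theorem extendByZero_inv (hAQ : ∀ a ∈ A, ∀ q ∈ Q, a q ∈ Q) {θ : Q → ℂ} (hθA : InvR A Q θ)
    (a : MulAut Γ) (ha : a ∈ A) (y : Γ) :
    Cfsg.extendByZero Q θ (a y) = Cfsg.extendByZero Q θ y := by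
  by_cases hy : y ∈ Q
  · have h1 := Helper80.extendByZero_apply_mem Q θ ⟨a y, hAQ a ha y hy⟩
    have h2 := Helper80.extendByZero_apply_mem Q θ ⟨y, hy⟩
    have h3 := hθA a ha ⟨y, hy⟩ (hAQ a ha y hy)
    exact (h1.trans h3).trans h2.symm
  · have hnm : a y ∉ Q := by
      intro hm
      apply hy
      have h1 := hAQ a⁻¹ (A.inv_mem ha) _ hm
      rwa [MulAut.inv_apply_self] at h1
    rw [Helper80.extendByZero_apply_not_mem Q θ hnm, Helper80.extendByZero_apply_not_mem Q θ hy]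

/-- the stabiliser of an invariant character is invariant -/
theorem stabSub_inv (hAH : ∀ a ∈ A, ∀ h ∈ H, a h ∈ H) (hAQ : ∀ a ∈ A, ∀ q ∈ Q, a q ∈ Q)
    {θ : Q → ℂ} (hθA : InvR A Q θ) :
    ∀ a ∈ A, ∀ t ∈ stabSub H Q θ, a t ∈ stabSub H Q θ := by
  rintro a ha t ⟨ht, ht'⟩
  refine ⟨hAH a ha t ht, fun y => ?_⟩
  have e : (a t)⁻¹ * y * a t = a (t⁻¹ * (a⁻¹ y) * t) := by
    rw [map_mul, map_mul, map_inv, MulAut.apply_inv_self]
  rw [e, extendByZero_inv Q A hAQ hθA a ha, ht', extendByZero_inv Q A hAQ hθA a⁻¹ (A.inv_mem ha)]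

end Stab

end Cfsg.Agent.Lib.Helper81
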